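import Cfsg.Agent.H55.PSLField
import Cfsg.Agent.H55.PSLAutTwo
import Cfsg.Agent.H33.TwoSubspaces

/-!
Automorphisms of `PSL(2, q)`: a power is inner; in characteristic two those fixing a Sylow
2-subgroup pointwise are inner.
-/

set_option autoImplicit false
set_option linter.style.haveILetI false
set_option linter.unusedSectionVars false

namespace H11.ThreeOrders

open Matrix H55

variable {F : Type*} [Field F] [Fintype F]

theorem sq_dvd_pow_add_one {q x : ℕ} (hq : q.Prime) (hq2 : q ≠ 2) (h : q ∣ x ^ q + 1) :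
    q ^ 2 ∣ x ^ q + 1 := by
  haveI := Fact.mk hq
  have hneg : (-1 : ℤ) ^ q = -1 := (hq.odd_of_ne_two hq2).neg_one_pow
  have h1 : (q : ℤ) ∣ (x : ℤ) - (-1) := by
    rw [← ZMod.intCast_zmod_eq_zero_iff_dvd]
    have := (ZMod.natCast_eq_zero_iff _ q).2 h
    push_cast at this ⊢
    rw [ZMod.pow_card] at this
    rw [sub_neg_eq_add]
    exact this
  have h2 := dvd_sub_pow_of_dvd_sub h1 1
  rw [pow_one, hneg, sub_neg_eq_add] at h2
  exact_mod_cast h2

theorem sq_dvd_pow_sub_one {q x : ℕ} (hq : q.Prime) (hx : 0 < x) (h : q ∣ x ^ q - 1) :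
    q ^ 2 ∣ x ^ q - 1 := by
  haveI := Fact.mk hq
  have hle : 1 ≤ x ^ q := Nat.one_le_pow _ _ hx
  have h1 : (q : ℤ) ∣ (x : ℤ) - 1 := by
    rw [← ZMod.intCast_zmod_eq_zero_iff_dvd]
    have := (ZMod.natCast_eq_zero_iff _ q).2 h
    rw [Nat.cast_sub hle] at this
    push_cast at this ⊢
    rw [ZMod.pow_card] at this
    exact this
  have h2 := dvd_sub_pow_of_dvd_sub h1 1
  rw [pow_one, one_pow] at h2
  have h3 : ((q ^ 2 : ℕ) : ℤ) ∣ ((x ^ q - 1 : ℕ) : ℤ) := by
    rw [Nat.cast_sub hle]; push_cast; exact h2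
  exact_mod_cast h3

/-- Conjugation by a matrix of square determinant is inner. -/
theorem conjP_inner_of_sq (g : GL (Fin 2) F) {c : F} (hc : c ^ 2 = (g : Mat 2 F).det) :
    ∃ s : PSLn 2 F, conjP g = MulAut.conj s := by
  have hd0 : (g : Mat 2 F).det ≠ 0 := (Matrix.GeneralLinearGroup.det g).ne_zero
  have hc0 : c ≠ 0 := by
    rintro rfl
    exact hd0 (by rw [← hc]; simp)
  let S : SLn 2 F := ⟨c⁻¹ • (g : Mat 2 F), by
    rw [Matrix.det_smul, Fintype.card_fin, ← hc, inv_pow, inv_mul_cancel₀ (pow_ne_zero 2 hc0)]⟩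
  refine ⟨pmk S, ?_⟩
  rw [← conjP_toGL]
  exact (conjP_eq_of_smul (inv_ne_zero hc0) (g := g) (h := Matrix.SpecialLinearGroup.toGL S) rfl).symm

/-- The `2f`-th power of any automorphism of `PSL(2, p ^ f)` is inner. -/
theorem psl2_aut_pow {p f : ℕ} [Fact p.Prime] [CharP F p] (hF : Fintype.card F = p ^ f)
    (α : MulAut (PSLn 2 F)) : ∃ s : PSLn 2 F, α ^ (2 * f) = MulAut.conj s := by
  obtain ⟨g, σ, rfl⟩ := aut_PSL_two α
  have hσ : σ ^ f = 1 := by
    have h := H33.TwoSub.card_ringEquiv (p := p) F (n := f) (by rw [Nat.card_eq_fintype_card, hF])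
    exact h ▸ pow_card_eq_one'
  rw [two_mul, pow_add, conj_field_pow, hσ, map_one, mul_one, ← map_mul]
  refine conjP_inner_of_sq _ (c := (twProd σ g f : Mat 2 F).det) ?_
  rw [Units.val_mul, Matrix.det_mul, sq]

/-- In characteristic two, an automorphism fixing the unitriangular subgroup pointwise is inner. -/
theorem psl2_fix_uni_inner [CharP F 2] (α : MulAut (PSLn 2 F))
    (hfix : ∀ v ∈ uniTriP 2 F, α v = v) : ∃ s : PSLn 2 F, α = MulAut.conj s := by
  haveI : Fact (Nat.Prime 2) := ⟨Nat.prime_two⟩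
  obtain ⟨g, σ, rfl⟩ := aut_PSL_two α
  set M := (g : Mat 2 F) with hM
  have key : ∀ a : F, M * ((xe h01 (σ a) : SLn 2 F) : Mat 2 F) = ((xe h01 a : SLn 2 F) : Mat 2 F) * M := by
    intro a
    have h := hfix (pmk (xe h01 a)) (by rw [uniTriP_two]; exact mem_Xij.2 ⟨a, rfl⟩)
    rw [MulAut.mul_apply, fieldP_xe, conjP_pmk, pmk_eq_iff] at h
    obtain ⟨c, hc, hcz⟩ := h
    rw [eq_one_of_pow_char hc, one_smul, coe_conjSL] at hcz
    rw [hcz, Matrix.mul_assoc, GL_inv_mul, Matrix.mul_one]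
  have h00 : ∀ a : F, M 1 0 * a = 0 ∧ M 0 0 * σ a = a * M 1 1 := by
    intro a
    have e0 := congr_fun (congr_fun (key a) 0) 0
    have e1 := congr_fun (congr_fun (key a) 0) 1
    simp [Matrix.SpecialLinearGroup.transvection_coe, Matrix.mul_apply, Fin.sum_univ_two] at e0 e1
    constructor
    · rcases e0 with e0 | e0 <;> rw [e0] <;> ring
    · linear_combination e1
  have h10 : M 1 0 = 0 := by simpa using (h00 1).1
  have hdiag : M 0 0 = M 1 1 := by simpa using (h00 1).2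
  have hne : M 0 0 ≠ 0 := by
    intro h
    refine (Matrix.GeneralLinearGroup.det g).ne_zero ?_
    show M.det = 0
    rw [Matrix.det_fin_two, h, h10]; ring
  have hσ : σ = 1 := RingEquiv.ext fun a => by
    have := (h00 a).2
    rw [← hdiag, mul_comm a] at this
    exact mul_left_cancel₀ hne this
  subst hσ
  rw [map_one, mul_one]
  refine conjP_inner_of_sq g (c := M 0 0) ?_
  rw [← hM, Matrix.det_fin_two, h10, ← hdiag]; ring

end H11.ThreeOrders
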