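import Cfsg.Agent.H11.ThreeOrders.Basic
import Cfsg.Agent.H59.OneComp.Basic

/-!
Groups in which no prime divides three element orders and some element has order twice an odd
prime: elementary consequences.
-/

set_option autoImplicit false
set_option linter.unusedSectionVars false
set_option linter.style.haveILetI false

namespace H11.ThreeOrders

open Subgroup

universe u

/-- The standing hypothesis of the mixed case. -/
structure Mix (G : Type u) [Group G] (q : ℕ) : Prop where
  cond : Cond G
  prime : q.Prime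
  ne_two : q ≠ 2
  elt : ∃ x : G, orderOf x = 2 * q

variable {G : Type u} [Group G] [Finite G] {q : ℕ}

namespace Mix

variable (h : Mix G q)
include h

theorem odd_q : Odd q := h.prime.odd_of_ne_two h.ne_two

theorem two_lt : 2 < q := lt_of_le_of_ne h.prime.two_le (Ne.symm h.ne_two)

theorem exists_pair : ∃ t x : G, orderOf t = 2 ∧ orderOf x = q ∧ Commute x t := by
  obtain ⟨g, hg⟩ := h.elt
  exact ⟨g ^ (orderOf g / 2), g ^ (orderOf g / q), orderOf_div g (by rw [hg]; exact dvd_mul_right 2 q),
    orderOf_div g (by rw [hg]; exact dvd_mul_left q 2), Commute.pow_pow (Commute.refl g) _ _⟩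

theorem no_four (g : G) : orderOf g ≠ 4 := fun hg => by
  obtain ⟨x, hx⟩ := h.elt
  have := h.two_lt
  exact h.cond.false_of Nat.prime_two
    (exists_invol_pow (x := g) (by rw [hg]; decide)) hg hx (by omega) (by omega) (by omega) dvd_rfl
    (by decide) (dvd_mul_right 2 q)

theorem orders_q {g : G} (hg : q ∣ orderOf g) : orderOf g = q ∨ orderOf g = 2 * q := by
  obtain ⟨x, hx⟩ := h.elt
  have := h.two_lt
  by_contra hc
  push Not at hc
  exact h.cond.false_of h.prime (orderOf_div x (hx ▸ dvd_mul_left q 2)) hx rfl (by omega) (Ne.symm hc.2)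
    (Ne.symm hc.1) dvd_rfl (dvd_mul_left q 2) hg

theorem order_q_of_odd {g : G} (hg : q ∣ orderOf g) (ho : Odd (orderOf g)) : orderOf g = q :=
  (h.orders_q hg).resolve_right fun e => by
    rw [e] at ho; exact Nat.not_odd_iff_even.2 (even_two_mul q) ho

/-- Even element orders are `2` and `2q`. -/
theorem even_order {g : G} (hg : 2 ∣ orderOf g) : orderOf g = 2 ∨ orderOf g = 2 * q := by
  rcases h.cond.even_cases hg with h1 | h1 | ⟨r, hr, -, h1⟩
  · exact Or.inl h1
  · exact absurd h1 (h.no_four g)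
  · obtain ⟨x, hx⟩ := h.elt
    exact Or.inr (h.cond.two_mul_unique hr h.prime h1 hx ▸ h1)

theorem sq_of_two_pow {g : G} {k : ℕ} (hg : orderOf g = 2 ^ k) : g * g = 1 := by
  rcases k.eq_zero_or_pos with rfl | hk
  · rw [orderOf_eq_one_iff.1 (hg.trans (pow_zero 2)), one_mul]
  rcases h.even_order (hg ▸ dvd_pow_self 2 hk.ne') with h1 | h1
  · exact H59.OneComp.invol_sq h1
  · have : q ∣ 2 ^ k := Dvd.intro_left 2 (h1.symm.trans hg)
    exact absurd ((Nat.prime_dvd_prime_iff_eq h.prime Nat.prime_two).1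
      (h.prime.dvd_of_dvd_pow this)) h.ne_two

theorem sq_of_isPGroup {H : Subgroup G} (hH : IsPGroup 2 H) : ∀ x ∈ H, x * x = 1 := fun x hx => by
  haveI : Fact (Nat.Prime 2) := ⟨Nat.prime_two⟩
  obtain ⟨k, hk⟩ := IsPGroup.iff_orderOf.1 hH ⟨x, hx⟩
  rw [orderOf_mk] at hk
  exact h.sq_of_two_pow hk

theorem elemAb_of_isPGroup {H : Subgroup G} (hH : IsPGroup 2 H) :
    Cfsg.IsElementaryAbelian 2 H :=
  ⟨⟨⟨fun a b => Subtype.ext (by
    have ha := inv_eq_of_mul_eq_one_right (h.sq_of_isPGroup hH a a.2)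
    have hb := inv_eq_of_mul_eq_one_right (h.sq_of_isPGroup hH b b.2)
    have hab := inv_eq_of_mul_eq_one_right (h.sq_of_isPGroup hH _ (H.mul_mem a.2 b.2))
    rw [mul_inv_rev, ha, hb] at hab
    simpa using hab.symm)⟩⟩, fun x hx => by rw [sq]; exact h.sq_of_isPGroup hH x hx⟩

theorem comm_of_isPGroup {H : Subgroup G} (hH : IsPGroup 2 H) : IsMulCommutative H :=
  (h.elemAb_of_isPGroup hH).1

/-- An element of odd order commuting with an involution has order `q`. -/
theorem eq_q_of_commute {t g : G} (ht : orderOf t = 2) (hc : Commute g t) (ho : Odd (orderOf g))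
    (hg : g ≠ 1) : orderOf g = q := by
  have hm : orderOf (g * t) = orderOf g * 2 := by
    rw [hc.orderOf_mul_eq_mul_orderOf_of_coprime (by rw [ht]; exact Nat.coprime_two_right.2 ho), ht]
  rcases h.even_order (g := g * t) (hm ▸ dvd_mul_left 2 _) with h1 | h1
  · exact absurd (orderOf_eq_one_iff.1 (by omega)) hg
  · omega

theorem eq_of_commute_q {x y : G} (hx : orderOf x = q) (hc : Commute y x) (hy : (orderOf y).Prime) :
    orderOf y = 2 ∨ orderOf y = q := by
  by_contra hc'
  push Not at hc'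
  have hm : orderOf (y * x) = orderOf y * q := by
    rw [hc.orderOf_mul_eq_mul_orderOf_of_coprime (by
      rw [hx]; exact (Nat.coprime_primes hy h.prime).2 hc'.2), hx]
  rcases h.orders_q (g := y * x) (hm ▸ dvd_mul_left q _) with h1 | h1
  · rw [hm] at h1
    exact hy.ne_one ((Nat.mul_eq_right h.prime.ne_zero).1 h1)
  · rw [hm] at h1
    exact hc'.1 (Nat.eq_of_mul_eq_mul_right h.prime.pos h1)

theorem primes_centralizer {z : G} (hz : orderOf z = 2 ∨ orderOf z = q) (r : ℕ) (hr : r.Prime)
    (hd : r ∣ Nat.card (centralizer ({z} : Set G))) : r = 2 ∨ r = q := by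
  haveI := Fact.mk hr
  obtain ⟨⟨y, hy⟩, hyo⟩ := exists_prime_orderOf_dvd_card' r hd
  rw [orderOf_mk] at hyo
  have hc : Commute y z := mem_centralizer_singleton_iff.1 hy
  rcases hz with hz | hz
  · by_cases hr2 : r = 2
    · exact Or.inl hr2
    · exact Or.inr (hyo ▸ h.eq_q_of_commute hz hc (by rw [hyo]; exact hr.odd_of_ne_two hr2)
        (fun h1 => hr.ne_one (by rw [← hyo, h1, orderOf_one])))
  · exact hyo ▸ h.eq_of_commute_q hz hc (by rw [hyo]; exact hr)

theorem solvable_centralizer {z : G} (hz : orderOf z = 2 ∨ orderOf z = q) :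
    Group.IsSolvable (centralizer ({z} : Set G)) :=
  H33.isSolvable_of_two_primes Nat.prime_two h.prime (h.primes_centralizer hz)

theorem isPGroup_of_odd {K : Subgroup G} (hK : Odd (Nat.card K)) {z : G}
    (hz : orderOf z = 2 ∨ orderOf z = q) (hKC : K ≤ centralizer ({z} : Set G)) : IsPGroup q K := by
  refine IsPGroup.of_card (n := (Nat.card K).primeFactorsList.length)
    (Nat.eq_prime_pow_of_unique_prime_dvd Nat.card_pos.ne' fun {d} hd hdd => ?_)
  rcases h.primes_centralizer hz d hd (hdd.trans (card_dvd_of_le hKC)) with rfl | rfl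
  · exact absurd (even_iff_two_dvd.2 hdd) (Nat.not_even_iff_odd.2 hK)
  · rfl

end Mix

end H11.ThreeOrders
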