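import Cfsg.Agent.H11.ThreeOrders.Mixed.Fixity
import Cfsg.Agent.H66.FeitPrimePow

/-!
Mixed case, `q` prime to `|S| - 1`: orders of the point stabiliser and the case of trivial
centralisers of swapping involutions.
-/

set_option autoImplicit false
set_option linter.style.haveILetI false
set_option linter.unusedSectionVars false

namespace H11.ThreeOrders

open Subgroup

universe u

variable {G : Type u} [Group G] [Finite G] {q : ℕ} {S : Sylow 2 G}

namespace Cfg

variable (h : Cfg S q)
include h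

/-- The prime used for transitivity. -/
theorem exists_noFix : ∃ l, l.Prime ∧ l ∣ nInv S ∧ NoFix S l := by
  have hm := h.three_le_nInv
  refine ⟨(nInv S).minFac, Nat.minFac_prime (by omega), Nat.minFac_dvd _, ?_⟩
  intro a b u hab hu _ hd
  haveI := Fact.mk h.mix.prime
  obtain ⟨k, hk⟩ := IsPGroup.iff_card.1 (h.isPGroup_fix hab hu)
  have hl : (nInv S).minFac.Prime := Nat.minFac_prime (by omega)
  exact h.not_dvd_nInv ((Nat.prime_dvd_prime_iff_eq hl h.mix.prime).1 (hl.dvd_of_dvd_pow (hk ▸ hd)) ▸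
    Nat.minFac_dvd _)

theorem noFix_of_ne {l : ℕ} (hl : l.Prime) (hlq : l ≠ q) : NoFix S l := by
  intro a b u hab hu _ hd
  haveI := Fact.mk h.mix.prime
  obtain ⟨k, hk⟩ := IsPGroup.iff_card.1 (h.isPGroup_fix hab hu)
  exact hlq ((Nat.prime_dvd_prime_iff_eq hl h.mix.prime).1 (hl.dvd_of_dvd_pow (hk ▸ hd)))

theorem transitive {a b c : Pts S} (hab : a ≠ b) (hac : a ≠ c) : ∃ g : G, g • a = a ∧ g • b = c := by
  obtain ⟨l, hl, hd, hn⟩ := h.exists_noFix
  haveI := Fact.mk hl
  exact h.transitive_stab hn hd hab hac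

theorem card_stab_eq_duo {a b : Pts S} (hab : a ≠ b) :
    Nat.card (MulAction.stabilizer G a) = (Nat.card (Pts S) - 1) * Nat.card (Duo G a b) := by
  classical
  set N := MulAction.stabilizer G a
  have horb : MulAction.orbit N b = {c : Pts S | c ≠ a} := by
    ext c
    constructor
    · rintro ⟨g, rfl⟩ e
      exact hab (MulAction.injective (g : G) ((show (g : G) • a = a from g.2).trans e.symm))
    · intro hc
      obtain ⟨g, hga, hgb⟩ := h.transitive hab (Ne.symm hc)
      exact ⟨⟨g, hga⟩, hgb⟩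
  have hst : MulAction.stabilizer N b = (Duo G a b).subgroupOf N := by
    ext g
    show (g : G) • b = b ↔ (g : G) ∈ Duo G a b
    exact ⟨fun e => mem_inf.2 ⟨g.2, e⟩, fun e => (mem_inf.1 e).2⟩
  haveI := Fintype.ofFinite (Pts S)
  rw [← (MulAction.stabilizer N b).card_mul_index, MulAction.index_stabilizer, horb, hst,
    Nat.card_congr (subgroupOfEquivOfLe (show Duo G a b ≤ N from inf_le_left)).toEquiv, mul_comm,
    show {c : Pts S | c ≠ a} = ({a} : Set (Pts S))ᶜ from rfl, Set.ncard_compl, Set.ncard_singleton]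

theorem card_stab_eq_cent {a : Pts S} {t : G} (ht : orderOf t = 2) (hta : t • a = a) :
    Nat.card (MulAction.stabilizer G a) = nInv S * Nat.card (centralizer ({t} : Set G)) := by
  classical
  set N := MulAction.stabilizer G a
  have hfix : ∀ g : N, (g : G) • a = a := fun g => g.2
  letI : MulAction N (InvAt S a) :=
    { smul := fun g s => ⟨(g : G) * s.1 * (g : G)⁻¹, H67.invol_conj s.2.1 g, by
        rw [mul_smul, mul_smul, inv_smul_eq_iff.2 (hfix g).symm, s.2.2, hfix g]⟩
      one_smul := fun s => Subtype.ext (show ((1 : N) : G) * s.1 * ((1 : N) : G)⁻¹ = s.1 by simp)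
      mul_smul := fun g k s => Subtype.ext (show ((g * k : N) : G) * s.1 * ((g * k : N) : G)⁻¹
        = (g : G) * ((k : G) * s.1 * (k : G)⁻¹) * (g : G)⁻¹ by simp [mul_assoc]) }
  haveI : Finite (InvAt S a) := Subtype.finite
  set T : InvAt S a := ⟨t, ht, hta⟩
  have horb : MulAction.orbit N T = Set.univ := by
    refine Set.eq_univ_iff_forall.2 fun s => ?_
    obtain ⟨g, hg⟩ := isConj_iff.1 (H67.se_isConj h.se ht s.2.1)
    have hga : g • a = a := by
      refine h.eq_of_fixed s.2.1 ?_ s.2.2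
      rw [← hg, mul_smul, mul_smul, inv_smul_smul, hta]
    exact ⟨⟨g, hga⟩, Subtype.ext hg⟩
  have hle : centralizer ({t} : Set G) ≤ N := fun g hg =>
    h.fixed_of_commute ht hta (mem_centralizer_singleton_iff.1 hg : Commute g t).symm
  have hst : MulAction.stabilizer N T = (centralizer ({t} : Set G)).subgroupOf N := by
    ext g
    rw [MulAction.mem_stabilizer_iff, mem_subgroupOf, mem_centralizer_singleton_iff]
    exact ⟨fun e => mul_inv_eq_iff_eq_mul.1 (congrArg Subtype.val e),
      fun e => Subtype.ext (mul_inv_eq_iff_eq_mul.2 e)⟩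
  rw [← (MulAction.stabilizer N T).card_mul_index, MulAction.index_stabilizer, horb, hst,
    Nat.card_congr (subgroupOfEquivOfLe hle).toEquiv, Set.ncard_univ, h.card_invAt, mul_comm]

theorem card_cent {t : G} (ht : orderOf t = 2) :
    ∃ k, Nat.card (centralizer ({t} : Set G)) = (nInv S + 1) * q ^ k := by
  haveI : Fact (Nat.Prime 2) := ⟨Nat.prime_two⟩
  obtain ⟨s, hs, hsS⟩ := h.exists_invol_base
  obtain ⟨g, hg⟩ := isConj_iff.1 (H67.se_isConj h.se hs ht)
  set C := centralizer ({s} : Set G)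
  have hcard : Nat.card (centralizer ({t} : Set G)) = Nat.card C := by
    refine Nat.card_congr ((MulAut.conj g⁻¹).toEquiv.subtypeEquiv fun c => ?_)
    show c ∈ centralizer ({t} : Set G) ↔ g⁻¹ * c * g⁻¹⁻¹ ∈ C
    rw [mem_centralizer_singleton_iff, mem_centralizer_singleton_iff, inv_inv, ← hg]
    constructor
    · intro e
      calc g⁻¹ * c * g * s = g⁻¹ * (c * (g * s * g⁻¹)) * g := by group
        _ = g⁻¹ * (g * s * g⁻¹ * c) * g := by rw [e]
        _ = _ := by group
    · intro e
      calc c * (g * s * g⁻¹) = g * (g⁻¹ * c * g * s) * g⁻¹ := by group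
        _ = g * (s * (g⁻¹ * c * g)) * g⁻¹ := by rw [e]
        _ = _ := by group
  have hle : (S : Subgroup G) ≤ C := fun x hx => mem_centralizer_singleton_iff.2
    (congrArg Subtype.val ((h.mix.comm_of_isPGroup S.isPGroup').is_comm.comm
      (⟨x, hx⟩ : (S : Subgroup G)) ⟨s, hsS⟩))
  set T := S.subtype hle
  have hT : Nat.card (T : Subgroup C) = nInv S + 1 := by
    rw [show (T : Subgroup C) = (S : Subgroup G).subgroupOf C from rfl,
      Nat.card_congr (subgroupOfEquivOfLe hle).toEquiv]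
    have := h.big
    unfold nInv
    omega
  obtain ⟨k, hk⟩ : ∃ k, (T : Subgroup C).index = q ^ k :=
    ⟨_, Nat.eq_prime_pow_of_unique_prime_dvd (Subgroup.index_ne_zero_of_finite) fun {d} hd hdd => by
      rcases h.mix.primes_centralizer (Or.inl hs) d hd (hdd.trans (index_dvd_card _)) with rfl | rfl
      · exact absurd hdd T.not_dvd_index
      · rfl⟩
  exact ⟨k, by rw [hcard, ← (T : Subgroup C).card_mul_index, hT, hk]⟩

theorem card_points {a b : Pts S} (hab : a ≠ b) {u t : G} (hu : orderOf u = 2) (hua : u • a = b)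
    (ht : orderOf t = 2) (hta : t • a = a) :
    (Nat.card (Pts S) - 1) * Nat.card (Duo G a b ⊓ centralizer ({u} : Set G) : Subgroup G) =
      Nat.card (centralizer ({t} : Set G)) := by
  refine Nat.eq_of_mul_eq_mul_left (show 0 < nInv S by have := h.three_le_nInv; omega) ?_
  rw [← h.card_stab_eq_cent ht hta, h.card_stab_eq_duo hab, h.card_duo hab hu hua]
  ring

/-- The Zassenhaus case is impossible. -/
theorem exists_fix [IsSimpleGroup G] : ∃ (a b : Pts S) (u x : G), a ≠ b ∧ orderOf u = 2 ∧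
    u • a = b ∧ x ∈ Duo G a b ∧ Commute x u ∧ orderOf x = q := by
  classical
  haveI := Fact.mk h.mix.prime
  by_contra hno
  have hW : ∀ (a b : Pts S) (u : G), a ≠ b → orderOf u = 2 → u • a = b →
      Nat.card (Duo G a b) = nInv S := by
    intro a b u hab hu hua
    rw [h.card_duo hab hu hua, Subgroup.card_eq_one.2, mul_one]
    rw [Subgroup.eq_bot_iff_forall]
    intro x hx
    by_contra hx1
    have hxu : Commute x u := mem_centralizer_singleton_iff.1 (mem_inf.1 hx).2
    exact hno ⟨a, b, u, x, hab, hu, hua, (mem_inf.1 hx).1, hxu,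
      h.order_q hu hxu ((h.duo_odd hab).of_dvd_nat (Subgroup.orderOf_dvd_natCard _ (mem_inf.1 hx).1)) hx1⟩
  have hfix3 : ∀ g : G, ∀ a b c : Pts S, a ≠ b → b ≠ c → a ≠ c → g • a = a → g • b = b → g • c = c →
      g = 1 := by
    intro g a b c hab hbc hac ha hb hc
    by_contra hg
    obtain ⟨r, hr, hrd⟩ := Nat.exists_prime_and_dvd (fun e => hg (orderOf_eq_one_iff.1 e))
    haveI := Fact.mk hr
    set y := g ^ (orderOf g / r) with hy
    have hyo : orderOf y = r ^ 1 := by rw [pow_one]; exact orderOf_div g hrd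
    have hy1 : y ≠ 1 := fun e => hr.ne_one (by rw [← pow_one r, ← hyo, e, orderOf_one])
    obtain ⟨u, hu, hua, -⟩ := h.exists_swap hab
    have hyD : y ∈ Duo G a b := pow_mem (mem_inf.2 ⟨ha, hb⟩ : g ∈ Duo G a b) _
    have hrm : r ∣ nInv S := by
      rw [← hW a b u hab hu hua]
      have := Subgroup.orderOf_dvd_natCard _ hyD
      rwa [hyo, pow_one] at this
    have hrq : r ≠ q := fun e => h.not_dvd_nInv (e ▸ hrm)
    have hyc : y • c = c :=
      (pow_mem (show g ∈ MulAction.stabilizer G c from hc) _ : y ∈ MulAction.stabilizer G c)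
    rcases h.two_fixed (h.noFix_of_ne hr hrq) hab hyD hyo hy1 hyc with e | e
    · exact hac e.symm
    · exact hbc e.symm
  obtain ⟨a₀, b₀, hab₀⟩ : ∃ a b : Pts S, a ≠ b := by
    obtain ⟨u, hu, huN⟩ := H67.se_exists_invol_not_mem h.se
    exact ⟨QuotientGroup.mk 1, QuotientGroup.mk u, fun e => huN (by simpa using QuotientGroup.eq.1 e)⟩
  obtain ⟨u₀, hu₀, hua₀, -⟩ := h.exists_swap hab₀
  have hDne : Duo G a₀ b₀ ≠ ⊥ := fun e => by
    have := hW a₀ b₀ u₀ hab₀ hu₀ hua₀
    rw [e, Subgroup.card_bot] at this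
    have := h.three_le_nInv
    omega
  obtain ⟨d, hd, hd1⟩ := (Subgroup.bot_or_exists_ne_one _).resolve_left hDne
  letI : Fintype (Pts S) := Fintype.ofFinite _
  have hZ : Cfsg.IsZassenhausGroup G (Pts S) := by
    refine ⟨?_, ?_, hfix3, ⟨d, hd1, a₀, b₀, hab₀, (mem_inf.1 hd).1, (mem_inf.1 hd).2⟩, ?_⟩
    · have hker : (MulAction.toPermHom G (Pts S)).ker = ⊥ := by
        refine (IsSimpleGroup.eq_bot_or_eq_top_of_normal _ (MonoidHom.normal_ker _)).resolve_right
          fun e => ?_
        rw [← Subgroup.normalCore_eq_ker] at e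
        exact h.se.1 (eq_top_iff.2 (e ▸ normalCore_le _))
      exact ⟨fun {x y} hxy => (MonoidHom.ker_eq_bot_iff _).1 hker (Equiv.ext hxy)⟩
    · rw [MulAction.is_two_pretransitive_iff]
      intro a c a' c' hac hac'
      obtain ⟨k, hk⟩ := MulAction.exists_smul_eq G a a'
      obtain ⟨g, hga, hgc⟩ := h.transitive (a := a') (b := k • c) (c := c')
        (fun e => hac (MulAction.injective k (hk.trans e))) hac'
      exact ⟨g * k, by rw [mul_smul, hk, hga], by rw [mul_smul, hgc]⟩
    · intro K hK htr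
      rcases hK.eq_bot_or_eq_top with rfl | rfl
      · obtain ⟨k, hk⟩ := htr.exists_smul_eq a₀ b₀
        obtain rfl : k = 1 := Subsingleton.elim _ _
        exact absurd ((one_smul G _).symm.trans hk) hab₀
      · refine ⟨a₀, fun e => hd1 ?_⟩
        have h1 : (⟨d, mem_top _⟩ : (⊤ : Subgroup G)) ∈ (⊥ : Subgroup (⊤ : Subgroup G)) :=
          e ▸ MulAction.mem_stabilizer_iff.2 (mem_inf.1 hd).1
        rw [Subgroup.mem_bot] at h1
        exact congrArg Subtype.val h1
  obtain ⟨l, n, hl, -, hln⟩ := (isPrimePow_nat_iff _).1 (H66.Feit.isPrimePow_degree hZ)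
  obtain ⟨t, x, ht, hx, hc⟩ := h.mix.exists_pair
  obtain ⟨a, hta⟩ := h.exists_fixed ht
  obtain ⟨b, hab⟩ : ∃ b : Pts S, a ≠ b := by
    by_cases h0 : a = a₀
    · exact ⟨b₀, h0 ▸ hab₀⟩
    · exact ⟨a₀, h0⟩
  obtain ⟨u, hu, hua, -⟩ := h.exists_swap hab
  have hC : Nat.card (centralizer ({t} : Set G)) = l ^ n := by
    refine Nat.eq_of_mul_eq_mul_left (show 0 < nInv S by have := h.three_le_nInv; omega) ?_
    rw [← h.card_stab_eq_cent ht hta, h.card_stab_eq_duo hab, hW a b u hab hu hua, hln,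
      Nat.card_eq_fintype_card, mul_comm]
  have h2 : 2 ∣ Nat.card (centralizer ({t} : Set G)) := by
    rw [← ht]; exact Subgroup.orderOf_dvd_natCard _ (mem_centralizer_singleton_iff.2 rfl)
  have hqd : q ∣ Nat.card (centralizer ({t} : Set G)) := by
    rw [← hx]; exact Subgroup.orderOf_dvd_natCard _ (mem_centralizer_singleton_iff.2 hc.eq)
  have e2 := (Nat.prime_dvd_prime_iff_eq Nat.prime_two hl).1 (Nat.prime_two.dvd_of_dvd_pow (hC ▸ h2))
  have eq' := (Nat.prime_dvd_prime_iff_eq h.mix.prime hl).1 (h.mix.prime.dvd_of_dvd_pow (hC ▸ hqd))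
  exact h.mix.ne_two (eq'.trans e2.symm)

end Cfg

end H11.ThreeOrders
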