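import Cfsg.Agent.H11.ThreeOrders.Mixed.Three
import Cfsg.Agent.H2.FrobeniusBasic
import Cfsg.Agent.S0035

/-!
Mixed case, degree `|S| + 1`: the elements `τ ρ` and `τ ρ u τ'` form a proper normal subgroup.
-/

set_option autoImplicit false
set_option linter.style.haveILetI false
set_option linter.unusedSectionVars false

namespace H11.ThreeOrders

open Subgroup
open scoped Pointwise

universe u

variable {G : Type u} [Group G] [Finite G] {q : ℕ} {S : Sylow 2 G}

/-- The candidate subgroup. -/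
def BruhatSet (T R : Subgroup G) (u : G) : Set G :=
  {g | (∃ τ ∈ T, ∃ r ∈ R, g = τ * r) ∨ ∃ τ ∈ T, ∃ r ∈ R, ∃ τ' ∈ T, g = τ * r * u * τ'}

theorem card_bruhat_le (T R : Subgroup G) (u : G) :
    Nat.card (BruhatSet T R u) ≤ Nat.card T * Nat.card R + Nat.card T * Nat.card R * Nat.card T := by
  rw [← Nat.card_prod, ← Nat.card_prod, ← Nat.card_sum]
  refine Nat.card_le_card_of_surjective (fun p : (T × R) ⊕ ((T × R) × T) => (Sum.elim
    (fun p => ⟨(p.1 : G) * p.2, Or.inl ⟨_, p.1.2, _, p.2.2, rfl⟩⟩)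
    (fun p => ⟨(p.1.1 : G) * p.1.2 * u * p.2, Or.inr ⟨_, p.1.1.2, _, p.1.2.2, _, p.2.2, rfl⟩⟩) p :
      BruhatSet T R u)) ?_
  rintro ⟨g, ⟨τ, hτ, r, hr, rfl⟩ | ⟨τ, hτ, r, hr, τ', hτ', rfl⟩⟩
  · exact ⟨Sum.inl (⟨τ, hτ⟩, ⟨r, hr⟩), rfl⟩
  · exact ⟨Sum.inr ((⟨τ, hτ⟩, ⟨r, hr⟩), ⟨τ', hτ'⟩), rfl⟩

theorem closure_bruhat_le (T R : Subgroup G) {u : G} (hu : u * u = 1)
    (hRT : ∀ r ∈ R, ∀ τ ∈ T, r * τ * r⁻¹ ∈ T) (hur : ∀ r ∈ R, u * r * u = r⁻¹)
    (hkey : ∀ τ ∈ T, τ ≠ 1 → u * τ * u ∈ {g | ∃ α ∈ T, ∃ β ∈ R, ∃ γ ∈ T, g = α * β * u * γ}) :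
    (closure ((T : Set G) ∪ R ∪ {u}) : Set G) ⊆ BruhatSet T R u := by
  have hu' : u⁻¹ = u := inv_eq_of_mul_eq_one_right hu
  have hRT' : ∀ r ∈ R, ∀ τ ∈ T, r⁻¹ * τ * r ∈ T := fun r hr τ hτ => by
    simpa using hRT r⁻¹ (inv_mem hr) τ hτ
  have hur' : ∀ r ∈ R, u * r = r⁻¹ * u := fun r hr => by
    calc u * r = u * r * (u * u) := by rw [hu, mul_one]
      _ = (u * r * u) * u := by group
      _ = _ := by rw [hur r hr]
  have hT : ∀ s ∈ T, ∀ g ∈ BruhatSet T R u, s * g ∈ BruhatSet T R u := by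
    rintro s hs g (⟨τ, hτ, r, hr, rfl⟩ | ⟨τ, hτ, r, hr, τ', hτ', rfl⟩)
    · exact Or.inl ⟨_, mul_mem hs hτ, r, hr, by group⟩
    · exact Or.inr ⟨_, mul_mem hs hτ, r, hr, τ', hτ', by group⟩
  have hR : ∀ s ∈ R, ∀ g ∈ BruhatSet T R u, s * g ∈ BruhatSet T R u := by
    rintro s hs g (⟨τ, hτ, r, hr, rfl⟩ | ⟨τ, hτ, r, hr, τ', hτ', rfl⟩)
    · exact Or.inl ⟨_, hRT s hs τ hτ, _, mul_mem hs hr, by group⟩
    · exact Or.inr ⟨_, hRT s hs τ hτ, _, mul_mem hs hr, τ', hτ', by group⟩
  have hU : ∀ g ∈ BruhatSet T R u, u * g ∈ BruhatSet T R u := by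
    rintro g (⟨τ, hτ, r, hr, rfl⟩ | ⟨τ, hτ, r, hr, τ', hτ', rfl⟩)
    · refine Or.inr ⟨1, one_mem T, r⁻¹, inv_mem hr, r⁻¹ * τ * r, hRT' r hr τ hτ, ?_⟩
      calc u * (τ * r) = u * r * (r⁻¹ * τ * r) := by group
        _ = _ := by rw [hur' r hr]; group
    · set σ := r⁻¹ * τ * r with hσdef
      have hσ : σ ∈ T := hRT' r hr τ hτ
      have e : u * (τ * r * u * τ') = r⁻¹ * (u * σ * u) * τ' := by
        calc u * (τ * r * u * τ') = (u * r) * σ * u * τ' := by rw [hσdef]; group
          _ = _ := by rw [hur' r hr]; group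
      rw [e]
      by_cases h1 : σ = 1
      · rw [h1, mul_one, hu, mul_one]
        exact Or.inl ⟨r⁻¹ * τ' * r, hRT' r hr τ' hτ', r⁻¹, inv_mem hr, by group⟩
      · obtain ⟨α, hα, β, hβ, γ, hγ, he⟩ := hkey σ hσ h1
        rw [he]
        exact Or.inr ⟨r⁻¹ * α * r, hRT' r hr α hα, r⁻¹ * β, mul_mem (inv_mem hr) hβ, γ * τ',
          mul_mem hγ hτ', by group⟩
  intro g hg
  suffices ∀ k ∈ BruhatSet T R u, g * k ∈ BruhatSet T R u by
    simpa using this 1 (Or.inl ⟨1, one_mem T, 1, one_mem R, (one_mul 1).symm⟩)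
  refine closure_induction (p := fun x _ => (∀ k ∈ BruhatSet T R u, x * k ∈ BruhatSet T R u) ∧
      ∀ k ∈ BruhatSet T R u, x⁻¹ * k ∈ BruhatSet T R u) ?_ ?_ ?_ ?_ hg |>.1
  · rintro x ((hx | hx) | hx)
    · exact ⟨hT x hx, hT x⁻¹ (inv_mem hx)⟩
    · exact ⟨hR x hx, hR x⁻¹ (inv_mem hx)⟩
    · rw [Set.mem_singleton_iff] at hx
      subst hx
      exact ⟨hU, by rw [hu']; exact hU⟩
  · simp
  · rintro x y _ _ ⟨hx1, hx2⟩ ⟨hy1, hy2⟩
    refine ⟨fun k hk => by rw [mul_assoc]; exact hx1 _ (hy1 k hk), fun k hk => ?_⟩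
    rw [mul_inv_rev, mul_assoc]
    exact hy2 _ (hx2 k hk)
  · rintro x _ ⟨hx1, hx2⟩
    exact ⟨hx2, by rw [inv_inv]; exact hx1⟩

namespace Cfg

variable (h : Cfg S q)
include h

/-- The configuration is impossible. -/
theorem false [IsSimpleGroup G] : False := by
  classical
  haveI := Fact.mk h.mix.prime
  obtain ⟨a, b, u, x, hab, hu, hua, hxD, hxu, hx⟩ := h.exists_fix
  obtain ⟨e, hue⟩ := h.exists_fixed hu
  obtain ⟨hq3, t, ht, hta, hxt, hte⟩ := h.three_points hab hu hua hxD hxu hx hue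
  have hdeg := h.card_points_eq hab hu hua hxD hxu hx
  have hm := h.three_le_nInv
  have hu1 := H59.OneComp.invol_sq hu
  have ht1 := H59.OneComp.invol_sq ht
  have hu' : u⁻¹ = u := inv_eq_of_mul_eq_one_right hu1
  set T := h.ptGrp a
  have htT : t ∈ T := h.mem_ptGrp_of_invol ht hta
  set D := Duo G a b with hD
  set W := D ⊓ centralizer ({u} : Set G) with hWdef
  set Dt := D ⊓ centralizer ({t} : Set G) with hDtdef
  set N := MulAction.stabilizer G a
  -- the fixing elements commute with `t`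
  have hWt : W ≤ Dt := by
    intro w hw
    refine mem_inf.2 ⟨(mem_inf.1 hw).1, mem_centralizer_singleton_iff.2 ?_⟩
    by_cases hw1 : w = 1
    · rw [hw1, one_mul, mul_one]
    have hwu : Commute w u := mem_centralizer_singleton_iff.1 (mem_inf.1 hw).2
    have hwo := h.order_q hu hwu
      ((h.duo_odd hab).of_dvd_nat (Subgroup.orderOf_dvd_natCard _ (mem_inf.1 hw).1)) hw1
    obtain ⟨-, t', ht', ht'a, hwt', ht'e⟩ := h.three_points hab hu hua (mem_inf.1 hw).1 hwu hwo hue
    rw [h.ptGrp_inj hab htT (h.mem_ptGrp_of_invol ht' ht'a) (hte.trans ht'e.symm)]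
    exact hwt'.eq
  have hCN : centralizer ({t} : Set G) ≤ N := fun g hg =>
    h.fixed_of_commute ht hta (mem_centralizer_singleton_iff.1 hg : Commute g t).symm
  have hCcard : Nat.card (centralizer ({t} : Set G)) = (nInv S + 1) * Nat.card Dt := by
    set C := centralizer ({t} : Set G)
    have horb : MulAction.orbit C b = ({a} : Set (Pts S))ᶜ := by
      ext c
      constructor
      · rintro ⟨g, rfl⟩ (e' : (g : G) • b = a)
        exact hab (MulAction.injective (g : G) ((show (g : G) • a = a from hCN g.2).trans e'.symm))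
      · intro hc
        obtain ⟨τ, hτ, hτb⟩ := h.ptGrp_regular hdeg hab hc
        exact ⟨⟨τ, mem_centralizer_singleton_iff.2 (h.comm_ptGrp hτ htT)⟩, hτb⟩
    have hst : MulAction.stabilizer C b = Dt.subgroupOf C := by
      ext g
      show (g : G) • b = b ↔ (g : G) ∈ Dt
      exact ⟨fun e' => mem_inf.2 ⟨mem_inf.2 ⟨hCN g.2, e'⟩, g.2⟩, fun e' => (mem_inf.1 (mem_inf.1 e').1).2⟩
    rw [← (MulAction.stabilizer C b).card_mul_index, MulAction.index_stabilizer, horb, hst,
      Nat.card_congr (subgroupOfEquivOfLe (show Dt ≤ C from inf_le_right)).toEquiv, Set.ncard_compl,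
      Set.ncard_singleton, hdeg, mul_comm, show nInv S + 2 - 1 = nInv S + 1 by omega]
  have hWD : W = Dt := by
    refine eq_of_le_of_card_ge hWt (le_of_eq ?_)
    have h1 := h.card_stab_eq_duo hab
    rw [h.card_stab_eq_cent ht hta, hCcard, hdeg, h.card_duo hab hu hua, ← hWdef,
      show nInv S + 2 - 1 = nInv S + 1 by omega] at h1
    have : nInv S * (nInv S + 1) * Nat.card Dt = nInv S * (nInv S + 1) * Nat.card W := by linarith
    exact Nat.eq_of_mul_eq_mul_left (by positivity) this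
  obtain ⟨j, hj⟩ := IsPGroup.iff_card.1 (h.isPGroup_fix hab hu : IsPGroup q W)
  have hxW : x ∈ W := mem_inf.2 ⟨hxD, mem_centralizer_singleton_iff.2 hxu.eq⟩
  have hW1 : 1 < Nat.card W := Finite.one_lt_card_iff_nontrivial.2 ⟨⟨x, hxW⟩, 1, fun e' =>
    h.mix.prime.ne_one (by rw [← hx, show x = 1 from congrArg Subtype.val e', orderOf_one])⟩
  have hcop : Nat.Coprime (Nat.card W) (nInv S) := by
    rw [hj]
    exact (h.mix.prime.coprime_iff_not_dvd.2 h.not_dvd_nInv).pow_left j
  -- the Frobenius kernel of the two point stabiliser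
  have hFC : Cfsg.IsFrobeniusComplement (W.subgroupOf D) := by
    refine ⟨fun e' => ?_, fun e' => ?_, fun g hg => ?_⟩
    · have h1 := Nat.card_congr (subgroupOfEquivOfLe (show W ≤ D from inf_le_left)).toEquiv
      rw [e', Subgroup.card_bot] at h1
      omega
    · have h1 := Nat.card_congr (subgroupOfEquivOfLe (show W ≤ D from inf_le_left)).toEquiv
      rw [e', Subgroup.card_top, h.card_duo hab hu hua, ← hWdef] at h1
      nlinarith
    · rw [Subgroup.eq_bot_iff_forall]
      rintro w ⟨hw, hwg⟩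
      replace hwg := H2.mem_conj_smul.1 hwg
      replace hw : (w : G) ∈ W := mem_subgroupOf.1 hw
      replace hwg := mem_subgroupOf.1 hwg
      by_contra hw1
      apply hg
      rw [mem_subgroupOf, hWD]
      refine mem_inf.2 ⟨g.2, mem_centralizer_singleton_iff.2 ?_⟩
      have hwne : (w : G) ≠ 1 := fun e' => hw1 (Subtype.ext e')
      have hwu : Commute (w : G) u := mem_centralizer_singleton_iff.1 (mem_inf.1 hw).2
      have hwo := h.order_q hu hwu
        ((h.duo_odd hab).of_dvd_nat (Subgroup.orderOf_dvd_natCard _ (mem_inf.1 hw).1)) hwne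
      have hga : (g : G) • a = a := (mem_inf.1 g.2).1
      have h1 : Commute ((g : G)⁻¹ * w * g) t := by
        have := (mem_inf.1 (hWt hwg)).2
        rw [Subgroup.coe_mul, Subgroup.coe_mul, Subgroup.coe_inv] at this
        exact mem_centralizer_singleton_iff.1 this
      have h2 : Commute (w : G) ((g : G) * t * (g : G)⁻¹) := by
        have := h1.map (MulAut.conj (g : G)).toMonoidHom
        simpa [mul_assoc] using this
      have h3 := h.unique_commute hab hu hua (mem_inf.1 hw).1 hwu hwo (H67.invol_conj ht (g : G))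
        (h.conj_mem_ptGrp htT hga).2 ht hta h2
        (mem_centralizer_singleton_iff.1 (mem_inf.1 (hWt hw)).2)
      exact mul_inv_eq_iff_eq_mul.1 h3
  obtain ⟨R₀, -, hR₀n, hR₀c⟩ := Cfsg.Agent.S0035.result _ hFC
  have hR₀card : Nat.card R₀ = nInv S := by
    have h1 := hR₀c.card_mul
    rw [Nat.card_congr (subgroupOfEquivOfLe (show W ≤ D from inf_le_left)).toEquiv,
      h.card_duo hab hu hua, ← hWdef] at h1
    exact Nat.eq_of_mul_eq_mul_right (by omega) h1
  set R := R₀.map D.subtype with hR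
  have hRD : R ≤ D := map_subtype_le _
  have hRmem : ∀ g ∈ D, orderOf g ∣ nInv S → g ∈ R := by
    intro g hg hgo
    haveI := hR₀n
    refine ⟨⟨g, hg⟩, (QuotientGroup.eq_one_iff _).1 (orderOf_eq_one_iff.1 ?_), rfl⟩
    refine Nat.eq_one_of_dvd_coprimes hcop ?_ ((orderOf_map_dvd (QuotientGroup.mk' R₀) ⟨g, hg⟩).trans
      (by rwa [orderOf_mk]))
    have : Nat.card (D ⧸ R₀) = Nat.card W := by
      rw [← Subgroup.index_eq_card, hR₀c.symm.index_eq_card,
        Nat.card_congr (subgroupOfEquivOfLe (show W ≤ D from inf_le_left)).toEquiv]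
    rw [← this]
    exact orderOf_dvd_natCard _
  have hRord : ∀ r ∈ R, orderOf r ∣ nInv S := fun r hr => by
    have := Subgroup.orderOf_dvd_natCard _ hr
    rwa [hR, card_map_of_injective D.subtype_injective, hR₀card] at this
  have hRW : ∀ r ∈ R, r ∈ W → r = 1 := fun r hr hrW =>
    orderOf_eq_one_iff.1 (Nat.eq_one_of_dvd_coprimes hcop
      (Subgroup.orderOf_dvd_natCard _ hrW) (hRord r hr))
  have hDnR : D ≤ normalizer (R : Set G) := fun g hg => by
    haveI := hR₀n
    refine mem_normalizer_iff.2 fun r => ⟨?_, ?_⟩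
    · rintro ⟨r, hr, rfl⟩
      exact ⟨⟨g, hg⟩ * r * ⟨g, hg⟩⁻¹, hR₀n.conj_mem r hr _, rfl⟩
    · rintro ⟨r', hr', e'⟩
      refine ⟨⟨g, hg⟩⁻¹ * r' * ⟨g, hg⟩, by simpa using hR₀n.conj_mem r' hr' ⟨g, hg⟩⁻¹, ?_⟩
      show g⁻¹ * (r' : G) * g = r
      rw [show (r' : G) = g * r * g⁻¹ from e']
      group
  have huR : u ∈ normalizer (R : Set G) := by
    have key : ∀ r ∈ R, u * r * u⁻¹ ∈ R := fun r hr =>
      hRmem _ ((mem_normalizer_iff.1 (duo_normalizer hu hua) r).1 (hRD hr))
        (by rw [show u * r * u⁻¹ = MulAut.conj u r from rfl, MulEquiv.orderOf_eq]; exact hRord r hr)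
    refine mem_normalizer_iff.2 fun r => ⟨key r, fun hr => ?_⟩
    have := key _ hr
    rwa [hu', show u * (u * r * u) * u = (u * u) * r * (u * u) by group, hu1, one_mul, mul_one] at this
  have hinv : ∀ r ∈ R, u * r * u = r⁻¹ := fun r hr => by
    have := H93.conj_eq_inv_of_fixedPointFree hu1 huR
      (fun k hk hku => hRW k hk (mem_inf.2 ⟨hRD hk, mem_centralizer_singleton_iff.2 hku.symm⟩)) hr
    rwa [hu'] at this
  -- `R` is transitive on the involutions at `a`
  have htrans : ∀ τ ∈ T, τ ≠ 1 → ∃ r ∈ R, τ = r * t * r⁻¹ := by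
    let f : R → InvAt S a := fun r => ⟨(r : G) * t * (r : G)⁻¹, H67.invol_conj ht r,
      (h.conj_mem_ptGrp htT (mem_inf.1 (hRD r.2)).1).2⟩
    have hinj : Function.Injective f := by
      intro r r' e'
      have e'' : (r : G) * t * (r : G)⁻¹ = (r' : G) * t * (r' : G)⁻¹ := congrArg Subtype.val e'
      refine inv_mul_eq_one.1 (Subtype.ext (hRW _ (r⁻¹ * r').2 ?_)) 
      rw [hWD]
      refine mem_inf.2 ⟨hRD (r⁻¹ * r').2, mem_centralizer_singleton_iff.2 ?_⟩
      show (r : G)⁻¹ * r' * t = t * ((r : G)⁻¹ * r')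
      calc (r : G)⁻¹ * r' * t = (r : G)⁻¹ * ((r' : G) * t * (r' : G)⁻¹) * r' := by group
        _ = _ := by rw [← e'']; group
    haveI : Finite (InvAt S a) := Subtype.finite
    have hbij : Function.Bijective f := (Nat.bijective_iff_injective_and_card f).2 ⟨hinj, by
      rw [h.card_invAt, hR, card_map_of_injective D.subtype_injective, hR₀card]⟩
    intro τ hτ hτ1
    obtain ⟨r, hr⟩ := hbij.2 ⟨τ, h.invol_of_ptGrp hτ hτ1, hτ.2⟩
    exact ⟨r, r.2, (congrArg Subtype.val hr).symm⟩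
  -- the relation at the three fixed points
  have hut : u ≠ t := fun e' => by subst e'; exact hab (hta.symm.trans hua)
  have hutodd : Odd (orderOf (u * t)) := by
    rw [← Nat.not_even_iff_odd]
    intro hev
    obtain ⟨k, hk⟩ := hev
    have hpos := orderOf_pos (u * t)
    have hz : orderOf ((u * t) ^ k) = 2 := by
      rw [orderOf_pow_of_dvd (by omega) ⟨2, by omega⟩, hk, ← two_mul, Nat.mul_div_cancel _ (by omega)]
    have hzk : ((u * t) ^ k)⁻¹ = (u * t) ^ k := by
      rw [inv_eq_iff_mul_eq_one, ← pow_add, ← hk, pow_orderOf_eq_one]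
    have h1 : Commute ((u * t) ^ k) u := by
      have := H70.semiconj_prod_pow hu ht k
      rw [hzk, mul_inv_eq_iff_eq_mul] at this
      exact this.symm
    have h2 : Commute ((u * t) ^ k) t := by
      have := ((Commute.refl (u * t)).pow_left k)
      have := h1.mul_right this
      rwa [← mul_assoc, hu1, one_mul] at this
    obtain ⟨p, hp⟩ := h.exists_fixed hz
    have e1 := h.eq_of_fixed hu hue (h.fixed_of_commute hz hp h1)
    have e2 := h.eq_of_fixed ht hta (h.fixed_of_commute hz hp h2)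
    have hea : e = a := e1.trans e2.symm
    subst hea
    exact hab (hue.symm.trans hua)
  have hrel : u * t * u = t * u * t := by
    have hne : u * t ≠ 1 := fun e' => hut (by
      rw [eq_inv_of_mul_eq_one_left e', inv_eq_of_mul_eq_one_right ht1])
    have ho : orderOf (u * t) = q := by
      obtain ⟨r, hr, hrd⟩ := Nat.exists_prime_and_dvd (fun e' => hne (orderOf_eq_one_iff.1 e'))
      have hrq : r = q := by
        have hy := orderOf_div (u * t) hrd
        rcases h.mix.eq_of_commute_q hx ((hxu.mul_right hxt).symm.pow_left (orderOf (u * t) / r))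
          (hy.symm ▸ hr) with h1 | h1
        · rw [hy] at h1; exact absurd (h1 ▸ hrd) (Nat.two_dvd_ne_zero.2 (Nat.odd_iff.1 hutodd))
        · rw [← hy, h1]
      exact h.mix.order_q_of_odd (hrq ▸ hrd) hutodd
    have h3 : (u * t) * (u * t) * (u * t) = 1 := by
      rw [← pow_three', ← hq3, ← ho, pow_orderOf_eq_one]
    calc u * t * u = (u * t) * (u * t) * (u * t) * (t * u * t) := by
          rw [show (u * t) * (u * t) * (u * t) * (t * u * t) = u * t * u * t * u * (t * t) * u * t by group,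
            ht1, mul_one, show u * t * u * t * u * u * t = u * t * u * t * (u * u) * t by group, hu1,
            mul_one, show u * t * u * t * t = u * t * u * (t * t) by group, ht1, mul_one]
      _ = _ := by rw [h3, one_mul]
  have hRT : ∀ r ∈ R, ∀ τ ∈ T, r * τ * r⁻¹ ∈ T := fun r hr τ hτ =>
    h.conj_mem_ptGrp hτ (mem_inf.1 (hRD hr)).1
  have hkey : ∀ τ ∈ T, τ ≠ 1 → u * τ * u ∈ {g | ∃ α ∈ T, ∃ β ∈ R, ∃ γ ∈ T, g = α * β * u * γ} := by
    intro τ hτ hτ1
    obtain ⟨r, hr, rfl⟩ := htrans τ hτ hτ1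
    have hc : r⁻¹ * t * r ∈ T := by simpa using hRT r⁻¹ (inv_mem hr) t htT
    refine ⟨r⁻¹ * t * r, hc, r⁻¹ * r⁻¹, mul_mem (inv_mem hr) (inv_mem hr), r⁻¹ * t * r, hc, ?_⟩
    have e1 : u * r = r⁻¹ * u := by
      calc u * r = u * r * (u * u) := by rw [hu1, mul_one]
        _ = (u * r * u) * u := by group
        _ = _ := by rw [hinv r hr]
    have e2 : r⁻¹ * u = u * r := e1.symm
    calc u * (r * t * r⁻¹) * u = (u * r) * t * (r⁻¹ * u) := by group
      _ = r⁻¹ * u * t * (u * r) := congrArg₂ (fun c d : G => c * t * d) e1 e2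
      _ = r⁻¹ * (u * t * u) * r := by group
      _ = r⁻¹ * (t * u * t) * r := by rw [hrel]
      _ = r⁻¹ * t * (u * r) * (r⁻¹ * t * r) := by group
      _ = r⁻¹ * t * (r⁻¹ * u) * (r⁻¹ * t * r) := by rw [e1]
      _ = _ := by group
  -- the subgroup is normal
  set H := closure ((T : Set G) ∪ R ∪ {u}) with hH
  have hsub := closure_bruhat_le T R hu1 hRT hinv hkey
  have hTH : ∀ τ ∈ T, τ ∈ H := fun τ hτ => subset_closure (Or.inl (Or.inl hτ))
  have hRH : ∀ r ∈ R, r ∈ H := fun r hr => subset_closure (Or.inl (Or.inr hr))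
  have huH : u ∈ H := subset_closure (Or.inr rfl)
  have hWN : W ≤ normalizer (H : Set G) := by
    have key : ∀ w ∈ W, ∀ g ∈ H, w * g * w⁻¹ ∈ H := by
      intro w hw g hg
      refine closure_induction (p := fun g _ => w * g * w⁻¹ ∈ H) ?_ (by simp) ?_ ?_ hg
      · rintro g ((hg | hg) | hg)
        · exact hTH _ (h.conj_mem_ptGrp hg (mem_inf.1 (mem_inf.1 hw).1).1)
        · exact hRH _ ((mem_normalizer_iff.1 (hDnR (mem_inf.1 hw).1) g).1 hg)
        · rw [Set.mem_singleton_iff] at hg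
          subst hg
          rw [show w * g = g * w from mem_centralizer_singleton_iff.1 (mem_inf.1 hw).2, mul_inv_cancel_right]
          exact huH
      · intro g g' _ _ h1 h2
        rw [show w * (g * g') * w⁻¹ = (w * g * w⁻¹) * (w * g' * w⁻¹) by group]
        exact mul_mem h1 h2
      · intro g _ h1
        rw [← conj_inv]
        exact inv_mem h1
    intro w hw
    refine mem_normalizer_iff.2 fun g => ⟨key w hw g, fun hg => ?_⟩
    have := key w⁻¹ (inv_mem hw) _ hg
    simpa [mul_assoc] using this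
  have hHN : H ≤ normalizer (H : Set G) := Subgroup.le_normalizer
  have hDN : D ≤ normalizer (H : Set G) := by
    intro d hd
    have htop : R₀ ⊔ W.subgroupOf D = ⊤ := hR₀c.sup_eq_top
    haveI := hR₀n
    obtain ⟨r, hr, w, hw, e'⟩ := mem_sup_of_normal_left.1 (htop.ge (mem_top (⟨d, hd⟩ : D)))
    rw [show d = (r : G) * w from (congrArg Subtype.val e').symm]
    exact mul_mem (hHN (hRH _ ⟨r, hr, rfl⟩)) (hWN (mem_subgroupOf.1 hw))
  have hNH : ∀ g : G, g • a = a → g ∈ normalizer (H : Set G) := by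
    intro g hga
    obtain ⟨τ, hτ, hτb⟩ := h.ptGrp_regular hdeg hab (c := g • b)
      (fun e' => hab (MulAction.injective g (hga.trans e'.symm)))
    have hd : τ⁻¹ * g ∈ D := mem_inf.2 ⟨by
      show (τ⁻¹ * g) • a = a
      rw [mul_smul, hga, inv_smul_eq_iff, hτ.2], by
      show (τ⁻¹ * g) • b = b
      rw [mul_smul, ← hτb, inv_smul_smul]⟩
    rw [show g = τ * (τ⁻¹ * g) by group]
    exact mul_mem (hHN (hTH τ hτ)) (hDN hd)
  have htopN : normalizer (H : Set G) = ⊤ := by
    refine eq_top_iff.2 fun g _ => ?_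
    by_cases hga : g • a = a
    · exact hNH g hga
    obtain ⟨τ, hτ, hτb⟩ := h.ptGrp_regular hdeg hab hga
    have h1 : ((τ * u)⁻¹ * g) • a = a := by
      rw [mul_smul, inv_smul_eq_iff, mul_smul, hua, hτb]
    rw [show g = τ * u * ((τ * u)⁻¹ * g) by group]
    exact mul_mem (mul_mem (hHN (hTH τ hτ)) (hHN huH)) (hNH _ h1)
  haveI : H.Normal := normalizer_eq_top_iff.1 htopN
  rcases (inferInstance : H.Normal).eq_bot_or_eq_top with hb | ht'
  · exact H59.OneComp.ne_one_of_order_two hu (mem_bot.1 (hb ▸ huH))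
  -- the order
  have hle : Nat.card G ≤ Nat.card (BruhatSet T R u) := by
    rw [← Subgroup.card_top (G := G), ← ht']
    haveI : Finite (BruhatSet T R u) := Subtype.finite
    exact Nat.card_le_card_of_injective (fun g : H => (⟨g.1, hsub g.2⟩ : BruhatSet T R u))
      fun g g' e' => Subtype.ext (congrArg (fun z : BruhatSet T R u => (z : G)) e')
  have hle2 := hle.trans (card_bruhat_le T R u)
  rw [h.card_ptGrp, hR, card_map_of_injective D.subtype_injective, hR₀card] at hle2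
  have hG : Nat.card G = (nInv S + 2) * ((nInv S + 1) * (nInv S * Nat.card W)) := by
    rw [← (MulAction.stabilizer G a).card_mul_index, MulAction.index_stabilizer_of_transitive,
      h.card_stab_eq_duo hab, hdeg, h.card_duo hab hu hua, ← hWdef,
      show nInv S + 2 - 1 = nInv S + 1 by omega, mul_comm]
  rw [hG] at hle2
  have h2 : (nInv S + 1) * nInv S + (nInv S + 1) * nInv S * (nInv S + 1) =
      (nInv S + 2) * ((nInv S + 1) * (nInv S * 1)) := by ring
  rw [h2] at hle2
  have h3 := Nat.le_of_mul_le_mul_left (Nat.le_of_mul_le_mul_left (Nat.le_of_mul_le_mul_left hle2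
    (by omega)) (by omega)) (by omega)
  omega

end Cfg

theorem Mix.false_of_big [IsSimpleGroup G] (h : Mix G q) (hna : ¬ IsMulCommutative G) (S : Sylow 2 G)
    (hS8 : 8 ≤ Nat.card (S : Subgroup G)) : False :=
  Cfg.false (S := S) ⟨h, by omega, (h.se_normalizer hna S hS8).1, (h.se_normalizer hna S hS8).2⟩

end H11.ThreeOrders
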