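import Cfsg.Agent.H11.ThreeOrders.Mixed.Points

/-!
Mixed case: elements of a two point stabiliser fix exactly two points, transitivity, and the case
`q ∣ |S| - 1`.
-/

set_option autoImplicit false
set_option linter.style.haveILetI false
set_option linter.unusedSectionVars false

namespace H11.ThreeOrders

open Subgroup

universe u

variable {G : Type u} [Group G] [Finite G] {q : ℕ} {S : Sylow 2 G}

/-- No element of order `l` of a two point stabiliser commutes with a swapping involution. -/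
def NoFix (S : Sylow 2 G) (l : ℕ) : Prop :=
  ∀ (a b : Pts S) (u : G), a ≠ b → orderOf u = 2 → u • a = b →
    ¬ l ∣ Nat.card (Duo G a b ⊓ centralizer ({u} : Set G) : Subgroup G)

theorem duo_normalizer {a b : Pts S} {u : G} (hu : orderOf u = 2) (hua : u • a = b) :
    u ∈ normalizer (Duo G a b : Set G) := by
  have hu1 : u * u = 1 := H59.OneComp.invol_sq hu
  have hub : u • b = a := by rw [← hua, ← mul_smul, hu1, one_smul]
  have hu' : u⁻¹ = u := inv_eq_of_mul_eq_one_right hu1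
  have key : ∀ d ∈ Duo G a b, u * d * u⁻¹ ∈ Duo G a b := fun d hd => by
    rw [hu']
    refine mem_inf.2 ⟨?_, ?_⟩
    · show (u * d * u) • a = a
      rw [mul_smul, mul_smul, hua, show d • b = b from (mem_inf.1 hd).2, hub]
    · show (u * d * u) • b = b
      rw [mul_smul, mul_smul, hub, show d • a = a from (mem_inf.1 hd).1, hua]
  refine mem_normalizer_iff.2 fun d => ⟨key d, fun hd => ?_⟩
  have := key _ hd
  rwa [hu', show u * (u * d * u) * u = (u * u) * d * (u * u) by group, hu1, one_mul, mul_one] at this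

namespace Cfg

variable (h : Cfg S q)
include h

/-- An element fixing a point cannot invert a nontrivial odd element fixing it. -/
theorem false_of_inverting {k y : G} {a : Pts S} (hka : k • a = a) (hya : y • a = a)
    (ho : Odd (orderOf y)) (hy1 : y ≠ 1) (hi : k * y * k⁻¹ = y⁻¹) : False := by
  obtain ⟨e, m, hm, hkm⟩ := Nat.exists_eq_two_pow_mul_odd (orderOf_pos k).ne'
  have hodd : ∀ j : ℕ, Odd j → k ^ j * y * (k ^ j)⁻¹ = y⁻¹ := by
    rintro j ⟨i, rfl⟩
    induction i with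
    | zero => simpa using hi
    | succ i ih =>
      rw [show 2 * (i + 1) + 1 = 2 + (2 * i + 1) by ring, pow_add]
      calc k ^ 2 * k ^ (2 * i + 1) * y * (k ^ 2 * k ^ (2 * i + 1))⁻¹
          = k ^ 2 * (k ^ (2 * i + 1) * y * (k ^ (2 * i + 1))⁻¹) * (k ^ 2)⁻¹ := by group
        _ = k * (k * y⁻¹ * k⁻¹) * k⁻¹ := by rw [ih, sq]; group
        _ = y⁻¹ := by rw [← conj_inv, hi, inv_inv, hi]
  set s := k ^ m
  have hso : orderOf s = 2 ^ e := by
    rw [orderOf_pow' k (by rintro rfl; simp at hm), hkm, Nat.gcd_eq_right (dvd_mul_left m _),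
      Nat.mul_div_cancel _ hm.pos]
  have hsa : s • a = a :=
    (pow_mem (show k ∈ MulAction.stabilizer G a from hka) m : s ∈ MulAction.stabilizer G a)
  have hsi := hodd m hm
  have hs1 : s ≠ 1 := by
    intro e1
    rw [show k ^ m = s from rfl, e1, one_mul, inv_one, mul_one] at hsi
    have h2 : orderOf y ∣ 2 := orderOf_dvd_of_pow_eq_one (by rw [sq]; nth_rw 1 [hsi]; exact inv_mul_cancel y)
    exact hy1 (orderOf_eq_one_iff.1
      (Nat.eq_one_of_dvd_coprimes (Nat.coprime_two_right.2 ho) dvd_rfl h2))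
  exact hy1 (h.not_inverted (H59.OneComp.orderOf_eq_two (h.mix.sq_of_two_pow hso) hs1) hsa hya ho hsi)

/-- A Sylow subgroup of a two point stabiliser inverted by a swapping involution. -/
theorem exists_inverted_sylow {l : ℕ} [Fact l.Prime] (hl : NoFix S l) {a b : Pts S} (hab : a ≠ b)
    {u : G} (hu : orderOf u = 2) (hua : u • a = b) :
    ∃ L : Sylow l (Duo G a b), ∀ y ∈ (L : Subgroup (Duo G a b)).map (Duo G a b).subtype,
      u * y * u⁻¹ = y⁻¹ := by
  set D := Duo G a b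
  have hUD : zpowers u ≤ normalizer (D : Set G) := zpowers_le.2 (duo_normalizer hu hua)
  obtain ⟨L, hL⟩ := H1.exists_invariant_sylow hUD
    (by rw [Nat.card_zpowers, hu]; exact Nat.coprime_two_left.2 (h.duo_odd hab))
    (Or.inl inferInstance) l
  refine ⟨L, fun y hy => H93.conj_eq_inv_of_fixedPointFree (H59.OneComp.invol_sq hu)
    (hL (mem_zpowers u)) (fun k hk hku => ?_) hy⟩
  by_contra hk1
  have hkD : k ∈ D := map_subtype_le _ hk
  obtain ⟨i, hi⟩ := IsPGroup.iff_orderOf.1 (L.isPGroup'.map D.subtype) ⟨k, hk⟩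
  rw [orderOf_mk] at hi
  have hi0 : i ≠ 0 := fun e => hk1 (orderOf_eq_one_iff.1 (by rw [hi, e, pow_zero]))
  refine hl a b u hab hu hua ((dvd_pow_self l hi0).trans (hi ▸ Subgroup.orderOf_dvd_natCard _ ?_))
  exact mem_inf.2 ⟨hkD, mem_centralizer_singleton_iff.2 hku.symm⟩

theorem exists_inverter {l : ℕ} [Fact l.Prime] (hl : NoFix S l) {a c : Pts S} (hac : a ≠ c) {y : G}
    (hy : y ∈ Duo G a c) {i : ℕ} (hyo : orderOf y = l ^ i) :
    ∃ v : G, orderOf v = 2 ∧ v • a = c ∧ v * y * v⁻¹ = y⁻¹ := by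
  obtain ⟨u, hu, hua, -⟩ := h.exists_swap hac
  set D := Duo G a c
  obtain ⟨L, hL⟩ := h.exists_inverted_sylow hl hac hu hua
  obtain ⟨P, hP⟩ := (IsPGroup.of_card (n := i) (by rw [Nat.card_zpowers, orderOf_mk, hyo]) :
    IsPGroup l (zpowers (⟨y, hy⟩ : D))).exists_le_sylow
  obtain ⟨d, hd⟩ := MulAction.exists_smul_eq D L P
  have hm : (⟨y, hy⟩ : D) ∈ ((d • L : Sylow l D) : Subgroup D) := hd ▸ hP (mem_zpowers _)
  rw [Sylow.coe_subgroup_smul, H2.mem_conj_smul] at hm
  have h1 := hL ((d : G)⁻¹ * y * d) ⟨_, hm, by simp⟩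
  refine ⟨(d : G) * u * (d : G)⁻¹, H67.invol_conj hu _, ?_, ?_⟩
  · rw [mul_smul, mul_smul, inv_smul_eq_iff.2 ((mem_inf.1 d.2).1).symm, hua]
    exact (mem_inf.1 d.2).2
  · calc (d : G) * u * (d : G)⁻¹ * y * ((d : G) * u * (d : G)⁻¹)⁻¹
        = (d : G) * (u * ((d : G)⁻¹ * y * d) * u⁻¹) * (d : G)⁻¹ := by group
      _ = (d : G) * ((d : G)⁻¹ * y * d)⁻¹ * (d : G)⁻¹ := by rw [h1]
      _ = y⁻¹ := by group

/-- Exactly two fixed points. -/
theorem two_fixed {l : ℕ} [Fact l.Prime] (hl : NoFix S l) {a b : Pts S} (hab : a ≠ b) {y : G}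
    (hy : y ∈ Duo G a b) {i : ℕ} (hyo : orderOf y = l ^ i) (hy1 : y ≠ 1) {f : Pts S}
    (hf : y • f = f) : f = a ∨ f = b := by
  have hodd : Odd (orderOf y) := (h.duo_odd hab).of_dvd_nat (Subgroup.orderOf_dvd_natCard _ hy)
  have hinv : ∀ v : G, orderOf v = 2 → v * y * v⁻¹ = y⁻¹ → v * y⁻¹ * v⁻¹ = y := fun v _ hv => by
    rw [← conj_inv, hv, inv_inv]
  have hcomm : ∀ v w : G, orderOf v = 2 → orderOf w = 2 → v * y * v⁻¹ = y⁻¹ → w * y * w⁻¹ = y⁻¹ →
      Commute (v * w) y := fun v w hv hw h1 h2 => by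
    have : v * w * y * (v * w)⁻¹ = y := by
      rw [show v * w * y * (v * w)⁻¹ = v * (w * y * w⁻¹) * v⁻¹ by group, h2, hinv v hv h1]
    exact mul_inv_eq_iff_eq_mul.1 this
  -- what commutes with `y` fixes both points
  have key : ∀ a b : Pts S, a ≠ b → y ∈ Duo G a b → ∀ g : G, Commute g y → g • a = a := by
    intro a b hab hy g hg
    by_contra hga
    obtain ⟨u, hu, hua, hui⟩ := h.exists_inverter hl hab hy hyo
    have hub : u • b = a := by rw [← hua, ← mul_smul, H59.OneComp.invol_sq hu, one_smul]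
    have hyc : y • g • a = g • a := by
      rw [← mul_smul, ← hg.eq, mul_smul, show y • a = a from (mem_inf.1 hy).1]
    obtain ⟨v, hv, hva, hvi⟩ := h.exists_inverter hl (Ne.symm hga)
      (mem_inf.2 ⟨(mem_inf.1 hy).1, hyc⟩ : y ∈ Duo G a (g • a)) hyo
    set k := g⁻¹ * (v * u) * u
    refine h.false_of_inverting (k := k) (a := a) ?_ (mem_inf.1 hy).1 hodd hy1 ?_
    · rw [show k = g⁻¹ * (v * u) * u from rfl, mul_smul, hua, mul_smul, mul_smul, hub, hva,
        inv_smul_smul]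
    · have hc : Commute (g⁻¹ * (v * u)) y := hg.inv_left.mul_left (hcomm v u hv hu hvi hui)
      calc k * y * k⁻¹ = g⁻¹ * (v * u) * (u * y * u⁻¹) * (g⁻¹ * (v * u))⁻¹ := by
            simp only [k]; group
        _ = y⁻¹ := by rw [hui, hc.inv_right.eq, mul_inv_cancel_right]
  refine or_iff_not_imp_left.2 fun hfa => ?_
  obtain ⟨u, hu, hua, hui⟩ := h.exists_inverter hl hab hy hyo
  have hub : u • b = a := by rw [← hua, ← mul_smul, H59.OneComp.invol_sq hu, one_smul]
  obtain ⟨v, hv, hva, hvi⟩ := h.exists_inverter hl (Ne.symm hfa)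
    (mem_inf.2 ⟨(mem_inf.1 hy).1, hf⟩ : y ∈ Duo G a f) hyo
  have h1 : (v * u) • b = b :=
    key b a hab.symm (mem_inf.2 ⟨(mem_inf.1 hy).2, (mem_inf.1 hy).1⟩) _ (hcomm v u hv hu hvi hui)
  rwa [mul_smul, hub, hva] at h1

/-- A Sylow subgroup of a two point stabiliser is one of the point stabiliser. -/
theorem exists_sylow_stab {l : ℕ} [Fact l.Prime] (hl : NoFix S l) (hd : l ∣ nInv S) {a b : Pts S}
    (hab : a ≠ b) :
    ∃ P : Sylow l (MulAction.stabilizer G a),
      (∀ y ∈ (P : Subgroup (MulAction.stabilizer G a)), (y : G) • b = b) ∧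
      ∃ y : G, y ∈ Duo G a b ∧ y ≠ 1 ∧ (∃ i, orderOf y = l ^ i) ∧
        ∃ hy : y ∈ MulAction.stabilizer G a, ⟨y, hy⟩ ∈ (P : Subgroup (MulAction.stabilizer G a)) := by
  obtain ⟨u, hu, hua, -⟩ := h.exists_swap hab
  set D := Duo G a b
  set N := MulAction.stabilizer G a
  have hle : D ≤ N := inf_le_left
  obtain ⟨L⟩ : Nonempty (Sylow l D) := inferInstance
  set L' := (L : Subgroup D).map (inclusion hle)
  have hDl : l ∣ Nat.card D := by rw [h.card_duo hab hu hua]; exact hd.mul_right _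
  obtain ⟨y, hyL, hy1⟩ := (Subgroup.bot_or_exists_ne_one (L : Subgroup D)).resolve_left
    (L.ne_bot_of_dvd_card hDl)
  obtain ⟨i, hi⟩ := IsPGroup.iff_orderOf.1 L.isPGroup' ⟨y, hyL⟩
  rw [orderOf_mk, ← orderOf_coe] at hi
  obtain ⟨P, hP⟩ := (L.isPGroup'.map (inclusion hle)).exists_le_sylow
  have hPL : L' = (P : Subgroup N) := by
    by_contra hne
    obtain ⟨c, hcP, hcL, hcN⟩ := H65.exists_normalizing_not_mem P.isPGroup' hP hne
    have hy' : inclusion hle y ∈ L' := mem_map_of_mem _ hyL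
    obtain ⟨z, hzL, hz⟩ := (mem_normalizer_iff.1 (inv_mem hcN) _).1 hy'
    have hz' : (z : G) = (c : G)⁻¹ * y * c := by
      have := congrArg Subtype.val hz
      simpa using this
    have hfix : (y : G) • (c : G) • b = (c : G) • b := by
      rw [← mul_smul, show (y : G) * c = c * ((c : G)⁻¹ * y * c) by group, ← hz', mul_smul,
        show (z : G) • b = b from (mem_inf.1 z.2).2]
    have hcb : (c : G) • b = b := by
      rcases h.two_fixed hl hab y.2 hi (fun e => hy1 (Subtype.ext e)) hfix with e | e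
      · exact absurd (MulAction.injective (c : G) ((show (c : G) • a = a from c.2).trans e.symm)) hab
      · exact e
    have hcD : (c : G) ∈ D := mem_inf.2 ⟨c.2, hcb⟩
    have hQ := IsPGroup.comap_of_injective P.isPGroup' (inclusion hle) (inclusion_injective hle)
    have hQL := L.is_maximal' hQ (fun w hw => hP (mem_map_of_mem _ hw))
    refine hcL ⟨⟨c, hcD⟩, ?_, Subtype.ext rfl⟩
    show (⟨(c : G), hcD⟩ : D) ∈ (L : Subgroup D)
    rw [← hQL]
    exact (show inclusion hle ⟨(c : G), hcD⟩ ∈ (P : Subgroup N) from hcP)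
  refine ⟨P, fun z hz => ?_, y, y.2, fun e => hy1 (Subtype.ext e), ⟨i, hi⟩, hle y.2, ?_⟩
  · rw [← hPL] at hz
    obtain ⟨w, -, rfl⟩ := hz
    exact (mem_inf.1 w.2).2
  · rw [← hPL]
    exact mem_map_of_mem _ hyL

/-- The point stabiliser is transitive on the other points. -/
theorem transitive_stab {l : ℕ} [Fact l.Prime] (hl : NoFix S l) (hd : l ∣ nInv S) {a b c : Pts S}
    (hab : a ≠ b) (hac : a ≠ c) : ∃ g : G, g • a = a ∧ g • b = c := by
  obtain ⟨P, -, y, hy, hy1, ⟨i, hi⟩, hya, hyP⟩ := h.exists_sylow_stab hl hd hac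
  obtain ⟨Q, hQb, -⟩ := h.exists_sylow_stab hl hd hab
  obtain ⟨g, hg⟩ := MulAction.exists_smul_eq (MulAction.stabilizer G a) Q P
  rw [← hg, Sylow.coe_subgroup_smul, H2.mem_conj_smul] at hyP
  refine ⟨g, g.2, ?_⟩
  have h1 := hQb _ hyP
  simp only [Subgroup.coe_mul, Subgroup.coe_inv, mul_smul, inv_smul_eq_iff] at h1
  rcases h.two_fixed hl hac hy hi hy1 h1 with e | e
  · exact absurd (MulAction.injective (g : G) ((show (g : G) • a = a from g.2).trans e.symm)) hab
  · exact e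

/-- In the case `q ∣ |S| - 1` no element of order `q` of a two point stabiliser commutes with a
swapping involution. -/
theorem noFix_q (hq : q ∣ nInv S) : NoFix S q := by
  intro a b u hab hu hua hd
  haveI := Fact.mk h.mix.prime
  set D := Duo G a b
  obtain ⟨⟨x, hxW⟩, hxo⟩ := exists_prime_orderOf_dvd_card' q hd
  rw [orderOf_mk] at hxo
  obtain ⟨hxD, hxu⟩ := mem_inf.1 hxW
  have hxu' : Commute x u := mem_centralizer_singleton_iff.1 hxu
  obtain ⟨e, hue⟩ := h.exists_fixed hu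
  have hea : e ≠ a := fun e' => hab (by subst e'; exact hue.symm.trans hua)
  -- elements of order `q` at `e`
  have hcent : ∀ z : G, orderOf z = q → Commute z u → centralizer ({z} : Set G) ≤ MulAction.stabilizer G e := by
    intro z hz hzu
    obtain ⟨s, hs, hse, hzs, hsu⟩ := h.exists_second hq hz hu hue hzu
    exact h.centralizer_le_stab hz hu hue hs hse hsu hzu hzs
  -- an invariant Sylow subgroup
  have hUX : zpowers u ≤ normalizer (zpowers x : Set G) := by
    refine zpowers_le.2 (centralizer_le_normalizer _ ?_)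
    refine mem_centralizer_iff.2 fun z hz => ?_
    obtain ⟨j, rfl⟩ := mem_zpowers_iff.1 hz
    exact (hxu'.zpow_left j).eq
  obtain ⟨P, hxP, hPu⟩ := H1.exists_invariant_sylow_ge (zpowers_le.2 (duo_normalizer hu hua))
    (by rw [Nat.card_zpowers, hu]; exact Nat.coprime_two_left.2 (h.duo_odd hab))
    (Or.inl inferInstance) q (zpowers_le.2 hxD)
    (IsPGroup.of_card (n := 1) (by rw [Nat.card_zpowers, hxo, pow_one])) hUX
  set Q := (P : Subgroup D).map D.subtype with hQ
  have hQp : IsPGroup q Q := P.isPGroup'.map _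
  have hQodd : ∀ z ∈ Q, Odd (orderOf z) := fun z hz =>
    (h.duo_odd hab).of_dvd_nat (Subgroup.orderOf_dvd_natCard _ (map_subtype_le _ hz))
  have hQu : ∀ z ∈ Q, z • e = e → u * z * u⁻¹ = z := by
    intro z hz hze
    have hu' : u⁻¹ = u := inv_eq_of_mul_eq_one_right (H59.OneComp.invol_sq hu)
    have h1 : orderOf (z * u * z⁻¹) = 2 := H67.invol_conj hu z
    have h2 : (z * u * z⁻¹) • e = e := by
      rw [mul_smul, mul_smul, inv_smul_eq_iff.2 hze.symm, hue, hze]
    have hc := h.commute_of_fixed h1 hu h2 hue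
    set k := z * u * z⁻¹ * u
    have hk : k ∈ Q := by
      have := mul_mem hz ((mem_normalizer_iff.1 (hPu (mem_zpowers u)) _).1 (inv_mem hz))
      rw [hu'] at this
      simpa [k, mul_assoc] using this
    have hk2 : orderOf k ∣ 2 := orderOf_dvd_of_pow_eq_one (by
      rw [sq]
      calc k * k = (z * u * z⁻¹) * ((u * (z * u * z⁻¹)) * u) := by simp only [k]; group
        _ = (z * u * z⁻¹) * (((z * u * z⁻¹) * u) * u) := by rw [hc.eq]
        _ = 1 := by
          rw [mul_assoc (z * u * z⁻¹) u u, H59.OneComp.invol_sq hu, mul_one, H59.OneComp.invol_sq h1])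
    have hk1 : k = 1 := orderOf_eq_one_iff.1
      (Nat.eq_one_of_dvd_coprimes (Nat.coprime_two_right.2 (hQodd k hk)) dvd_rfl hk2)
    have h3 : z * u * z⁻¹ = u := (eq_inv_of_mul_eq_one_left hk1).trans hu'
    rw [mul_inv_eq_iff_eq_mul] at h3
    rw [← h3, mul_inv_cancel_right]
  haveI : Nontrivial Q := ⟨⟨x, hxP (mem_zpowers x)⟩, 1, fun e' => h.mix.prime.ne_one
    (by rw [← hxo, show x = 1 from congrArg Subtype.val e', orderOf_one])⟩
  obtain ⟨⟨⟨z, hzQ⟩, hzc⟩, hz1⟩ := @exists_ne _ hQp.center_nontrivial 1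
  have hzne : z ≠ 1 := fun e' => hz1 (Subtype.ext (Subtype.ext e'))
  have hzcomm : ∀ p ∈ Q, p * z = z * p := fun p hp =>
    congrArg Subtype.val (mem_center_iff.1 hzc ⟨p, hp⟩)
  have hze : z • e = e := hcent x hxo hxu'
    (mem_centralizer_singleton_iff.2 (hzcomm x (hxP (mem_zpowers x))).symm)
  have hzu : Commute z u := (mul_inv_eq_iff_eq_mul.1 (hQu z hzQ hze)).symm
  have hzo : orderOf z = q := h.order_q hu hzu (hQodd z hzQ) hzne
  have hQe : ∀ p ∈ Q, p • e = e := fun p hp =>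
    hcent z hzo hzu (mem_centralizer_singleton_iff.2 (hzcomm p hp))
  -- so `P` centralises `u`
  set W := D ⊓ centralizer ({u} : Set G) with hW
  have hQW : Q ≤ W := fun p hp => mem_inf.2 ⟨map_subtype_le _ hp, mem_centralizer_singleton_iff.2
    (mul_inv_eq_iff_eq_mul.1 (hQu p hp (hQe p hp))).symm⟩
  obtain ⟨n, hn⟩ := IsPGroup.iff_card.1 (h.isPGroup_fix hab hu : IsPGroup q W)
  obtain ⟨k, hk⟩ := IsPGroup.iff_card.1 hQp
  have hkn : k ≤ n := (Nat.pow_dvd_pow_iff_le_right h.mix.prime.one_lt).1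
    (hk ▸ hn ▸ card_dvd_of_le hQW)
  have h1 : q ^ (n + 1) ∣ Nat.card D := by
    rw [h.card_duo hab hu hua, ← hW, hn, pow_succ, mul_comm]
    exact mul_dvd_mul_right hq _
  have h2 := P.pow_dvd_card_of_pow_dvd_card h1
  rw [← card_map_of_injective D.subtype_injective, ← hQ, hk,
    Nat.pow_dvd_pow_iff_le_right h.mix.prime.one_lt] at h2
  omega

theorem not_dvd_nInv : ¬ q ∣ nInv S := by
  intro hq
  haveI := Fact.mk h.mix.prime
  obtain ⟨t, x, ht, hx, hc⟩ := h.mix.exists_pair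
  obtain ⟨a, hta⟩ := h.exists_fixed ht
  have hxa := h.fixed_of_commute ht hta hc.symm
  obtain ⟨b, hab⟩ : ∃ b : Pts S, a ≠ b := by
    obtain ⟨g, hg⟩ : ∃ g : G, g ∉ MulAction.stabilizer G a := by
      by_contra hall
      push Not at hall
      obtain ⟨u, hu, huN⟩ := H67.se_exists_invol_not_mem h.se
      obtain ⟨g₀, rfl⟩ := QuotientGroup.mk_surjective a
      exact huN (by simpa [mul_assoc] using (h.fixes_conj g₀).1 (hall (g₀ * u * g₀⁻¹)))
    exact ⟨g • a, fun e => hg e.symm⟩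
  have hl := h.noFix_q hq
  set N := MulAction.stabilizer G a
  obtain ⟨P, hPb, -⟩ := h.exists_sylow_stab hl hq hab
  have hxN : x ∈ N := hxa
  obtain ⟨Q, hQ⟩ := (IsPGroup.of_card (p := q) (n := 1)
    (by rw [Nat.card_zpowers, orderOf_mk, hx, pow_one]) : IsPGroup q (zpowers (⟨x, hxN⟩ : N))).exists_le_sylow
  obtain ⟨g, hg⟩ := MulAction.exists_smul_eq N P Q
  have hm : (⟨x, hxN⟩ : N) ∈ ((g • P : Sylow q N) : Subgroup N) := hg ▸ hQ (mem_zpowers _)
  rw [Sylow.coe_subgroup_smul, H2.mem_conj_smul] at hm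
  set y := (g : G)⁻¹ * x * g
  have hyb : y • b = b := by simpa [y] using hPb _ hm
  have hga : (g : G) • a = a := g.2
  have hya : y • a = a := by
    simp only [y, mul_smul]
    rw [hga, hxa, inv_smul_eq_iff, hga]
  have hy : orderOf y = q ^ 1 := by
    rw [show y = MulAut.conj (g : G)⁻¹ x by simp [y], MulEquiv.orderOf_eq, hx, pow_one]
  have hy1 : y ≠ 1 := fun e => h.mix.prime.ne_one (by
    rw [← pow_one q, ← hy, e, orderOf_one])
  obtain ⟨v, hv, hva, hvi⟩ := h.exists_inverter hl hab (mem_inf.2 ⟨hya, hyb⟩) hy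
  refine h.no_invol_of_inverted hv (t := (g : G)⁻¹ * t * g) (by simpa using H67.invol_conj ht (g : G)⁻¹)
    (a := a) ?_ (hva.trans_ne hab.symm) hya hy1 hvi ?_
  · simp only [mul_smul]
    rw [hga, hta, inv_smul_eq_iff, hga]
  · have := hc.symm.map (MulAut.conj (g : G)⁻¹).toMonoidHom
    simpa [y] using this

end Cfg

end H11.ThreeOrders
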