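import Cfsg.Agent.H59.OneComp.Norm

/-!
An elementary abelian 2-group acting on an odd `p`-group: commutators with normalising elements of
prime order act trivially when all the lifts have that order.
-/

set_option autoImplicit false
set_option linter.style.haveILetI false
set_option linter.unusedSectionVars false

namespace H11.ThreeOrders

open Subgroup
open scoped commutatorElement

variable {G : Type*} [Group G] [Finite G]

theorem pow_mul_pow {V : Subgroup G} {x v : G} (hx : x ∈ normalizer (V : Set G)) (hv : v ∈ V) :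
    ∀ k : ℕ, (v * x) ^ k * (x ^ k)⁻¹ ∈ V
  | 0 => by simp
  | k + 1 => by
    have h := mul_mem (pow_mul_pow hx hv k)
      ((mem_normalizer_iff.1 (pow_mem hx k) v).1 hv)
    rw [pow_succ, pow_succ]
    convert h using 1
    group

/-- `[x, S]` centralises `V`. -/
theorem commutator_centralizes (S V : Subgroup G) (hSc : IsMulCommutative S)
    (hS2 : ∀ s ∈ S, s * s = 1) {p : ℕ} [Fact p.Prime] (hp : p ≠ 2) (hV : IsPGroup p V)
    (hSV : S ≤ normalizer (V : Set G)) {x : G} (hxV : x ∈ normalizer (V : Set G))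
    (hxS : x ∈ normalizer (S : Set G)) {l : ℕ} (hl : l.Prime) (hxl : orderOf x = l) (hl2 : Odd l)
    (hpow : x ∉ V → ∀ v ∈ V, (v * x) ^ l = 1) {s : G} (hs : s ∈ S) :
    x * s * x⁻¹ * s ∈ centralizer (V : Set G) := by
  classical
  have hVodd : Odd (Nat.card V) := by
    obtain ⟨n, hn⟩ := IsPGroup.iff_card.1 hV
    exact hn ▸ (Nat.Prime.odd_of_ne_two Fact.out hp).pow
  by_cases hxV' : x ∈ V
  · -- then `x` centralises `S`
    have hs' : s⁻¹ = s := inv_eq_of_mul_eq_one_right (hS2 s hs)
    have h1 : x * s * x⁻¹ * s⁻¹ ∈ S := S.mul_mem ((mem_normalizer_iff.1 hxS s).1 hs) (S.inv_mem hs)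
    have h2 : x * s * x⁻¹ * s⁻¹ ∈ V := by
      rw [mul_assoc x, mul_assoc]
      exact V.mul_mem hxV' ((mem_normalizer_iff.1 (hSV hs) _).1 (V.inv_mem hxV'))
    rw [hs'] at h1 h2
    have h3 : x * s * x⁻¹ * s = 1 := by
      by_contra hne'
      have ho : orderOf (x * s * x⁻¹ * s) = 2 := by
        haveI : Fact (Nat.Prime 2) := ⟨Nat.prime_two⟩
        exact orderOf_eq_prime (by rw [sq]; exact hS2 _ h1) hne'
      exact Nat.not_even_iff_odd.2 hVodd (even_iff_two_dvd.2 (ho ▸ V.orderOf_dvd_natCard h2))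
    rw [h3]
    exact one_mem _
  let Φ : Subgroup V := frattini V
  letI : CommGroup (V ⧸ Φ) :=
    { (inferInstance : Group (V ⧸ Φ)) with
      mul_comm := fun a b => by
        induction a using QuotientGroup.induction_on with
        | H a =>
          induction b using QuotientGroup.induction_on with
          | H b =>
            rw [← QuotientGroup.mk_mul, ← QuotientGroup.mk_mul, QuotientGroup.eq]
            refine H31.commutator_le_frattini hV ?_
            rw [show (a * b)⁻¹ * (b * a) = ⁅b⁻¹, a⁻¹⁆ by simp [commutatorElement_def, mul_assoc]]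
            exact commutator_mem_commutator (mem_top _) (mem_top _) }
  let θ : normalizer (V : Set G) →* MulAut V := V.normalizerMonoidHom
  let qm : MulAut V →* MulAut (V ⧸ Φ) :=
    { toFun := fun e => QuotientGroup.congr Φ Φ e (Subgroup.characteristic_iff_map_eq.1 inferInstance e)
      map_one' := by
        ext a
        induction a using QuotientGroup.induction_on with
        | H a => rfl
      map_mul' := fun e f => by
        ext a
        induction a using QuotientGroup.induction_on with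
        | H a => rfl }
  let η : normalizer (V : Set G) →* MulAut (V ⧸ Φ) := qm.comp θ
  have hη : ∀ (g : normalizer (V : Set G)) (v : V) (h : (g : G) * v * (g : G)⁻¹ ∈ V),
      η g (QuotientGroup.mk v) = QuotientGroup.mk ⟨(g : G) * v * (g : G)⁻¹, h⟩ :=
    fun g v h => rfl
  let ρ : S →* MulAut (V ⧸ Φ) := η.comp (inclusion hSV)
  have hSC : ∀ a b : S, a * b = b * a := fun a b => hSc.is_comm.comm a b
  have hS2' : ∀ s : S, s * s = 1 := fun s => Subtype.ext (hS2 s s.2)
  set s₁ : G := x * s * x⁻¹ * s with hs₁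
  have hs₁S : s₁ ∈ S := S.mul_mem ((mem_normalizer_iff.1 hxS s).1 hs) hs
  suffices htriv : ∀ w : V ⧸ Φ, ρ ⟨s₁, hs₁S⟩ w = w by
    have hle : zpowers s₁ ≤ normalizer (V : Set G) := zpowers_le.2 (hSV hs₁S)
    refine H1.le_centralizer_of_frattini hle ?_ (fun a ha k hk => ?_) (mem_zpowers s₁)
    · have h1 : Odd (Nat.card Φ) := hVodd.of_dvd_nat (card_subgroup_dvd_card Φ)
      rw [Nat.card_zpowers]
      have h2 : orderOf s₁ ∣ 2 := orderOf_dvd_of_pow_eq_one (by rw [sq]; exact hS2 _ hs₁S)
      exact Nat.Coprime.coprime_dvd_left h2 (Nat.coprime_two_left.2 h1)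
    · have haS : a ∈ S := zpowers_le.2 hs₁S ha
      have hk' : a * k * a⁻¹ ∈ V := (mem_normalizer_iff.1 (hSV haS) k).1 hk
      have h : ρ ⟨a, haS⟩ (QuotientGroup.mk (⟨k, hk⟩ : V)) = QuotientGroup.mk ⟨k, hk⟩ := by
        obtain ⟨i, hi⟩ := mem_zpowers_iff.1 ha
        have h0 : ρ ⟨s₁, hs₁S⟩ = 1 := MulEquiv.ext htriv
        rw [show (⟨a, haS⟩ : S) = ⟨s₁, hs₁S⟩ ^ i from Subtype.ext (by rw [coe_zpow]; exact hi.symm),
          map_zpow, h0, one_zpow, MulAut.one_apply]
      have h' : (QuotientGroup.mk (⟨a * k * a⁻¹, hk'⟩ : V) : V ⧸ Φ) = QuotientGroup.mk ⟨k, hk⟩ := h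
      rw [eq_comm, QuotientGroup.eq] at h'
      have h'' := (inferInstance : Φ.Normal).conj_mem _ h' ⟨k, hk⟩
      rw [show (⟨k, hk⟩ : V) * ((⟨k, hk⟩ : V)⁻¹ * ⟨a * k * a⁻¹, hk'⟩) * (⟨k, hk⟩ : V)⁻¹ =
        ⟨a * k * a⁻¹, hk'⟩ * (⟨k, hk⟩ : V)⁻¹ by group] at h''
      exact ⟨_, h'', rfl⟩
  by_contra hcon
  push Not at hcon
  obtain ⟨w₀, hne⟩ := hcon
  haveI := Fintype.ofFinite S
  obtain ⟨w, hw, hw0, hsgn⟩ :=
    H59.OneComp.exists_sign_vector ρ hSC hS2' hne Finset.univ.toList
  have hsgn : ∀ t, ρ t w = w ∨ ρ t w = w⁻¹ := fun t => hsgn t (by simp)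
  have hW : ∀ v : V ⧸ Φ, v * v = 1 → v = 1 := by
    intro v hv
    by_contra hv1
    have h2 : orderOf v = 2 := by
      haveI : Fact (Nat.Prime 2) := ⟨Nat.prime_two⟩
      exact orderOf_eq_prime (by rw [sq, hv]) hv1
    have h3 : 2 ∣ Nat.card V :=
      (h2 ▸ orderOf_dvd_natCard v).trans (Subgroup.card_quotient_dvd_card Φ)
    exact Nat.not_even_iff_odd.2 hVodd (even_iff_two_dvd.2 h3)
  let X : normalizer (V : Set G) := ⟨x, hxV⟩
  let α : S → S := fun t => ⟨x * t * x⁻¹, (mem_normalizer_iff.1 hxS t).1 t.2⟩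
  have hαit : ∀ (i : ℕ) (t : S), ((α^[i] t : S) : G) = x ^ i * t * (x ^ i)⁻¹ := by
    intro i
    induction i with
    | zero => simp
    | succ i ih =>
      intro t
      rw [Function.iterate_succ_apply', pow_succ']
      show x * (α^[i] t : S) * x⁻¹ = _
      rw [ih]; group
  have hσ : ∀ t v, η X (ρ t v) = ρ (α t) (η X v) := by
    intro t v
    show η X (η (inclusion hSV t) v) = η (inclusion hSV (α t)) (η X v)
    rw [← MulAut.mul_apply, ← map_mul, ← MulAut.mul_apply, ← map_mul]
    congr 2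
    refine Subtype.ext ?_
    show x * t = x * t * x⁻¹ * x
    group
  have hαl : ∀ t, α^[l] t = t := fun t => Subtype.ext (by
    rw [hαit, ← hxl, pow_orderOf_eq_one]; simp)
  obtain ⟨y, rfl⟩ := QuotientGroup.mk_surjective w
  have hkey : ∀ k : ℕ, ∃ P : V, ((y : G) * x) ^ k = P * x ^ k ∧
      (QuotientGroup.mk P : V ⧸ Φ) = ∏ i ∈ Finset.range k, (η X)^[i] (QuotientGroup.mk y) := by
    intro k
    induction k with
    | zero => exact ⟨1, by simp, by simp⟩
    | succ k ih =>
      obtain ⟨P, hP, hP'⟩ := ih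
      have hmem : x ^ k * y * (x ^ k)⁻¹ ∈ V := (mem_normalizer_iff.1 (pow_mem hxV k) y).1 y.2
      refine ⟨P * ⟨_, hmem⟩, ?_, ?_⟩
      · rw [pow_succ, hP, coe_mul, pow_succ]
        group
      · rw [QuotientGroup.mk_mul, hP', Finset.prod_range_succ]
        congr 1
        have hit : ∀ (m : ℕ) (v : V ⧸ Φ), (η X)^[m] v = η (X ^ m) v := by
          intro m
          induction m with
          | zero => simp
          | succ m ihm => intro v; rw [Function.iterate_succ_apply', ihm, pow_succ', map_mul, MulAut.mul_apply]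
        rw [hit]
        exact (hη (X ^ k) y (by simpa using hmem)).symm.trans rfl
  obtain ⟨P, hP, hP'⟩ := hkey l
  rw [hpow hxV' y y.2, ← hxl, pow_orderOf_eq_one, mul_one] at hP
  rw [show P = 1 from Subtype.ext hP.symm, QuotientGroup.mk_one] at hP'
  have hstab := H59.OneComp.kernel_stable ρ hW hw hsgn (η X) (map_inv _) α hσ hl hαl hP'.symm
  have hstab' : ∀ k t, ρ t (QuotientGroup.mk y) = QuotientGroup.mk y →
      ρ (α^[k] t) (QuotientGroup.mk y) = QuotientGroup.mk y := by
    intro k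
    induction k with
    | zero => exact fun t ht => ht
    | succ k ih => exact fun t ht => by rw [Function.iterate_succ_apply']; exact hstab _ (ih t ht)
  set T : S := ⟨s, hs⟩
  have hprod : (⟨s₁, hs₁S⟩ : S) = α T * T := rfl
  rw [hprod] at hw0
  have hfixed : ρ (α T * T) (QuotientGroup.mk y) = QuotientGroup.mk y := by
    rw [map_mul, MulAut.mul_apply]
    rcases hsgn T with h1 | h1
    · rw [h1]; exact hstab T h1
    · rw [h1, map_inv]
      rcases hsgn (α T) with h2 | h2
      · exfalso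
        have := hstab' (l - 1) (α T) h2
        rw [← Function.iterate_succ_apply, Nat.succ_eq_add_one, Nat.sub_add_cancel hl.one_le, hαl] at this
        exact hw (hW _ (mul_eq_one_iff_eq_inv.2 (this.symm.trans h1)))
      · rw [h2, inv_inv]
  exact hw (hW _ (mul_eq_one_iff_eq_inv.2 (hfixed.symm.trans hw0)))

end H11.ThreeOrders
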