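import Cfsg.Agent.H11.ThreeOrders.Mixed.Rank
import Cfsg.Agent.H16.OddOrder
import Cfsg.Agent.H65.KleinSylow
import Cfsg.Agent.H65.BaerSuzuki
import Cfsg.Agent.H65.BSWAction
import Cfsg.Agent.H93.Basic
import Cfsg.Agent.H67.SECount
import Cfsg.Agent.S3278
import Cfsg.Agent.S3282
import Mathlib.GroupTheory.Transfer

/-!
Simple groups in the mixed case with Klein four Sylow 2-subgroups are
`PSL(2, q)` with `q` odd.
-/

set_option autoImplicit false
set_option linter.style.haveILetI false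
set_option linter.unusedSectionVars false

namespace H11.ThreeOrders

open Subgroup H59.OneComp

universe u

variable {G : Type u} [Group G] [Finite G] {p : ℕ} {S : Sylow 2 G}

/-- The odd core of a subgroup, inside the group. -/
abbrev core (L : Subgroup G) : Subgroup G := (Cfsg.pPrimeCore 2 L).map L.subtype

theorem core_le (L : Subgroup G) : core L ≤ L := map_subtype_le _

theorem le_normalizer_core (L : Subgroup G) : L ≤ normalizer (core L : Set G) :=
  le_normalizer.trans (H1.le_normalizer_map_subtype_of_characteristic le_rfl _)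

theorem core_odd (L : Subgroup G) : ¬ 2 ∣ Nat.card (core L) := by
  haveI : Fact (Nat.Prime 2) := ⟨Nat.prime_two⟩
  show ¬ 2 ∣ Nat.card ((Cfsg.pPrimeCore 2 L).map L.subtype : Subgroup G)
  rw [card_map_of_injective L.subtype_injective]
  exact H84.not_dvd_card_pPrimeCore 2

/-- Groups with only composite order `2p` and a Klein four Sylow subgroup. -/
structure Kl (S : Sylow 2 G) (p : ℕ) : Prop where
  mix : Mix G p
  card : Nat.card (S : Subgroup G) = 4

namespace Kl

variable (h : Kl S p)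

include h

theorem invol {a : G} (ha : a ∈ (S : Subgroup G)) (ha1 : a ≠ 1) : orderOf a = 2 :=
  orderOf_eq_two (h.mix.sq_of_isPGroup S.isPGroup' a ha) ha1

theorem comm {a b : G} (ha : a ∈ (S : Subgroup G)) (hb : b ∈ (S : Subgroup G)) : Commute a b :=
  congrArg Subtype.val
    ((h.mix.comm_of_isPGroup S.isPGroup').is_comm.comm (⟨a, ha⟩ : (S : Subgroup G)) ⟨b, hb⟩)

theorem le_cent {a : G} (ha : a ∈ (S : Subgroup G)) :
    (S : Subgroup G) ≤ centralizer ({a} : Set G) :=
  fun _ hs => mem_centralizer_singleton_iff.2 (h.comm hs ha).eq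

theorem solvable_cent {a : G} (ha : a ∈ (S : Subgroup G)) (ha1 : a ≠ 1) :
    Group.IsSolvable (centralizer ({a} : Set G)) :=
  h.mix.solvable_centralizer (Or.inl (h.invol ha ha1))

theorem exists_ne_one : ∃ a ∈ (S : Subgroup G), a ≠ 1 :=
  (Subgroup.bot_or_exists_ne_one (S : Subgroup G)).resolve_left fun hb => by
    have := h.card; rw [hb, card_bot] at this; omega

theorem four {a b c : G} (ha : a ∈ (S : Subgroup G)) (hb : b ∈ (S : Subgroup G))
    (hc : c ∈ (S : Subgroup G)) (ha1 : a ≠ 1) (hb1 : b ≠ 1) (hab : a ≠ b) :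
    c = 1 ∨ c = a ∨ c = b ∨ c = a * b := by
  classical
  haveI := Fintype.ofFinite (S : Subgroup G)
  have hsq := h.mix.sq_of_isPGroup S.isPGroup'
  have hab1 : a * b ≠ 1 := fun e => hab (mul_left_cancel ((hsq a ha).trans e.symm))
  have haab : a ≠ a * b := fun e => hb1 (mul_left_cancel ((mul_one a).trans e)).symm
  have hbab : b ≠ a * b := fun e => ha1 (mul_right_cancel ((one_mul b).trans e)).symm
  let s : Finset (S : Subgroup G) := {1, ⟨a, ha⟩, ⟨b, hb⟩, ⟨a * b, mul_mem ha hb⟩}
  have hs : s = Finset.univ := Finset.eq_univ_of_card _ (by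
    rw [← Nat.card_eq_fintype_card, h.card]
    simp only [s]
    rw [Finset.card_insert_of_notMem, Finset.card_insert_of_notMem, Finset.card_insert_of_notMem,
      Finset.card_singleton] <;>
      simp [Subtype.ext_iff, ha1.symm, hb1.symm, hab1.symm, hab, haab, hbab])
  have := Finset.mem_univ (⟨c, hc⟩ : (S : Subgroup G))
  rw [← hs] at this
  simpa [s, Subtype.ext_iff] using this

/-- Odd elements of `N(S)` fixing one involution of `S` centralise `S`. -/
theorem centralises_of_fix {n a : G} (hn : n ∈ normalizer ((S : Subgroup G) : Set G))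
    (hodd : Odd (orderOf n)) (ha : a ∈ (S : Subgroup G)) (ha1 : a ≠ 1) (hfix : n * a * n⁻¹ = a) :
    ∀ s ∈ (S : Subgroup G), Commute n s := by
  intro s hs
  by_cases hs1 : s = 1
  · rw [hs1]; exact Commute.one_right n
  by_cases hsa : s = a
  · rw [hsa]; exact mul_inv_eq_iff_eq_mul.1 hfix
  have hns := (mem_normalizer_iff.1 hn s).1 hs
  have hfa : Commute n a := mul_inv_eq_iff_eq_mul.1 hfix
  rcases h.four ha hs hns ha1 hs1 (Ne.symm hsa) with e | e | e | e
  · exact absurd (conj_eq_one_iff.1 e) hs1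
  · exfalso
    exact hsa ((MulAut.conj n).injective (e.trans hfix.symm))
  · exact mul_inv_eq_iff_eq_mul.1 e
  · have h1 : n * (a * s) * n⁻¹ = s := by
      rw [show n * (a * s) * n⁻¹ = (n * a * n⁻¹) * (n * s * n⁻¹) by group, hfix, e, ← mul_assoc,
        h.mix.sq_of_isPGroup S.isPGroup' a ha, one_mul]
    have h2 : n * (n * s * n⁻¹) * n⁻¹ = s := by rw [e, h1]
    have h3 : Commute (n ^ 2) s := by
      rw [sq]
      refine mul_inv_eq_iff_eq_mul.1 ?_
      rw [show n * n * s * (n * n)⁻¹ = n * (n * s * n⁻¹) * n⁻¹ by group]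
      exact h2
    obtain ⟨k, hk⟩ := hodd
    have e2 : (n ^ 2) ^ (k + 1) = n := by
      rw [← pow_mul, show 2 * (k + 1) = orderOf n + 1 by omega, pow_succ, pow_orderOf_eq_one, one_mul]
    rw [← e2]
    exact h3.pow_left _

theorem exists_moving_odd [IsSimpleGroup G] (hna : ¬ IsMulCommutative G) {a b : G}
    (ha : a ∈ (S : Subgroup G)) (ha1 : a ≠ 1) (hb : b ∈ (S : Subgroup G)) (hb1 : b ≠ 1) :
    ∃ v ∈ normalizer ((S : Subgroup G) : Set G), Odd (orderOf v) ∧ v * a * v⁻¹ = b := by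
  haveI : Fact (Nat.Prime 2) := ⟨Nat.prime_two⟩
  have hK : IsKleinFour (S : Subgroup G) := by
    refine ⟨h.card, ?_⟩
    refine ((Nat.dvd_prime Nat.prime_two).1 (Monoid.exponent_dvd_of_forall_pow_eq_one fun x => ?_)).resolve_left
      fun e => ?_
    · exact Subtype.ext (by rw [Subgroup.coe_pow, sq]; exact h.mix.sq_of_isPGroup S.isPGroup' x x.2)
    · haveI := Monoid.exp_eq_one_iff.1 e
      have := Nat.card_of_subsingleton (1 : (S : Subgroup G))
      rw [h.card] at this; omega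
  have hN : ¬ normalizer ((S : Subgroup G) : Set G) ≤ centralizer ((S : Subgroup G) : Set G) :=
    H62.not_normalizer_le_centralizer hna ((h.invol ha ha1) ▸ orderOf_dvd_natCard a) S
  obtain ⟨n, hn, hnb⟩ := H65.klein_fusion S hK ha hb (H65.klein_transitive S hK hN a b ha ha1 hb hb1)
  obtain ⟨x, v, rfl, hx, hv, ⟨k, hk⟩, hodd⟩ := exists_two_odd n
  have hxS := mem_sylow_of_normalizes S (zpowers_le.2 hn hx) hk
  have hvN := zpowers_le.2 hn hv
  refine ⟨v, hvN, hodd, ?_⟩
  have hvS := (mem_normalizer_iff.1 hvN a).1 ha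
  rw [← hnb, show x * v * a * (x * v)⁻¹ = x * (v * a * v⁻¹) * x⁻¹ by group, (h.comm hxS hvS).eq,
    mul_inv_cancel_right]

theorem fix_of_nontrivial {V : Subgroup G} (hV : IsPGroup p V)
    (hSV : (S : Subgroup G) ≤ normalizer (V : Set G))
    (hnc : ¬ (S : Subgroup G) ≤ centralizer (V : Set G)) {x : G}
    (hxV : x ∈ normalizer (V : Set G)) (hxS : x ∈ normalizer ((S : Subgroup G) : Set G))
    (hodd : Odd (orderOf x)) : ∀ s ∈ (S : Subgroup G), Commute x s := by
  haveI := Fact.mk h.mix.prime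
  have hall := h.mix.normalizer_centralizes S hV hSV x ⟨hxS, hxV⟩
  set T₀ := (S : Subgroup G) ⊓ centralizer (V : Set G) with hT₀
  have hS2 := h.mix.sq_of_isPGroup S.isPGroup'
  by_cases hbot : T₀ = ⊥
  · intro s hs
    have h1 := hall s hs
    rw [hbot, mem_bot] at h1
    have h2 : x * s * x⁻¹ = s := (eq_inv_of_mul_eq_one_left h1).trans
      (inv_eq_of_mul_eq_one_right (hS2 s hs))
    exact mul_inv_eq_iff_eq_mul.1 h2
  obtain ⟨a, ha, ha1⟩ := (Subgroup.bot_or_exists_ne_one T₀).resolve_left hbot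
  obtain ⟨b, hb, hb0⟩ : ∃ b ∈ (S : Subgroup G), b ∉ T₀ :=
    SetLike.not_le_iff_exists.1 fun hle => hnc fun s hs => (mem_inf.1 (hle hs)).2
  have hb1 : b ≠ 1 := fun e => hb0 (e ▸ one_mem _)
  have hab : a ≠ b := fun e => hb0 (e ▸ ha)
  have haS : a ∈ (S : Subgroup G) := (mem_inf.1 ha).1
  have hm : x * a * x⁻¹ ∈ T₀ := by
    have := T₀.mul_mem (hall a haS) ha
    rwa [mul_assoc, hS2 a haS, mul_one] at this
  refine h.centralises_of_fix hxS hodd haS ha1 ?_
  rcases h.four haS hb (mem_inf.1 hm).1 ha1 hb1 hab with e | e | e | e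
  · exact absurd (conj_eq_one_iff.1 e) ha1
  · exact e
  · exact absurd (e ▸ hm) hb0
  · exact absurd ((T₀.mul_mem_cancel_left ha).1 (e ▸ hm)) hb0

theorem solvable_of_le_normalizer {L : Subgroup G}
    (hL : L ≤ normalizer ((S : Subgroup G) : Set G)) : Group.IsSolvable L := by
  haveI : Fact (Nat.Prime 2) := ⟨Nat.prime_two⟩
  set N := normalizer ((S : Subgroup G) : Set G)
  suffices Group.IsSolvable N from Group.isSolvable_of_isSolvable_injective (f := inclusion hL) (inclusion_injective hL)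
  set T := (S : Subgroup G).subgroupOf N
  haveI : T.Normal := Subgroup.normal_in_normalizer
  haveI : Group.IsSolvable T :=
    Group.isSolvable_of_comm fun a b => Subtype.ext (Subtype.ext (h.comm a.2 b.2).eq)
  have hodd : Odd (Nat.card (N ⧸ T)) := by
    rw [← Subgroup.index_eq_card]
    exact Nat.odd_iff.2 (Nat.two_dvd_ne_zero.1 fun hd =>
      S.not_dvd_index (hd.trans (relIndex_dvd_index_of_le le_normalizer)))
  haveI := H16.FT.oddOrder hodd
  exact Group.isSolvable_of_ker_le_range T.subtype (QuotientGroup.mk' T) (by simp)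

/-- Normalisers of nontrivial `S`-invariant `p`-subgroups are solvable. -/
theorem solvable_normalizer {D : Subgroup G} (hD : IsPGroup p D) (hD1 : D ≠ ⊥)
    (hSD : (S : Subgroup G) ≤ normalizer (D : Set G)) : Group.IsSolvable (normalizer (D : Set G)) := by
  haveI : Fact (Nat.Prime 2) := ⟨Nat.prime_two⟩
  haveI := Fact.mk h.mix.prime
  set L := normalizer (D : Set G)
  set T := S.subtype hSD
  haveI hTc : IsMulCommutative (T : Subgroup L) :=
    ⟨⟨fun a b => Subtype.ext (Subtype.ext (h.comm (a := ((a : L) : G)) a.2 (b := ((b : L) : G)) b.2).eq)⟩⟩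
  have hNT : ∀ n ∈ normalizer ((T : Subgroup L) : Set L),
      (n : G) ∈ normalizer ((S : Subgroup G) : Set G) := by
    intro n hn
    rw [mem_normalizer_iff] at hn ⊢
    intro x
    constructor
    · exact fun hx => (hn ⟨x, hSD hx⟩).1 hx
    · intro hx
      have hxC : x ∈ L := by
        have := mul_mem (mul_mem (inv_mem n.2) (hSD hx)) n.2
        simpa [mul_assoc] using this
      exact (hn ⟨x, hxC⟩).2 hx
  by_cases hSC : (S : Subgroup G) ≤ centralizer (D : Set G)
  · obtain ⟨z, hz, hz1⟩ := (Subgroup.bot_or_exists_ne_one D).resolve_left hD1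
    have hzo : orderOf z = p := by
      obtain ⟨a, ha, ha1⟩ := h.exists_ne_one
      refine h.mix.eq_q_of_commute (h.invol ha ha1) (mem_centralizer_iff.1 (hSC ha) z hz) ?_ hz1
      obtain ⟨k, hk⟩ := IsPGroup.iff_orderOf.1 hD ⟨z, hz⟩
      rw [orderOf_mk] at hk
      rw [hk]
      exact h.mix.odd_q.pow
    haveI := h.mix.solvable_centralizer (Or.inr hzo)
    set C := (centralizer (D : Set G)).subgroupOf L
    haveI hCn : C.Normal := by
      have e1 : C = D.normalizerMonoidHom.ker := D.normalizerMonoidHom_ker.symm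
      rw [e1]
      exact MonoidHom.normal_ker _
    haveI : Group.IsSolvable C := by
      let f : C →* centralizer ({z} : Set G) :=
        { toFun := fun c => ⟨((c : L) : G), mem_centralizer_singleton_iff.2
            (mem_centralizer_iff.1 (mem_subgroupOf.1 c.2) z hz).symm⟩
          map_one' := rfl
          map_mul' := fun _ _ => rfl }
      exact Group.isSolvable_of_isSolvable_injective (f := f) fun a b e =>
        Subtype.ext (Subtype.ext (congrArg Subtype.val e :))
    have hTC : (T : Subgroup L) ≤ C := fun x hx => mem_subgroupOf.2 (hSC hx)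
    have htop := Sylow.normalizer_sup_eq_top' T hTC
    haveI : Group.IsSolvable (normalizer ((T : Subgroup L) : Set L)) := by
      haveI := h.solvable_of_le_normalizer (L := (normalizer ((T : Subgroup L) : Set L)).map L.subtype)
        (by rintro _ ⟨n, hn, rfl⟩; exact hNT n hn)
      exact Group.isSolvable_of_isSolvable_injective
        (f := (equivMapOfInjective _ L.subtype L.subtype_injective).toMonoidHom)
        (by exact MulEquiv.injective _)
    set f := (QuotientGroup.mk' C).comp (normalizer ((T : Subgroup L) : Set L)).subtype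
    have hs : Function.Surjective f := by
      intro q
      obtain ⟨g, rfl⟩ := QuotientGroup.mk_surjective q
      obtain ⟨n, hn, c, hc, rfl⟩ := mem_sup_of_normal_right.1 (htop.ge (mem_top g))
      refine ⟨⟨n, hn⟩, ?_⟩
      show QuotientGroup.mk' C n = QuotientGroup.mk' C (n * c)
      rw [map_mul, show QuotientGroup.mk' C c = 1 from (QuotientGroup.eq_one_iff c).2 hc, mul_one]
    haveI : Group.IsSolvable (L ⧸ C) := Group.isSolvable_of_surjective hs
    exact Group.isSolvable_of_ker_le_range C.subtype (QuotientGroup.mk' C) (by simp)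
  · have hN : normalizer ((T : Subgroup L) : Set L) ≤ centralizer ((T : Subgroup L) : Set L) := by
      intro n hn
      obtain ⟨x, v, hxv, hx, hv, ⟨k, hk⟩, hodd⟩ := exists_two_odd (n : G)
      have hnL : zpowers (n : G) ≤ L := zpowers_le.2 n.2
      have hnS : zpowers (n : G) ≤ normalizer ((S : Subgroup G) : Set G) := zpowers_le.2 (hNT n hn)
      have hxS := mem_sylow_of_normalizes S (hnS hx) hk
      have hvc := h.fix_of_nontrivial hD hSD hSC (hnL hv) (hnS hv) hodd
      refine mem_centralizer_iff.2 fun s hs => Subtype.ext ?_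
      show (s : G) * n = n * s
      rw [hxv]
      exact ((h.comm (show (s : G) ∈ (S : Subgroup G) from hs) hxS).mul_right (hvc s hs).symm).eq
    let τ := MonoidHom.transferSylow T hN
    haveI : Group.IsSolvable (T : Subgroup L) :=
      Group.isSolvable_of_comm fun a b => hTc.is_comm.comm a b
    have hcompl := MonoidHom.ker_transferSylow_isComplement' T hN
    haveI : Group.IsSolvable τ.ker := by
      refine H16.FT.oddOrder ?_
      rw [← hcompl.index_eq_card]
      exact Nat.odd_iff.2 (Nat.two_dvd_ne_zero.1 T.not_dvd_index)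
    exact Group.isSolvable_of_ker_le_range τ.ker.subtype τ (by simp)

/-- The odd core of a solvable subgroup containing `S` is a `p`-group containing all its
`S`-invariant `p`-subgroups. -/
theorem core_spec {L : Subgroup G} [Group.IsSolvable L] (hSL : (S : Subgroup G) ≤ L) :
    IsPGroup p (core L) ∧
      (∀ V ≤ L, IsPGroup p V → (S : Subgroup G) ≤ normalizer (V : Set G) → V ≤ core L) ∧
      ∀ x ∈ L, ∃ n ∈ L, n ∈ normalizer ((S : Subgroup G) : Set G) ∧ ∃ o ∈ core L, x = n * o := by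
  haveI : Fact (Nat.Prime 2) := ⟨Nat.prime_two⟩
  haveI := Fact.mk h.mix.prime
  set T := S.subtype hSL
  have hT : IsMulCommutative (T : Subgroup L) :=
    ⟨⟨fun a b => Subtype.ext (Subtype.ext (h.comm (a := ((a : L) : G)) a.2 (b := ((b : L) : G)) b.2).eq)⟩⟩
  have hNT : ∀ n ∈ normalizer ((T : Subgroup L) : Set L),
      (n : G) ∈ normalizer ((S : Subgroup G) : Set G) := by
    intro n hn
    rw [mem_normalizer_iff] at hn ⊢
    intro x
    constructor
    · exact fun hx => (hn ⟨x, hSL hx⟩).1 hx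
    · intro hx
      have hxC : x ∈ L := by
        have := mul_mem (mul_mem (inv_mem n.2) (hSL hx)) n.2
        simpa [mul_assoc] using this
      exact (hn ⟨x, hxC⟩).2 hx
  haveI hOn : (Cfsg.pPrimeCore 2 L).Normal := H1.pPrimeCore_normal' 2 _
  have htop := normalizer_sup_core T hT
  have hS := h.mix.elemAb_of_isPGroup S.isPGroup'
  refine ⟨?_, fun V hVL hV hSV => ?_, fun x hx => ?_⟩
  · -- generation
    refine IsPGroup.of_card (n := (Nat.card (core L)).primeFactorsList.length)
      (Nat.eq_prime_pow_of_unique_prime_dvd Nat.card_pos.ne' fun {r} hr hrd => ?_)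
    by_contra hrp
    haveI := Fact.mk hr
    obtain ⟨R, hR, hSR⟩ := H8.exists_inv_sylowIn (q := r) S.isPGroup'
      (hSL.trans (le_normalizer_core L)) (core_odd L)
    have hR2 : ¬ 2 ∣ Nat.card R := fun hd => core_odd L (hd.trans (card_dvd_of_le hR.le))
    have hbot : R ≤ ⊥ := H8.generation_elements hS (by rw [h.card]; norm_num) hSR hR2
      fun a ha ha1 x hx => by
        obtain ⟨hxR, hxa⟩ := hx
        by_contra hx1
        obtain ⟨j, hj⟩ := IsPGroup.iff_orderOf.1 hR.isPGroup ⟨x, hxR⟩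
        rw [orderOf_mk] at hj
        have hodd : Odd (orderOf x) := (Nat.odd_iff.2 (Nat.two_dvd_ne_zero.1 hR2)).of_dvd_nat
          (Subgroup.orderOf_dvd_natCard _ hxR)
        have hxp := h.mix.eq_q_of_commute (h.invol ha ha1) (mem_centralizer_singleton_iff.1 hxa) hodd
          (fun e => hx1 (mem_bot.2 e))
        rw [hxp] at hj
        exact hrp ((Nat.prime_dvd_prime_iff_eq h.mix.prime hr).1
          (h.mix.prime.dvd_of_dvd_pow (show p ∣ r ^ j by rw [← hj]))).symm
    exact hR.not_dvd (by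
      rw [show R = ⊥ from le_bot_iff.1 hbot]
      simpa [relIndex_bot_left] using hrd)
  · intro v hv
    set f := QuotientGroup.mk' (Cfsg.pPrimeCore 2 L)
    set Tb := (T : Subgroup L).map f
    haveI : Group.IsSolvable (L ⧸ Cfsg.pPrimeCore 2 L) :=
      Group.isSolvable_of_surjective (QuotientGroup.mk'_surjective _)
    haveI hTn : Tb.Normal := by
      rw [← normalizer_eq_top_iff, eq_top_iff]
      intro q _
      obtain ⟨g, rfl⟩ := QuotientGroup.mk'_surjective _ q
      obtain ⟨n, hn, o, ho, rfl⟩ := mem_sup_of_normal_right.1 (htop.ge (mem_top g))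
      rw [map_mul, show f o = 1 from (QuotientGroup.eq_one_iff o).2 ho, mul_one]
      exact le_normalizer_map f (mem_map_of_mem f hn)
    set Q := Cfsg.pCore 2 (L ⧸ Cfsg.pPrimeCore 2 L)
    have hCQ : centralizer (Q : Set _) ≤ Q :=
      H10.centralizer_pCore_le H10.isPSolvable_of_isSolvable H10.pPrimeCore_quotient_pPrimeCore
    have hTbQ : Tb ≤ Q := le_sSup ⟨hTn, T.isPGroup'.map f⟩
    have hQT : Q ≤ Tb :=
      haveI : Q.Normal := H1.pCore_normal' 2 _
      ((H1.isPGroup_pCore 2 _).le_sylow_of_normal (T.mapSurjective (QuotientGroup.mk'_surjective _)))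
    have hone : ∀ q : L, q ∈ Cfsg.pPrimeCore 2 L ↔ f q = 1 := fun q => (QuotientGroup.eq_one_iff q).symm
    suffices h1 : f ⟨v, hVL hv⟩ = 1 from ⟨_, (hone _).2 h1, rfl⟩
    have hord : ∀ w : L, (w : G) ∈ V → ∀ q, f w = q → IsPGroup 2 (zpowers q) → q = 1 := by
      intro w hw q hq hq2
      obtain ⟨k, hk⟩ := IsPGroup.iff_orderOf.1 hV ⟨w, hw⟩
      rw [orderOf_mk, orderOf_coe] at hk
      obtain ⟨j, hj⟩ := IsPGroup.iff_card.1 hq2
      rw [Nat.card_zpowers] at hj
      refine orderOf_eq_one_iff.1 (Nat.eq_one_of_dvd_coprimes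
        ((Nat.coprime_two_left.2 h.mix.odd_q).pow j k) (by rw [hj]) ?_)
      rw [← hk, ← hq]; exact orderOf_map_dvd _ _
    refine hord ⟨v, hVL hv⟩ hv _ rfl (IsPGroup.to_le (H1.isPGroup_pCore 2 _)
      (zpowers_le.2 (hCQ (mem_centralizer_iff.2 fun q hq => ?_))))
    obtain ⟨t, ht, rfl⟩ := hQT hq
    have hc : f (t * ⟨v, hVL hv⟩ * t⁻¹ * (⟨v, hVL hv⟩ : L)⁻¹) = 1 := by
      refine hord _ ?_ _ rfl (IsPGroup.to_le (T.isPGroup'.map f) (zpowers_le.2 ?_))
      · exact V.mul_mem ((mem_normalizer_iff.1 (hSV ht) v).1 hv) (V.inv_mem hv)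
      · rw [mul_assoc, mul_assoc, ← mul_assoc _ t⁻¹, map_mul, map_mul]
        refine Tb.mul_mem (mem_map_of_mem f ht) ?_
        rw [map_mul]
        exact hTn.conj_mem _ (Tb.inv_mem (mem_map_of_mem f ht) |> fun h => by simpa using h) _
    rw [map_mul, map_mul, map_mul, map_inv, map_inv] at hc
    exact mul_inv_eq_iff_eq_mul.1 (mul_inv_eq_one.1 hc)
  · obtain ⟨n, hn, o, ho, hno⟩ := mem_sup_of_normal_right.1 (htop.ge (mem_top (⟨x, hx⟩ : L)))
    exact ⟨n, n.2, hNT n hn, o, ⟨o, ho, rfl⟩, (congrArg Subtype.val hno).symm⟩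

/-- With the odd elements of `N_L(S)` centralising `S`, `L` is `S` times its odd core. -/
theorem decomp {L : Subgroup G} [Group.IsSolvable L] (hSL : (S : Subgroup G) ≤ L)
    (hfix : ∀ n ∈ L, n ∈ normalizer ((S : Subgroup G) : Set G) → Odd (orderOf n) →
      ∀ s ∈ (S : Subgroup G), Commute n s) :
    ∀ x ∈ L, ∃ s ∈ (S : Subgroup G), ∃ o ∈ core L, x = s * o := by
  haveI := Fact.mk h.mix.prime
  obtain ⟨-, hV, hdec⟩ := h.core_spec hSL
  intro x hx
  obtain ⟨n, hnL, hnS, o, ho, rfl⟩ := hdec x hx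
  obtain ⟨a, b, rfl, ha, hb, ⟨k, hk⟩, hodd⟩ := exists_two_odd n
  have hbL := zpowers_le.2 hnL hb
  have hc := hfix b hbL (zpowers_le.2 hnS hb) hodd
  refine ⟨a, mem_sylow_of_normalizes S (zpowers_le.2 hnS ha) hk, b * o, ?_, mul_assoc _ _ _⟩
  refine (core L).mul_mem ?_ ho
  by_cases hb1 : b = 1
  · rw [hb1]; exact one_mem _
  obtain ⟨s, hs, hs1⟩ := h.exists_ne_one
  have hbo := h.mix.eq_q_of_commute (h.invol hs hs1) (hc s hs) hodd hb1
  refine hV (zpowers b) (zpowers_le.2 hbL) (IsPGroup.of_card (n := 1)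
    (by rw [Nat.card_zpowers, hbo, pow_one])) ?_ (mem_zpowers b)
  exact fun t ht => centralizer_le_normalizer _ (mem_centralizer_iff.2 fun y hy => by
    obtain ⟨i, rfl⟩ := hy
    exact ((hc t ht).zpow_left i).eq)

theorem fix_cent {a : G} (ha : a ∈ (S : Subgroup G)) (ha1 : a ≠ 1) :
    ∀ n ∈ centralizer ({a} : Set G), n ∈ normalizer ((S : Subgroup G) : Set G) → Odd (orderOf n) →
      ∀ s ∈ (S : Subgroup G), Commute n s := fun n hn hnS hodd =>
  h.centralises_of_fix hnS hodd ha ha1 (mul_inv_eq_iff_eq_mul.2 (mem_centralizer_singleton_iff.1 hn))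

/-- Maximal `S`-invariant `p`-subgroups. -/
def IsMaxInv (S : Sylow 2 G) (p : ℕ) (W : Subgroup G) : Prop :=
  Maximal (fun V : Subgroup G => IsPGroup p V ∧ (S : Subgroup G) ≤ normalizer (V : Set G)) W

omit h in
theorem exists_maxInv {V : Subgroup G} (hV : IsPGroup p V)
    (hSV : (S : Subgroup G) ≤ normalizer (V : Set G)) : ∃ W, IsMaxInv S p W ∧ V ≤ W := by
  obtain ⟨W, hW, hmax⟩ := Finite.exists_le_maximal (p := fun V : Subgroup G =>
    IsPGroup p V ∧ (S : Subgroup G) ≤ normalizer (V : Set G)) ⟨hV, hSV⟩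
  exact ⟨W, hmax, hW⟩

/-- Maximal `S`-invariant `p`-subgroups with nontrivial intersection coincide. -/
theorem maxInv_eq {W₁ W₂ : Subgroup G} (h₁ : IsMaxInv S p W₁) (h₂ : IsMaxInv S p W₂)
    (hne : W₁ ⊓ W₂ ≠ ⊥) : W₁ = W₂ := by
  haveI := Fact.mk h.mix.prime
  by_contra hcon
  let P : Subgroup G → Prop := fun D => ∃ U₁ U₂, IsMaxInv S p U₁ ∧ IsMaxInv S p U₂ ∧ U₁ ≠ U₂ ∧
    D = U₁ ⊓ U₂ ∧ D ≠ ⊥
  obtain ⟨D, -, hmax⟩ := Finite.exists_le_maximal (p := P) (a := W₁ ⊓ W₂) ⟨W₁, W₂, h₁, h₂, hcon, rfl, hne⟩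
  obtain ⟨U₁, U₂, hU₁, hU₂, hU, rfl, hD⟩ := hmax.1
  have hDp : IsPGroup p (U₁ ⊓ U₂ : Subgroup G) := hU₁.1.1.to_le inf_le_left
  have hSD : (S : Subgroup G) ≤ normalizer ((U₁ ⊓ U₂ : Subgroup G) : Set G) := fun s hs =>
    mem_normalizer_iff.2 fun x => by
      rw [mem_inf, mem_inf, mem_normalizer_iff.1 (hU₁.1.2 hs) x, mem_normalizer_iff.1 (hU₂.1.2 hs) x]
  haveI := h.solvable_normalizer hDp hD hSD
  set L := normalizer ((U₁ ⊓ U₂ : Subgroup G) : Set G)
  obtain ⟨hcp, hV, -⟩ := h.core_spec (L := L) hSD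
  obtain ⟨W, hW, hcW⟩ := exists_maxInv hcp (hSD.trans (le_normalizer_core L))
  have key : ∀ U, IsMaxInv S p U → (U₁ ⊓ U₂ ≤ U) → (U₁ ⊓ U₂ : Subgroup G) ≠ U → U = W := by
    intro U hU' hle hneU
    obtain ⟨a, haU, haD, haN⟩ := H65.exists_normalizing_not_mem hU'.1.1 hle hneU
    have hUL : U ⊓ L ≤ W := by
      refine le_trans (hV _ inf_le_right (hU'.1.1.to_le inf_le_left) fun s hs => mem_normalizer_iff.2 fun x => ?_) hcW
      rw [mem_inf, mem_inf, mem_normalizer_iff.1 (hU'.1.2 hs) x,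
        mem_normalizer_iff.1 (le_normalizer (hSD hs) : s ∈ normalizer (L : Set G)) x]
    by_contra hUW
    have hle' : U₁ ⊓ U₂ ≤ U ⊓ W := le_inf hle (fun d hd => hUL ⟨hle hd, le_normalizer hd⟩)
    have hP : P (U ⊓ W) := ⟨U, W, hU', hW, hUW, rfl, fun e => hD (le_bot_iff.1 (e ▸ hle'))⟩
    exact haD (hmax.2 hP hle' ⟨haU, hUL ⟨haU, haN⟩⟩)
  have e1 := key U₁ hU₁ inf_le_left fun e => hU (hU₁.eq_of_le hU₂.1 (inf_eq_left.1 e))
  have e2 := key U₂ hU₂ inf_le_right fun e => hU (hU₂.eq_of_le hU₁.1 (inf_eq_right.1 e)).symm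
  exact hU (e1.trans e2.symm)

theorem maxInv_conj {W : Subgroup G} (hW : IsMaxInv S p W) {n : G}
    (hn : n ∈ normalizer ((S : Subgroup G) : Set G)) :
    IsMaxInv S p (W.map (MulAut.conj n).toMonoidHom) := by
  have key : ∀ m ∈ normalizer ((S : Subgroup G) : Set G), ∀ V : Subgroup G,
      IsPGroup p V ∧ (S : Subgroup G) ≤ normalizer (V : Set G) →
      IsPGroup p (V.map (MulAut.conj m).toMonoidHom) ∧
        (S : Subgroup G) ≤ normalizer ((V.map (MulAut.conj m).toMonoidHom : Subgroup G) : Set G) := by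
    intro m hm V hV
    refine ⟨hV.1.map _, fun s hs => le_normalizer_map _ ⟨m⁻¹ * s * m, hV.2 ?_, by simp [mul_assoc]⟩⟩
    have := (mem_normalizer_iff.1 (inv_mem hm) s).1 hs
    rwa [inv_inv] at this
  have hinv : ∀ V : Subgroup G,
      (V.map (MulAut.conj n⁻¹).toMonoidHom).map (MulAut.conj n).toMonoidHom = V := fun V => by
    rw [map_map]
    convert map_id V
    ext x
    simp [mul_assoc]
  refine ⟨key n hn W hW.1, fun V hV hle => ?_⟩
  have h1 : W ≤ V.map (MulAut.conj n⁻¹).toMonoidHom := fun x hx =>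
    ⟨n * x * n⁻¹, hle ⟨x, hx, rfl⟩, by simp [mul_assoc]⟩
  have h2 := hW.2 (key n⁻¹ (inv_mem hn) V hV) h1
  conv_lhs => rw [← hinv V]
  exact map_mono h2

end Kl

omit [Finite G] in
theorem mem_normalizer_of_map_eq {W : Subgroup G} {n : G}
    (h : W.map (MulAut.conj n).toMonoidHom = W) : n ∈ normalizer (W : Set G) := by
  refine mem_normalizer_iff.2 fun x => ⟨fun hx => h.le ⟨x, hx, rfl⟩, fun hx => ?_⟩
  obtain ⟨y, hy, hyx⟩ := h.ge hx
  rwa [← (MulAut.conj n).injective (hyx : n * y * n⁻¹ = n * x * n⁻¹)]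

variable [IsSimpleGroup G]

/-- With a nontrivial odd part in `C(S)` the group would be `A₅`. -/
theorem Kl.no_centralizing (h : Kl S p) (hna : ¬ IsMulCommutative G) {g : G} (hg : orderOf g = 2 * p)
    {z : G} (hz : Odd (orderOf z)) (hzS : ∀ s ∈ (S : Subgroup G), Commute z s) : z = 1 := by
  classical
  haveI : Fact (Nat.Prime 2) := ⟨Nat.prime_two⟩
  haveI := Fact.mk h.mix.prime
  by_contra hz1
  obtain ⟨a, ha, ha1⟩ := h.exists_ne_one
  have hzcore : ∀ y : G, Odd (orderOf y) → (∀ s ∈ (S : Subgroup G), Commute y s) →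
      ∀ b ∈ (S : Subgroup G), b ≠ 1 → y ∈ core (centralizer ({b} : Set G)) := by
    intro y hy hyS b hb hb1
    by_cases hy1 : y = 1
    · rw [hy1]; exact one_mem _
    haveI := h.solvable_cent hb hb1
    have hyo := h.mix.eq_q_of_commute (h.invol hb hb1) (hyS b hb) hy hy1
    refine (h.core_spec (h.le_cent hb)).2.1 (zpowers y)
      (zpowers_le.2 (mem_centralizer_singleton_iff.2 (hyS b hb).eq))
      (IsPGroup.of_card (n := 1) (by rw [Nat.card_zpowers, hyo, pow_one])) (fun t ht => ?_) (mem_zpowers y)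
    exact centralizer_le_normalizer _ (mem_centralizer_iff.2 fun x hx => by
      obtain ⟨i, rfl⟩ := hx
      exact ((hyS t ht).zpow_left i).eq)
  haveI := h.solvable_cent ha ha1
  obtain ⟨W, hW, hOW⟩ := Kl.exists_maxInv (h.core_spec (h.le_cent ha)).1
    ((h.le_cent ha).trans (le_normalizer_core _))
  have hzW : z ∈ W := hOW (hzcore z hz hzS a ha ha1)
  -- `W` is fixed by `N(S)`
  obtain ⟨b, hb, hba⟩ : ∃ b ∈ (S : Subgroup G), b ∉ zpowers a := SetLike.not_le_iff_exists.1 fun hle => by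
    have := card_dvd_of_le hle
    rw [h.card, Nat.card_zpowers, h.invol ha ha1] at this
    norm_num at this
  have hb1 : b ≠ 1 := fun e => hba (e ▸ one_mem _)
  obtain ⟨v, hv, hvodd, hvab⟩ := h.exists_moving_odd hna ha ha1 hb hb1
  have hvW : v ∈ normalizer (W : Set G) := by
    refine mem_normalizer_of_map_eq (h.maxInv_eq (h.maxInv_conj hW hv) hW fun e => hz1 ?_)
    have h1 : v * z * v⁻¹ ∈ W := by
      refine hOW (hzcore _ (by rwa [show v * z * v⁻¹ = MulAut.conj v z from rfl, MulEquiv.orderOf_eq]) ?_ a ha ha1)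
      intro s hs
      have h2 := (hzS _ ((mem_normalizer_iff.1 (inv_mem hv) s).1 hs)).map (MulAut.conj v).toMonoidHom
      simpa [mul_assoc] using h2
    refine conj_eq_one_iff.1 (mem_bot.1 (e ▸ ⟨⟨z, hzW, rfl⟩, h1⟩ : v * z * v⁻¹ ∈ (⊥ : Subgroup G)))
  have hSW : (S : Subgroup G) ≤ centralizer (W : Set G) := by
    by_contra hnc
    have := h.fix_of_nontrivial hW.1.1 hW.1.2 hnc hvW hv hvodd a ha
    refine hba ?_
    rw [← hvab, this.eq, mul_inv_cancel_right]
    exact mem_zpowers a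
  -- `S` is normal in the centraliser of `a`
  set C := centralizer ({a} : Set G)
  have hn : ((S : Subgroup G).subgroupOf C).Normal := by
    refine ⟨fun s hs c => ?_⟩
    obtain ⟨t, ht, o, ho, hco⟩ := h.decomp (h.le_cent ha) (h.fix_cent ha ha1) c c.2
    rw [mem_subgroupOf] at hs ⊢
    rw [Subgroup.coe_mul, Subgroup.coe_mul, Subgroup.coe_inv, hco,
      show t * o * (s : G) * (t * o)⁻¹ = t * (o * s * o⁻¹) * t⁻¹ by group,
      show o * (s : G) * o⁻¹ = s from
        mul_inv_eq_iff_eq_mul.2 (mem_centralizer_iff.1 (hSW hs) o (hOW ho))]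
    exact mul_mem (mul_mem ht hs) (inv_mem ht)
  have hK : IsKleinFour (S : Subgroup G) := by
    refine ⟨h.card, ?_⟩
    refine ((Nat.dvd_prime Nat.prime_two).1 (Monoid.exponent_dvd_of_forall_pow_eq_one fun x => ?_)).resolve_left
      fun e => ?_
    · exact Subtype.ext (by rw [Subgroup.coe_pow, sq]; exact h.mix.sq_of_isPGroup S.isPGroup' x x.2)
    · haveI := Monoid.exp_eq_one_iff.1 e
      have := Nat.card_of_subsingleton (1 : (S : Subgroup G))
      rw [h.card] at this; omega
  obtain ⟨e⟩ := Cfsg.Agent.S3278.result a (h.invol ha ha1) (S : Subgroup G) (h.le_cent ha) hK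
    (fun hd => S.not_dvd_index (hd.trans (relIndex_dvd_index_of_le (h.le_cent ha)))) hn
  have hA5 : ∀ σ : alternatingGroup (Fin 5), σ ^ 2 = 1 ∨ σ ^ 3 = 1 ∨ σ ^ 5 = 1 := by decide +kernel
  have hp3 : 3 ≤ p := by have := h.mix.prime.two_le; have := h.mix.ne_two; omega
  have ho : orderOf (e g) = 2 * p := by rw [MulEquiv.orderOf_eq, hg]
  rcases hA5 (e g) with h1 | h1 | h1 <;> have h2 := orderOf_dvd_of_pow_eq_one h1 <;> rw [ho] at h2
  · have := Nat.le_of_dvd (by norm_num) h2; omega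
  · have := Nat.le_of_dvd (by norm_num) h2; omega
  · have := (Dvd.intro p rfl).trans h2; norm_num at this

/-- A simple group with only composite order `2p`, such elements, and Klein four Sylow 2-subgroups
is `PSL(2, q)` with `q` odd. -/
theorem Mix.psl_of_four (h' : Mix G p) (hna : ¬ IsMulCommutative G) (S : Sylow 2 G)
    (hS4 : Nat.card (S : Subgroup G) = 4) {g : G} (hg : orderOf g = 2 * p) :
    ∃ (F : Type) (_ : Field F) (_ : Fintype F), Odd (Fintype.card F) ∧
      Nonempty (G ≃* Matrix.ProjectiveSpecialLinearGroup (Fin 2) F) := by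
  classical
  haveI : Fact (Nat.Prime 2) := ⟨Nat.prime_two⟩
  haveI := Fact.mk h'.prime
  have h : Kl S p := ⟨h', hS4⟩
  have hno := fun z => h.no_centralizing hna hg (z := z)
  have hclass : ∀ x y : G, orderOf x = 2 → orderOf y = 2 → IsConj x y := by
    intro x y hx hy
    have key : ∀ x : G, orderOf x = 2 → ∀ c ∈ (S : Subgroup G), c ≠ 1 → IsConj x c := by
      intro x hx c hc hc1
      obtain ⟨R, hR⟩ := (IsPGroup.of_card (p := 2) (n := 1)
        (by rw [Nat.card_zpowers, hx, pow_one]) : IsPGroup 2 (zpowers x)).exists_le_sylow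
      obtain ⟨k, hk⟩ := MulAction.exists_smul_eq G R S
      have hxS : k * x * k⁻¹ ∈ (S : Subgroup G) := by rw [← hk]; exact ⟨x, hR (mem_zpowers x), rfl⟩
      obtain ⟨v, -, -, hv⟩ := h.exists_moving_odd hna hxS
        (fun e => ne_one_of_order_two hx (conj_eq_one_iff.1 e)) hc hc1
      exact isConj_iff.2 ⟨v * k, by rw [← hv]; group⟩
    obtain ⟨c, hc, hc1⟩ := h.exists_ne_one
    exact (key x hx c hc hc1).trans (key y hy c hc hc1).symm
  obtain ⟨a, ha, ha1⟩ := h.exists_ne_one
  have ha2 := h.invol ha ha1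
  obtain ⟨b, hb, hba⟩ : ∃ b ∈ (S : Subgroup G), b ∉ zpowers a := SetLike.not_le_iff_exists.1 fun hle => by
    have := card_dvd_of_le hle
    rw [h.card, Nat.card_zpowers, ha2] at this
    norm_num at this
  have hb1 : b ≠ 1 := fun e => hba (e ▸ one_mem _)
  have hab : a ≠ b := fun e => hba (e ▸ mem_zpowers a)
  have hb2 := h.invol hb hb1
  haveI := h.solvable_cent ha ha1
  set H := centralizer ({a} : Set G) with hH
  set O := core H with hO
  have hSH := h.le_cent ha
  obtain ⟨hOp, hOmax, -⟩ := h.core_spec hSH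
  have hdec := h.decomp hSH (h.fix_cent ha ha1)
  have hOodd : ∀ o ∈ O, Odd (orderOf o) := fun o ho =>
    (Nat.odd_iff.2 (Nat.two_dvd_ne_zero.1 (core_odd H))).of_dvd_nat (Subgroup.orderOf_dvd_natCard _ ho)
  have hOa : ∀ o ∈ O, Commute o a := fun o ho => mem_centralizer_singleton_iff.1 (core_le H ho)
  -- the other involutions invert the core
  have hfpf : ∀ c ∈ (S : Subgroup G), c ≠ 1 → c ≠ a → ∀ o ∈ O, Commute o c → o = 1 := by
    intro c hc hc1 hca o ho hoc
    refine hno o (hOodd o ho) fun s hs => ?_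
    rcases h.four ha hc hs ha1 hc1 hca.symm with rfl | rfl | rfl | rfl
    · exact Commute.one_right o
    · exact hOa o ho
    · exact hoc
    · exact (hOa o ho).mul_right hoc
  have hinvc : ∀ c ∈ (S : Subgroup G), c ≠ 1 → c ≠ a → ∀ o ∈ O, c * o * c⁻¹ = o⁻¹ :=
    fun c hc hc1 hca o ho => H93.conj_eq_inv_of_fixedPointFree (h'.sq_of_isPGroup S.isPGroup' c hc)
      (le_normalizer_core H (hSH hc)) (fun k hk hkc => hfpf c hc hc1 hca k hk hkc.symm) ho
  have hOcomm : ∀ o ∈ O, ∀ o' ∈ O, Commute o o' := by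
    intro o ho o' ho'
    have h1 := hinvc b hb hb1 hab.symm _ (O.mul_mem ho ho')
    rw [show b * (o * o') * b⁻¹ = (b * o * b⁻¹) * (b * o' * b⁻¹) by group, hinvc b hb hb1 hab.symm o ho,
      hinvc b hb hb1 hab.symm o' ho', ← mul_inv_rev, inv_inj] at h1
    exact h1.symm
  obtain ⟨o₁, ho₁, ho₁1⟩ : ∃ o ∈ O, o ≠ 1 := by
    have ht : orderOf (g ^ p) = 2 := by
      rw [orderOf_pow' g h'.prime.ne_zero, hg, Nat.gcd_eq_right (Dvd.intro_left 2 rfl),
        Nat.mul_div_cancel _ h'.prime.pos]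
    have hx : orderOf (g ^ 2) = p := by
      rw [orderOf_pow' g two_ne_zero, hg, Nat.gcd_eq_right (Dvd.intro p rfl),
        Nat.mul_div_cancel_left _ two_pos]
    obtain ⟨k, hk⟩ := isConj_iff.1 (hclass _ _ ht ha2)
    have hc : Commute (k * g ^ 2 * k⁻¹) a := hk ▸
      ((Commute.refl g).pow_pow 2 p).map (MulAut.conj k).toMonoidHom
    obtain ⟨s, hs, o, ho, hso⟩ := hdec _ (mem_centralizer_singleton_iff.2 hc.eq)
    refine ⟨o, ho, fun e => ?_⟩
    rw [e, mul_one] at hso
    have h1 : orderOf (k * g ^ 2 * k⁻¹) = p := by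
      rw [show k * g ^ 2 * k⁻¹ = MulAut.conj k (g ^ 2) from rfl, MulEquiv.orderOf_eq, hx]
    rw [hso] at h1
    by_cases hs1 : s = 1
    · rw [hs1, orderOf_one] at h1; exact h'.prime.ne_one h1.symm
    · rw [h.invol hs hs1] at h1; exact h'.ne_two h1.symm
  -- the core is a maximal invariant `p`-subgroup
  obtain ⟨V, hV, hOV⟩ := Kl.exists_maxInv hOp (hSH.trans (le_normalizer_core H))
  have hVO : V = O := by
    refine le_antisymm (H8.generation_elements (h'.elemAb_of_isPGroup S.isPGroup') (by rw [h.card]; norm_num)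
      hV.1.2 (fun hd => ?_) fun c hc hc1 => ?_) hOV
    · obtain ⟨k, hk⟩ := IsPGroup.iff_card.1 hV.1.1
      rw [hk] at hd
      exact h'.ne_two ((Nat.prime_dvd_prime_iff_eq Nat.prime_two h'.prime).1 (Nat.prime_two.dvd_of_dvd_pow hd)).symm
    have hVC : V ⊓ centralizer {c} ≤ core (centralizer ({c} : Set G)) := by
      haveI := h.solvable_cent hc hc1
      refine (h.core_spec (h.le_cent hc)).2.1 _ inf_le_right (hV.1.1.to_le inf_le_left) fun s hs =>
        mem_normalizer_iff.2 fun x => ?_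
      rw [mem_inf, mem_inf, mem_normalizer_iff.1 (hV.1.2 hs) x,
        mem_normalizer_iff.1 (le_normalizer (h.le_cent hc hs) :
          s ∈ normalizer ((centralizer ({c} : Set G) : Subgroup G) : Set G)) x]
    by_cases hca : c = a
    · subst hca; exact hVC
    obtain ⟨v, hv, hvodd, hvac⟩ := h.exists_moving_odd hna ha ha1 hc hc1
    have hcore : core (centralizer ({c} : Set G)) = O.map (MulAut.conj v).toMonoidHom := by
      rw [← hvac]
      exact H7.centralizerPPrimeCore_conj_eq (p := 2) a v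
    intro x hx
    have hx' : x ∈ V.map (MulAut.conj v).toMonoidHom := map_mono hOV (hcore ▸ hVC hx)
    by_cases hdis : V.map (MulAut.conj v).toMonoidHom ⊓ V = ⊥
    · have hm : x ∈ V.map (MulAut.conj v).toMonoidHom ⊓ V := ⟨hx', hx.1⟩
      rw [hdis, mem_bot] at hm
      rw [hm]
      exact one_mem _
    exfalso
    have hvV := mem_normalizer_of_map_eq (h.maxInv_eq (h.maxInv_conj hV hv) hV hdis)
    have hnc : ¬ (S : Subgroup G) ≤ centralizer (V : Set G) := fun hle =>
      ho₁1 (hfpf b hb hb1 hab.symm o₁ ho₁ (mem_centralizer_iff.1 (hle hb) o₁ (hOV ho₁)))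
    have h1 := (h.fix_of_nontrivial hV.1.1 hV.1.2 hnc hvV hv hvodd a ha).eq
    refine hca ?_
    rw [← hvac, h1, mul_inv_cancel_right]
  -- centralisers of elements of the core
  have hN : ∀ y ∈ O, y ≠ 1 → normalizer (zpowers y : Set G) ≤ H := by
    intro y hy hy1
    have hyp : IsPGroup p (zpowers y) := hOp.to_le (zpowers_le.2 hy)
    have hSy : (S : Subgroup G) ≤ normalizer (zpowers y : Set G) := fun s hs => by
      refine mem_normalizer_fintype fun x hx => ?_
      obtain ⟨i, rfl⟩ := mem_zpowers_iff.1 hx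
      rw [← conj_zpow]
      by_cases hs1 : s = 1
      · rw [hs1]; simp
      by_cases hsa : s = a
      · subst hsa
        rw [show s * y * s⁻¹ = y from mul_inv_eq_iff_eq_mul.2 (hOa y hy).symm]
        exact zpow_mem (mem_zpowers y) i
      · rw [hinvc s hs hs1 hsa y hy]
        exact zpow_mem (inv_mem (mem_zpowers y)) i
    haveI := h.solvable_normalizer hyp (by rwa [Ne, zpowers_eq_bot]) hSy
    set L := normalizer (zpowers y : Set G)
    obtain ⟨hLp, hLmax, -⟩ := h.core_spec (L := L) hSy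
    have hnc : ¬ (S : Subgroup G) ≤ centralizer (zpowers y : Set G) := fun hle =>
      hy1 (hfpf b hb hb1 hab.symm y hy (mem_centralizer_iff.1 (hle hb) y (mem_zpowers y)))
    have hOL : O ≤ L := fun o ho => centralizer_le_normalizer _ (mem_centralizer_iff.2 fun x hx => by
      obtain ⟨i, rfl⟩ := hx
      exact ((hOcomm y hy o ho).zpow_left i).eq)
    have hle : O ≤ core L := hLmax O hOL hOp (hSH.trans (le_normalizer_core H))
    have heq : core L ≤ O := by
      have := (hVO ▸ hV).2 ⟨hLp, hSy.trans (le_normalizer_core L)⟩ hle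
      exact this
    intro x hx
    obtain ⟨s, hs, o, ho, rfl⟩ := h.decomp hSy
      (fun n hn hnS hodd => h.fix_of_nontrivial hyp hSy hnc hn hnS hodd) x hx
    exact mul_mem (hSH hs) (core_le H (heq ho))
  -- the abelian subgroup
  set K := H ⊓ centralizer (O : Set G) with hKdef
  have hKform : ∀ x ∈ K, ∃ i : ℕ, ∃ o ∈ O, x = a ^ i * o := by
    rintro x ⟨hxH, hxO⟩
    obtain ⟨s, hs, o, ho, rfl⟩ := hdec x hxH
    have hso : Commute o₁ (s * o) := mem_centralizer_iff.1 hxO o₁ ho₁
    have hso1 : Commute o₁ s := by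
      have := hso.mul_right ((hOcomm o₁ ho₁ o ho).inv_right)
      rwa [mul_assoc, mul_inv_cancel, mul_one] at this
    by_cases hs1 : s = 1
    · exact ⟨0, o, ho, by rw [hs1, pow_zero]⟩
    by_cases hsa : s = a
    · exact ⟨1, o, ho, by rw [hsa, pow_one]⟩
    · exact absurd (hfpf s hs hs1 hsa o₁ ho₁ hso1) ho₁1
  have haK : a ∈ K := ⟨mem_centralizer_singleton_iff.2 rfl,
    mem_centralizer_iff.2 fun o ho => (hOa o ho).eq⟩
  have hOK : O ≤ K := le_inf (core_le H) fun o ho => mem_centralizer_iff.2 fun o' ho' => (hOcomm o' ho' o ho).eq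
  have hKab : IsMulCommutative K := ⟨⟨fun x y => Subtype.ext (by
    obtain ⟨i, o, ho, hx⟩ := hKform x x.2
    obtain ⟨j, o', ho', hy⟩ := hKform y y.2
    show (x : G) * y = y * x
    rw [hx, hy]
    exact ((((Commute.refl a).pow_pow i j).mul_right ((hOa o' ho').symm.pow_left i)).mul_left
      (((hOa o ho).pow_right j).mul_right (hOcomm o ho o' ho'))).eq)⟩⟩
  have hsqo : ∀ o ∈ O, o * o = 1 → o = 1 := fun o ho e => by
    by_contra ho1
    exact Nat.not_odd_iff_even.2 even_two (orderOf_eq_two e ho1 ▸ hOodd o ho)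
  have hsqK : ∀ i : ℕ, ∀ o ∈ O, a ^ i * o * (a ^ i * o) = o * o := fun i o ho => by
    rw [mul_assoc, ← mul_assoc o, (hOa o ho |>.pow_right i).eq, mul_assoc, ← mul_assoc, ← pow_add,
      ← two_mul, pow_mul, sq, invol_sq ha2, one_pow, one_mul]
  have hKinvol : ∀ x ∈ K, orderOf x = 2 → x = a := by
    intro x hx hx2
    obtain ⟨i, o, ho, rfl⟩ := hKform x hx
    have ho1 : o = 1 := hsqo o ho (by rw [← hsqK i o ho, invol_sq hx2])
    subst ho1
    rw [mul_one] at hx2 ⊢
    rw [← pow_mod_orderOf, ha2] at hx2 ⊢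
    rcases Nat.mod_two_eq_zero_or_one i with e | e <;> rw [e] at hx2 ⊢
    · rw [pow_zero, orderOf_one] at hx2; omega
    · rw [pow_one]
  have hbK : b ∉ K := fun hbK => hab ((hKinvol b hbK hb2).symm)
  have hHeq : K ⊔ zpowers b = H := by
    refine le_antisymm (sup_le inf_le_left (zpowers_le.2 (hSH hb))) fun x hx => ?_
    obtain ⟨s, hs, o, ho, rfl⟩ := hdec x hx
    refine mul_mem ?_ (mem_sup_left (hOK ho))
    rcases h.four ha hb hs ha1 hb1 hab with rfl | rfl | rfl | rfl
    · exact one_mem _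
    · exact mem_sup_left haK
    · exact mem_sup_right (mem_zpowers _)
    · exact mul_mem (mem_sup_left haK) (mem_sup_right (mem_zpowers _))
  have hinv : ∀ x ∈ K, b * x * b⁻¹ = x⁻¹ := by
    intro x hx
    obtain ⟨i, o, ho, rfl⟩ := hKform x hx
    have h1 : b * a ^ i * b⁻¹ = (a ^ i)⁻¹ := by
      rw [← inv_pow, inv_eq_of_mul_eq_one_right (invol_sq ha2), ((h.comm hb ha).pow_right i).eq,
        mul_inv_cancel_right]
    rw [show b * (a ^ i * o) * b⁻¹ = (b * a ^ i * b⁻¹) * (b * o * b⁻¹) by group, h1,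
      hinvc b hb hb1 hab.symm o ho, ← mul_inv_rev, (hOa o ho |>.pow_right i).eq]
  have hCK : K ⊓ centralizer ({b} : Set G) = zpowers a := by
    refine le_antisymm ?_ (zpowers_le.2 ⟨haK, mem_centralizer_singleton_iff.2 (h.comm ha hb).eq⟩)
    rintro x ⟨hxK, hxb⟩
    by_cases hx1 : x = 1
    · rw [hx1]; exact one_mem _
    have hxb' : b * x * b⁻¹ = x := mul_inv_eq_iff_eq_mul.2 (mem_centralizer_singleton_iff.1 hxb).symm
    rw [hinv x hxK] at hxb'
    rw [hKinvol x hxK (orderOf_eq_two (by nth_rw 1 [← hxb']; exact inv_mul_cancel x) hx1)]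
    exact mem_zpowers a
  have hTI : ∀ k : G, k ∉ H → K ⊓ K.map (MulAut.conj k).toMonoidHom = ⊥ := by
    intro k hk
    rw [Subgroup.eq_bot_iff_forall]
    intro x hx
    obtain ⟨hxK, hxK'⟩ := H65.mem_inf_conj.1 hx
    by_contra hx1
    have hka : Commute (k * a * k⁻¹) x := by
      have := Commute.map (show Commute (k⁻¹ * x * k) a from mem_centralizer_singleton_iff.1 hxK'.1)
        (MulAut.conj k).toMonoidHom
      simpa [mul_assoc] using this.symm
    have hka2 : orderOf (k * a * k⁻¹) = 2 := H67.invol_conj ha2 k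
    have hend : k * a * k⁻¹ ∈ K → False := fun hm => hk (mem_centralizer_singleton_iff.2
      (mul_inv_eq_iff_eq_mul.1 (hKinvol _ hm hka2)))
    obtain ⟨i, o, ho, rfl⟩ := hKform x hxK
    by_cases ho1 : o = 1
    · have hx2 : orderOf (a ^ i * o) = 2 :=
        orderOf_eq_two (by rw [hsqK i o ho, ho1, one_mul]) hx1
      have h1 := hKinvol _ hxK hx2
      rw [h1] at hxK'
      have h2 := hKinvol _ hxK' (by simpa using H67.invol_conj ha2 k⁻¹)
      exact hk (mem_centralizer_singleton_iff.2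
        (by calc k * a = k * (k⁻¹ * a * k) := by rw [h2]
              _ = a * k := by group))
    refine hend ?_
    have hy : Commute (k * a * k⁻¹) (o * o) := hsqK i o ho ▸ hka.mul_right hka
    have hyO := O.mul_mem ho ho
    have hy1 : o * o ≠ 1 := fun e => ho1 (hsqo o ho e)
    have hmH : k * a * k⁻¹ ∈ H := hN _ hyO hy1 (centralizer_le_normalizer _
      (mem_centralizer_iff.2 fun z hz => by
        obtain ⟨j, rfl⟩ := hz
        exact (hy.symm.zpow_left j).eq))
    refine ⟨hmH, ?_⟩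
    obtain ⟨s, hs, o', ho', hso⟩ := hdec _ hmH
    rw [hso] at hy ⊢
    have hsy : Commute s (o * o) := by
      have := hy.mul_left ((hOcomm o' ho' _ hyO).inv_left)
      rwa [mul_assoc, mul_inv_cancel, mul_one] at this
    refine mul_mem ?_ ((hOK ho').2)
    by_cases hs1 : s = 1
    · rw [hs1]; exact one_mem _
    by_cases hsa : s = a
    · rw [hsa]; exact haK.2
    · exact absurd (hfpf s hs hs1 hsa _ hyO hsy.symm) hy1
  obtain ⟨Q, D, h1, h2, h3, h4, h5, h6, h7⟩ := Cfsg.Agent.S3282.result a ha2 K hKab inf_le_left haK b hb2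
    (hSH hb) hbK hHeq hCK hinv hTI hclass
  exact H65.psl_of_bsw hna Q D h1 h2 h3 h4 h5 h6 h7

end H11.ThreeOrders
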