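import Cfsg.Agent.H11.ThreeOrders.Mixed.Reduce
import Cfsg.Agent.H11.ThreeOrders.Mixed.Aut
import Cfsg.Agent.H11.ThreeOrders.Mixed.False
import Cfsg.Agent.H11.ThreeOrders.Mixed.Klein
import Cfsg.Agent.H11.ThreeOrders.CITCase
import Cfsg.Agent.H70.AutPSLTwoKlein
import Cfsg.Agent.H57.SzClassSquare

/-!
The mixed case: the group is `PSL(2, q)` with `q ≡ 3, 5 (mod 8)`.
-/

set_option autoImplicit false
set_option linter.style.haveILetI false
set_option linter.unusedSectionVars false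

namespace H11.ThreeOrders

open Subgroup H11.CIT H55

universe u

section socle

variable {S : Type u} [Group S] [Finite S] [IsSimpleGroup S]

/-- An element of the spectrum of a group isomorphic to `PSL₂`. -/
theorem exists_order_of_spectrum {F : Type} [Field F] [Fintype F]
    (e : S ≃* Matrix.ProjectiveSpecialLinearGroup (Fin 2) F) {m : ℕ}
    (hm : m ∣ (Fintype.card F - 1) / Nat.gcd 2 (Fintype.card F - 1) ∨
      m ∣ (Fintype.card F + 1) / Nat.gcd 2 (Fintype.card F - 1)) : ∃ x : S, orderOf x = m := by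
  obtain ⟨p, hp⟩ := CharP.exists F
  haveI := hp
  haveI := Fact.mk (CharP.char_is_prime F p)
  obtain ⟨x, hx⟩ : m ∈ Set.range (orderOf : Matrix.ProjectiveSpecialLinearGroup (Fin 2) F → ℕ) := by
    rw [H64.psl2_spectrum p]
    exact Or.inr hm
  exact ⟨e.symm x, by rw [MulEquiv.orderOf_eq, hx]⟩

theorem psl2_order_cases {F : Type} [Field F] [Fintype F] (p : ℕ) [Fact p.Prime] [CharP F p]
    (e : S ≃* Matrix.ProjectiveSpecialLinearGroup (Fin 2) F) (x : S) :
    orderOf x ∣ p ∨ orderOf x ∣ (Fintype.card F - 1) / Nat.gcd 2 (Fintype.card F - 1) ∨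
      orderOf x ∣ (Fintype.card F + 1) / Nat.gcd 2 (Fintype.card F - 1) := by
  have h : orderOf (e x) ∈ Set.range (orderOf : Matrix.ProjectiveSpecialLinearGroup (Fin 2) F → ℕ) :=
    ⟨e x, rfl⟩
  rw [H64.psl2_spectrum p, Set.mem_ofPred_eq, MulEquiv.orderOf_eq] at h
  exact h

theorem psl34_order_four {F : Type} [Field F] [Fintype F] (hF : Fintype.card F = 4) :
    ∃ x : Matrix.ProjectiveSpecialLinearGroup (Fin 3) F, orderOf x = 4 := by
  haveI : Fact (Nat.Prime 2) := ⟨Nat.prime_two⟩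
  haveI := H28.CITGraph.charTwo_of_card (n := 2) (hF.trans (by norm_num))
  let A : SLn 3 F := ⟨!![1, 1, 0; 0, 1, 1; 0, 0, 1], by simp [Matrix.det_fin_three]⟩
  refine ⟨pmk A, orderOf_eq_prime_pow (p := 2) (n := 1) (fun h => ?_) ?_⟩
  · rw [pow_one, ← map_pow] at h
    obtain ⟨c, -, hc⟩ := pmk_eq_one_iff.1 h
    rw [Matrix.SpecialLinearGroup.coe_pow] at hc
    have := congr_fun (congr_fun hc 0) 2
    simp [A, pow_two, Matrix.SpecialLinearGroup.coe_mul, Matrix.mul_apply, Fin.sum_univ_three] at this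
  · rw [← map_pow]
    have : A ^ 2 ^ (1 + 1) = 1 := by
      apply Subtype.ext
      rw [Matrix.SpecialLinearGroup.coe_pow, Matrix.SpecialLinearGroup.coe_one]
      ext i j
      fin_cases i <;> fin_cases j <;>
        simp [A, pow_succ, Matrix.mul_apply, Fin.sum_univ_three, CharTwo.add_self_eq_zero, CharTwo.two_eq_zero]
    rw [this, map_one]

/-- Simple nonabelian groups satisfying the hypothesis without elements of order four. -/
theorem socle_type {q : ℕ} (hq : q.Prime) (hq2 : q ≠ 2) (hnc : ¬ IsMulCommutative S) (hc : Cond S)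
    (h4 : ∀ x : S, orderOf x ≠ 4)
    (h2r : ∀ r : ℕ, r.Prime → r ≠ 2 → ∀ x : S, orderOf x = 2 * r → r = q) :
    (∃ (F : Type) (_ : Field F) (_ : Fintype F), (Fintype.card F % 8 = 3 ∨ Fintype.card F % 8 = 5) ∧
        3 < Fintype.card F ∧ ((Fintype.card F).Prime ∨ Mix S q) ∧
        Nonempty (S ≃* Matrix.ProjectiveSpecialLinearGroup (Fin 2) F)) ∨
      ∃ (F : Type) (_ : Field F) (_ : Fintype F) (n : ℕ), 3 ≤ n ∧ Fintype.card F = 2 ^ n ∧
        Nonempty (S ≃* Matrix.ProjectiveSpecialLinearGroup (Fin 2) F) := by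
  classical
  haveI : Fact (Nat.Prime 2) := ⟨Nat.prime_two⟩
  by_cases hel : ∃ x : S, orderOf x = 2 * q
  · -- mixed
    have hM : Mix S q := ⟨hc, hq, hq2, hel⟩
    obtain ⟨g, hg⟩ := hel
    obtain ⟨T⟩ : Nonempty (Sylow 2 S) := inferInstance
    obtain ⟨k, hk⟩ := IsPGroup.iff_card.1 T.isPGroup'
    have hns : ¬ Group.IsSolvable S := fun h =>
      hnc ⟨⟨fun a b => IsSimpleGroup.comm_iff_isSolvable.2 h a b⟩⟩
    have hk2 : k = 2 := by
      rcases lt_trichotomy k 2 with h | h | h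
      · exact absurd (solvable_of_sylow_small T (hk.trans_le
          ((Nat.pow_le_pow_right two_pos (by omega : k ≤ 1)).trans (by norm_num)))) hns
      · exact h
      · exact absurd (hM.false_of_big hnc T ((Nat.pow_le_pow_right two_pos (by omega : 3 ≤ k)).trans_eq hk.symm)) id
    subst hk2
    obtain ⟨F, iF, iFt, hodd, ⟨e⟩⟩ := hM.psl_of_four hnc T (hk.trans (by norm_num)) hg
    refine Or.inl ⟨F, iF, iFt, H70.card_mod_eight_of_abelian_sylow hodd fun P => ?_, ?_, Or.inr hM, ⟨e⟩⟩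
    · have hP := hM.comm_of_isPGroup ((P.isPGroup').map e.symm.toMonoidHom)
      exact ⟨⟨fun a b => Subtype.ext (e.symm.injective (by
        rw [Subgroup.coe_mul, Subgroup.coe_mul, map_mul, map_mul]
        exact congrArg Subtype.val (hP.is_comm.comm ⟨_, mem_map_of_mem e.symm.toMonoidHom a.2⟩
          ⟨_, mem_map_of_mem e.symm.toMonoidHom b.2⟩)))⟩⟩
    · by_contra hle
      have := Fintype.one_lt_card (α := F)
      have := Nat.odd_iff.1 hodd
      exact H59.CIT.psl2_small_not hnc e (Or.inr (by omega))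
  -- involution centralisers are 2-groups
  have hcit : IsCIT S := H28.CITGraph.isCIT_of_graph fun r hr hr2 ⟨y, hy⟩ =>
    hel ⟨y, h2r r hr hr2 y hy ▸ hy⟩
  have five : ∀ (E : Type) [Field E] [Fintype E], Fintype.card E = 5 →
      ∀ _ : S ≃* Matrix.ProjectiveSpecialLinearGroup (Fin 2) E,
      ∃ (F : Type) (_ : Field F) (_ : Fintype F), (Fintype.card F % 8 = 3 ∨ Fintype.card F % 8 = 5) ∧
        3 < Fintype.card F ∧ ((Fintype.card F).Prime ∨ Mix S q) ∧
        Nonempty (S ≃* Matrix.ProjectiveSpecialLinearGroup (Fin 2) F) := fun E iE jE h e =>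
    ⟨E, iE, jE, by rw [h]; decide, by omega, Or.inl (by rw [h]; norm_num), ⟨e⟩⟩
  rcases citClass S hnc hcit with ⟨E, iE, jE, hE, ⟨e⟩⟩ | ⟨E, iE, jE, hE, ⟨e⟩⟩ |
      ⟨E, iE, jE, m, hm, hE, ⟨e⟩⟩
  · rcases hE with hE | ⟨n, hn⟩ | ⟨hp, k, hk⟩
    · exfalso
      obtain ⟨x, hx⟩ := exists_order_of_spectrum e (m := 4) (Or.inl (by rw [hE]; decide))
      exact h4 x hx
    · have h1 := Fintype.one_lt_card (α := E)
      rcases lt_trichotomy n 2 with h | h | h
      · exfalso
        interval_cases n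
        · simp at hn; omega
        · exact H59.CIT.psl2_small_not hnc e (Or.inl (by rw [hn]; norm_num))
      · subst h
        haveI : Fact (Nat.Prime 5) := ⟨by norm_num⟩
        obtain ⟨i⟩ := H37.PSL2_four_mulEquiv_alternating (F := E)
          (by rw [Nat.card_eq_fintype_card, hn]; norm_num)
        obtain ⟨i'⟩ := H37.PSL2_five_mulEquiv_alternating (F := ZMod 5) (ZMod.card 5)
        exact Or.inl (five (ZMod 5) (ZMod.card 5) ((e.trans i).trans i'.symm))
      · exact Or.inr ⟨E, iE, jE, n, h, hn, ⟨e⟩⟩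
    · set f := Fintype.card E with hf
      have hf2 : f ≠ 2 := fun h' => H59.CIT.psl2_small_not hnc e (Or.inl h')
      have hf3 : f ≠ 3 := fun h' => H59.CIT.psl2_small_not hnc e (Or.inr h')
      have hodd : f % 2 = 1 := Nat.odd_iff.1 (hp.odd_of_ne_two hf2)
      have hg : Nat.gcd 2 (f - 1) = 2 := Nat.gcd_eq_left (by omega)
      have hk2 : k ≤ 2 := by
        by_contra hk3
        obtain ⟨l, rfl⟩ : ∃ l, k = l + 3 := ⟨k - 3, by omega⟩
        rw [show 2 ^ (l + 3) = 8 * 2 ^ l by ring] at hk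
        obtain ⟨x, hx⟩ := exists_order_of_spectrum e (m := 4) (by
          rw [← hf, hg]
          rcases hk with hk | hk
          · exact Or.inl ⟨2 ^ l, by omega⟩
          · exact Or.inr ⟨2 ^ l, by omega⟩)
        exact h4 x hx
      have h5 : f = 5 := by
        have := hp.two_le
        interval_cases k <;> omega
      exact Or.inl (five E h5 e)
  · exfalso
    obtain ⟨x, hx⟩ := psl34_order_four hE
    exact h4 (e.symm x) (by rw [MulEquiv.orderOf_eq, hx])
  · exfalso
    let e' := e.trans (H57.lieSzEquiv hm hE).symm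
    exact h4 (e'.symm (H57.tEl hE (1 : E) 0))
      (by rw [MulEquiv.orderOf_eq, H57.orderOf_tEl_four hE one_ne_zero])

end socle

variable {G : Type u} [Group G] [Finite G] {q : ℕ}

section outer

variable (N : Subgroup G) [N.Normal] {L : Type*} [Group L] (e : N ≃* L)

/-- The action on a copy of a normal subgroup. -/
def actHom : G →* MulAut L := (MulAut.congr e).toMonoidHom.comp MulAut.conjNormal

theorem actHom_apply (g : G) (x : L) :
    actHom N e g x = e ((MulAut.conjNormal g : MulAut N) (e.symm x)) := rfl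

theorem actHom_coe (n : N) : actHom N e (n : G) = MulAut.conj (e n) := by
  ext x
  rw [actHom_apply, MulAut.conj_apply]
  rw [show (MulAut.conjNormal (n : G) : MulAut N) (e.symm x) = n * e.symm x * n⁻¹ from
    Subtype.ext (MulAut.conjNormal_apply _ _), map_mul, map_mul, map_inv, MulEquiv.apply_symm_apply]

theorem actHom_eq_one (hC : centralizer (N : Set G) = ⊥) {g : G} (hg : actHom N e g = 1) : g = 1 := by
  have h1 : (MulAut.conjNormal g : MulAut N) = 1 := (MulAut.congr e).map_eq_one_iff.1 hg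
  have : g ∈ centralizer (N : Set G) := by
    rw [mem_centralizer_iff]
    intro x hx
    have h2 := congrArg Subtype.val (DFunLike.congr_fun h1 ⟨x, hx⟩)
    rw [MulAut.conjNormal_apply] at h2
    simp only [MulAut.one_apply] at h2
    exact (mul_inv_eq_iff_eq_mul.1 h2).symm
  rwa [hC, mem_bot] at this

theorem mem_of_inner (hC : centralizer (N : Set G) = ⊥) {g : G} {s : L}
    (hg : actHom N e g = MulAut.conj s) : g ∈ N := by
  have h : ((e.symm s : N) : G)⁻¹ * g = 1 := actHom_eq_one N e hC (by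
    rw [map_mul, map_inv, actHom_coe, MulEquiv.apply_symm_apply, hg, inv_mul_cancel])
  rw [inv_mul_eq_one] at h
  exact h ▸ (e.symm s).2

/-- A Sylow 2-subgroup lies in `N` when fixing a Sylow 2-subgroup of `N` pointwise is inner. -/
theorem sylow_le (h : Mix G q) (hC : centralizer (N : Set G) = ⊥) (P : Sylow 2 L)
    (T : Sylow 2 G) (hPT : (P : Subgroup L).map (N.subtype.comp e.symm.toMonoidHom) ≤ T)
    (hinn : ∀ α : MulAut L, α ^ 2 = 1 → (∀ v ∈ (P : Subgroup L), α v = v) → ∃ s, α = MulAut.conj s) :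
    (T : Subgroup G) ≤ N := by
  intro g hg
  obtain ⟨s, hs⟩ := hinn (actHom N e g)
    (by rw [← map_pow, sq, h.sq_of_isPGroup T.isPGroup' g hg, map_one]) fun v hv => by
    have hv' : ((e.symm v : N) : G) ∈ (T : Subgroup G) := hPT ⟨v, hv, rfl⟩
    have hc : g * ((e.symm v : N) : G) = ((e.symm v : N) : G) * g := congrArg Subtype.val
      ((h.comm_of_isPGroup T.isPGroup').is_comm.comm (⟨g, hg⟩ : (T : Subgroup G)) ⟨_, hv'⟩)
    rw [actHom_apply, show (MulAut.conjNormal g : MulAut N) (e.symm v) = e.symm v from Subtype.ext (by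
      rw [MulAut.conjNormal_apply, hc, mul_inv_cancel_right]), MulEquiv.apply_symm_apply]
  exact mem_of_inner N e hC hs

end outer

/-- A power of prime power order outside a normal subgroup. -/
theorem exists_part (N : Subgroup G) [N.Normal] {s : ℕ} (hs : s.Prime) {g : G}
    (hg : orderOf (g : G ⧸ N) = s) : ∃ i : ℕ, (∃ k, orderOf (g ^ i) = s ^ k) ∧ g ^ i ∉ N := by
  obtain ⟨k, b, hb, hkb⟩ := Nat.exists_eq_pow_mul_and_not_dvd (orderOf_pos g).ne' s hs.ne_one
  refine ⟨b, ⟨k, ?_⟩, fun hm => hb ?_⟩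
  · rw [orderOf_pow_of_dvd (fun e => hb (by rw [e]; exact dvd_zero s)) (hkb ▸ dvd_mul_left b (s ^ k)), hkb,
      Nat.mul_div_cancel _ (Nat.pos_of_ne_zero fun e => hb (by rw [e]; exact dvd_zero s))]
  · rw [← hg]
    exact orderOf_dvd_of_pow_eq_one (by rw [← QuotientGroup.mk_pow]; exact (QuotientGroup.eq_one_iff _).2 hm)

theorem eq_top_of_index (N : Subgroup G) [N.Normal] (T : Sylow 2 G) (hT : (T : Subgroup G) ≤ N)
    (H : ∀ s : ℕ, s.Prime → s ≠ 2 → ∀ g : G, orderOf (g : G ⧸ N) = s → False) : N = ⊤ := by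
  haveI : Fact (Nat.Prime 2) := ⟨Nat.prime_two⟩
  by_contra hne
  obtain ⟨s, hs, hsd⟩ := Nat.exists_prime_and_dvd (show N.index ≠ 1 by rwa [Ne, index_eq_one])
  haveI := Fact.mk hs
  have hs2 : s ≠ 2 := fun e => T.not_dvd_index ((e ▸ hsd).trans (index_dvd_of_le hT))
  rw [index_eq_card] at hsd
  obtain ⟨x, hx⟩ := exists_prime_orderOf_dvd_card' (G := G ⧸ N) s hsd
  obtain ⟨g, rfl⟩ := QuotientGroup.mk_surjective x
  exact H s hs hs2 g hx

theorem dvd_of_pow_mem (N : Subgroup G) [N.Normal] {q m : ℕ} (hq : q.Prime) {g : G} (hg : g ^ q = 1)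
    (hgN : g ∉ N) (hm : g ^ m ∈ N) : q ∣ m := by
  by_contra hd
  refine hgN (H65.mem_of_pow_mem_of_coprime (a := m) (b := q) ((hq.coprime_iff_not_dvd.2 hd).symm) hm ?_)
  rw [hg]; exact one_mem _

/-- No outer automorphisms over `PSL(2, 2 ^ n)`. -/
theorem char_two_top (h : Mix G q) (N : Subgroup G) [N.Normal] [IsSimpleGroup N]
    (hC : centralizer (N : Set G) = ⊥) {F : Type} [Field F] [Fintype F] {n : ℕ} (hn : 3 ≤ n)
    (hF : Fintype.card F = 2 ^ n) (e : N ≃* PSLn 2 F) : N = ⊤ := by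
  classical
  haveI : Fact (Nat.Prime 2) := ⟨Nat.prime_two⟩
  haveI := H28.CITGraph.charTwo_of_card hF
  let P : Sylow 2 (PSLn 2 F) := (sylowUni 2 F 2).mapSurjective pmk_surjective
  have hP : (P : Subgroup (PSLn 2 F)) = uniTriP 2 F := rfl
  obtain ⟨T, hT⟩ := (P.isPGroup'.map (N.subtype.comp e.symm.toMonoidHom)).exists_le_sylow
  refine eq_top_of_index N T (sylow_le N e h hC P T hT fun α _ hfix => psl2_fix_uni_inner α (hP ▸ hfix))
    fun s hs hs2 g hg => ?_
  obtain ⟨u, hu, hfix⟩ := H28.CITGraph.psl2_aut_fix (F := F)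
  obtain ⟨s₀, h1, w, hwo, hw1, h2⟩ := hfix (actHom N e g)
  set g' := ((e.symm s₀ : N) : G)⁻¹ * g with hg'
  have hact : actHom N e g' = (MulAut.conj s₀)⁻¹ * actHom N e g := by
    rw [hg', map_mul, map_inv, actHom_coe, MulEquiv.apply_symm_apply]
  have hg'N : (g' : G ⧸ N) = (g : G ⧸ N) := by
    rw [hg', QuotientGroup.mk_mul, QuotientGroup.mk_inv,
      (QuotientGroup.eq_one_iff _).2 (e.symm s₀).2, inv_one, one_mul]
  obtain ⟨i, ⟨k, hk⟩, hi⟩ := exists_part N hs (g := g') (by rw [hg'N, hg])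
  have hcomm : ∀ v : PSLn 2 F, actHom N e g' v = v → Commute (g' ^ i) ((e.symm v : N) : G) := by
    intro v hv
    refine Commute.pow_left ?_ i
    have := congrArg Subtype.val (congrArg e.symm hv)
    rw [actHom_apply, MulEquiv.symm_apply_apply, MulAut.conjNormal_apply] at this
    exact mul_inv_eq_iff_eq_mul.1 this
  have hgo : Odd (orderOf (g' ^ i)) := hk ▸ (hs.odd_of_ne_two hs2).pow
  have hg1 : g' ^ i ≠ 1 := fun e' => hi (e' ▸ one_mem _)
  have hu2 : orderOf ((e.symm u : N) : G) = 2 := by rw [orderOf_coe, MulEquiv.orderOf_eq, hu]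
  have hq := h.eq_q_of_commute hu2 (hcomm u (hact ▸ h1)) hgo hg1
  -- `q` divides `n`
  have hqn : q ∣ n := by
    obtain ⟨t, ht⟩ := psl2_aut_pow (p := 2) hF (actHom N e (g' ^ i))
    rw [← map_pow] at ht
    have := dvd_of_pow_mem N h.prime (by rw [← hq, pow_orderOf_eq_one]) hi (mem_of_inner N e hC ht)
    exact (h.prime.dvd_mul.1 this).resolve_left fun hd =>
      h.ne_two ((Nat.prime_dvd_prime_iff_eq h.prime Nat.prime_two).1 hd)
  -- an element of order `q` in `N`
  obtain ⟨r, hr, hrd⟩ := Nat.exists_prime_and_dvd (fun e' => hw1 (orderOf_eq_one_iff.1 e'))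
  set w' := w ^ (orderOf w / r) with hw'
  have hw'o : orderOf w' = r := orderOf_div w hrd
  have hwc : Commute ((e.symm w' : N) : G) (g' ^ i) := by
    rw [hw', map_pow, Subgroup.coe_pow]
    exact ((hcomm w (hact ▸ h2)).symm).pow_left _
  have hr2 : r ≠ 2 := fun e' => Nat.not_odd_iff_even.2 even_two ((e' ▸ hwo.of_dvd_nat hrd :))
  have hrq : orderOf ((e.symm w' : N) : G) = q :=
    (h.eq_of_commute_q hq hwc (by rw [orderOf_coe, MulEquiv.orderOf_eq, hw'o]; exact hr)).resolve_left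
      (by rw [orderOf_coe, MulEquiv.orderOf_eq, hw'o]; exact hr2)
  rw [orderOf_coe] at hrq
  have hq2 := h.two_lt
  have hg1' : Nat.gcd 2 (Fintype.card F - 1) = 1 := by
    rw [← Nat.coprime_iff_gcd_eq_one, Nat.coprime_two_left, Nat.odd_iff]
    have : 2 ∣ Fintype.card F := hF ▸ dvd_pow_self 2 (by omega)
    have := Fintype.one_lt_card (α := F)
    omega
  obtain ⟨m, rfl⟩ := hqn
  have hx : Fintype.card F = (2 ^ m) ^ q := by rw [hF, ← pow_mul, mul_comm m]
  have key : q ^ 2 ∣ (Fintype.card F - 1) / Nat.gcd 2 (Fintype.card F - 1) ∨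
      q ^ 2 ∣ (Fintype.card F + 1) / Nat.gcd 2 (Fintype.card F - 1) := by
    rw [hg1', Nat.div_one, Nat.div_one, hx]
    rcases psl2_order_cases 2 e (e.symm w') with hd | hd | hd <;> rw [hrq] at hd
    · have := Nat.le_of_dvd two_pos hd; omega
    · rw [hg1', Nat.div_one, hx] at hd
      exact Or.inl (sq_dvd_pow_sub_one h.prime (by positivity) hd)
    · rw [hg1', Nat.div_one, hx] at hd
      exact Or.inr (sq_dvd_pow_add_one h.prime h.ne_two hd)
  obtain ⟨x, hxo⟩ := exists_order_of_spectrum e key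
  rw [← orderOf_coe] at hxo
  have := h.order_q_of_odd (g := (x : G)) (hxo ▸ dvd_pow_self q two_ne_zero) (hxo ▸ h.odd_q.pow)
  rw [hxo] at this
  nlinarith

/-- No outer automorphisms over `PSL(2, q)`, `q ≡ 3, 5 (mod 8)`. -/
theorem odd_top (h : Mix G q) (N : Subgroup G) [N.Normal] [IsSimpleGroup N]
    (hnc : ¬ IsMulCommutative N) (hC : centralizer (N : Set G) = ⊥) {F : Type} [Field F] [Fintype F]
    (hF : Fintype.card F % 8 = 3 ∨ Fintype.card F % 8 = 5)
    (hor : (Fintype.card F).Prime ∨ Mix N q) (e : N ≃* PSLn 2 F) : N = ⊤ := by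
  classical
  haveI : Fact (Nat.Prime 2) := ⟨Nat.prime_two⟩
  obtain ⟨p, hp⟩ := CharP.exists F
  haveI := hp
  obtain ⟨f, hpp, hf⟩ := FiniteField.card F p
  haveI := Fact.mk hpp
  obtain ⟨P⟩ : Nonempty (Sylow 2 (PSLn 2 F)) := inferInstance
  obtain ⟨T, hT⟩ := (P.isPGroup'.map (N.subtype.comp e.symm.toMonoidHom)).exists_le_sylow
  have hTN : (T : Subgroup G) ≤ N := sylow_le N e h hC P T hT fun α hα hfix => by
    obtain ⟨v, -, hv⟩ := H70.mulAut_fixing_sylow hF P α (k := 1) (by rw [pow_one, hα]) hfix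
    exact ⟨v, hv⟩
  refine eq_top_of_index N T hTN fun s hs hs2 g hg => ?_
  have hsf : s ∣ 2 * (f : ℕ) := by
    obtain ⟨t, ht⟩ := psl2_aut_pow (p := p) hf (actHom N e g)
    rw [← map_pow] at ht
    rw [← hg]
    exact orderOf_dvd_of_pow_eq_one
      (by rw [← QuotientGroup.mk_pow]; exact (QuotientGroup.eq_one_iff _).2 (mem_of_inner N e hC ht))
  rcases hor with hprime | hM
  · have hf1 : (f : ℕ) = 1 := by
      rw [hf] at hprime
      exact hprime.eq_one_of_pow
    rw [hf1, mul_one] at hsf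
    exact hs2 ((Nat.prime_dvd_prime_iff_eq hs Nat.prime_two).1 hsf)
  set T' := T.subtype hTN with hT'
  have hT4 : Nat.card (T : Subgroup G) = 4 := by
    haveI hK := H37.sylow_two_PSL_isKleinFour (by rw [Nat.card_eq_fintype_card]; exact hF) P
    have h1 : Nat.card (T' : Subgroup N) = Nat.card (P : Subgroup (PSLn 2 F)) := by
      rw [Sylow.card_eq_multiplicity, Sylow.card_eq_multiplicity, Nat.card_congr e.toEquiv]
    rw [← Nat.card_congr (subgroupOfEquivOfLe hTN).toEquiv]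
    exact h1.trans hK.card_four
  have hKG : Kl T q := ⟨h, hT4⟩
  have hKN : Kl T' q := ⟨hM, (Nat.card_congr (subgroupOfEquivOfLe hTN).toEquiv).trans hT4⟩
  obtain ⟨x₂, hx₂⟩ := hM.elt
  -- a representative normalising `T`
  obtain ⟨g₁, hg₁, hg₁o⟩ : ∃ g₁ ∈ normalizer ((T : Subgroup G) : Set G), orderOf (g₁ : G ⧸ N) = s := by
    have htop := (Sylow.normalizer_sup_eq_top' T hTN).ge (mem_top g)
    obtain ⟨n, hn, m, hm, hnm⟩ := mem_sup_of_normal_right.1 htop
    refine ⟨n, hn, ?_⟩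
    rw [← hg, ← hnm, QuotientGroup.mk_mul, (QuotientGroup.eq_one_iff m).2 hm, mul_one]
  obtain ⟨a, ha, ha1⟩ := hKG.exists_ne_one
  have hb := (mem_normalizer_iff.1 hg₁ a).1 ha
  -- adjust to fix `a`
  obtain ⟨v, hv, -, hvab⟩ := hKN.exists_moving_odd hnc (a := ⟨a, hTN ha⟩) (b := ⟨g₁ * a * g₁⁻¹, hTN hb⟩)
    ha (fun e' => ha1 (congrArg Subtype.val e')) hb
    (fun e' => ha1 (conj_eq_one_iff.1 (congrArg Subtype.val e')))
  have hvN : (v : G) ∈ normalizer ((T : Subgroup G) : Set G) := by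
    refine mem_normalizer_iff.2 fun x => ?_
    by_cases hx : x ∈ N
    · exact (mem_normalizer_iff.1 hv ⟨x, hx⟩)
    · refine iff_of_false (fun h' => hx (hTN h')) fun h' => hx ?_
      have := mul_mem (mul_mem (inv_mem v.2) (hTN h')) v.2
      simpa [mul_assoc] using this
  have hvab' : (v : G) * a * (v : G)⁻¹ = g₁ * a * g₁⁻¹ := congrArg Subtype.val hvab
  set g₂ := (v : G)⁻¹ * g₁ with hg₂
  have hg₂N : g₂ ∈ normalizer ((T : Subgroup G) : Set G) := mul_mem (inv_mem hvN) hg₁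
  have hg₂a : Commute g₂ a := by
    refine mul_inv_eq_iff_eq_mul.1 ?_
    rw [hg₂, show (v : G)⁻¹ * g₁ * a * ((v : G)⁻¹ * g₁)⁻¹ = (v : G)⁻¹ * (g₁ * a * g₁⁻¹) * v by group,
      ← hvab']
    group
  have hg₂o : orderOf (g₂ : G ⧸ N) = s := by
    rw [hg₂, QuotientGroup.mk_mul, QuotientGroup.mk_inv, (QuotientGroup.eq_one_iff _).2 v.2, inv_one,
      one_mul, hg₁o]
  obtain ⟨i, ⟨k, hk⟩, hi⟩ := exists_part N hs hg₂o
  set g₃ := g₂ ^ i with hg₃
  have hg₃o : Odd (orderOf g₃) := hk ▸ (hs.odd_of_ne_two hs2).pow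
  have hg₃T : ∀ t ∈ (T : Subgroup G), Commute g₃ t := hKG.centralises_of_fix (pow_mem hg₂N i) hg₃o ha ha1
    (mul_inv_eq_iff_eq_mul.2 (hg₂a.pow_left i))
  have hq : orderOf g₃ = q := h.eq_q_of_commute (hKG.invol ha ha1) (hg₃T a ha) hg₃o
    (fun e' => hi (e' ▸ one_mem _))
  -- an odd element of `N` moving `a`
  obtain ⟨b, hbT, hba⟩ : ∃ b ∈ (T : Subgroup G), b ∉ zpowers a := SetLike.not_le_iff_exists.1 fun hle => by
    have := card_dvd_of_le hle
    rw [hT4, Nat.card_zpowers, hKG.invol ha ha1] at this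
    norm_num at this
  have hb1 : b ≠ 1 := fun e' => hba (e' ▸ one_mem _)
  have hab : a ≠ b := fun e' => hba (e' ▸ mem_zpowers a)
  obtain ⟨r, hr, hro, hrab⟩ := hKN.exists_moving_odd hnc (a := ⟨a, hTN ha⟩) (b := ⟨b, hTN hbT⟩)
    ha (fun e' => ha1 (congrArg Subtype.val e')) hbT (fun e' => hb1 (congrArg Subtype.val e'))
  have hrab' : (r : G) * a * (r : G)⁻¹ = b := congrArg Subtype.val hrab
  rw [← orderOf_coe] at hro
  -- their commutator lies in `T`
  set c : N := ⟨g₃ * r * g₃⁻¹ * (r : G)⁻¹,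
    mul_mem ((inferInstance : N.Normal).conj_mem _ r.2 g₃) (inv_mem r.2)⟩ with hc
  have hcC : ∀ t ∈ (T' : Subgroup N), Commute c t := by
    intro t ht
    have h1 : (r : G)⁻¹ * t * r ∈ (T : Subgroup G) := by
      have := (mem_normalizer_iff.1 (inv_mem hr) t).1 ht
      rw [inv_inv] at this
      exact this
    have h3 : Commute ((r : G) * g₃⁻¹ * (r : G)⁻¹) (t : G) := by
      have h4 := ((hg₃T _ h1).inv_left).map (MulAut.conj (r : G)).toMonoidHom
      simpa [mul_assoc] using h4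
    refine Subtype.ext (Commute.eq ?_)
    show Commute (g₃ * r * g₃⁻¹ * (r : G)⁻¹) t
    rw [show g₃ * r * g₃⁻¹ * (r : G)⁻¹ = g₃ * ((r : G) * g₃⁻¹ * (r : G)⁻¹) by group]
    exact (hg₃T t ht).mul_left h3
  have hcT : (c : G) ∈ (T : Subgroup G) := by
    obtain ⟨x, y, hxy, hx, hy, ⟨j, hj⟩, hyo⟩ := H59.OneComp.exists_two_odd c
    have hy1 : y = 1 := hKN.no_centralizing hnc hx₂ hyo fun t ht => by
      obtain ⟨l, rfl⟩ := hy
      exact (hcC t ht).zpow_left l
    have hxc : x = c := by rw [hxy, hy1, mul_one]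
    exact H59.OneComp.mem_sylow_of_normalizes T' (centralizer_le_normalizer _
      (mem_centralizer_iff.2 fun t ht => ((hcC t ht).eq).symm)) (hxc ▸ hj)
  have hcr : g₃ * r * g₃⁻¹ = (c : G) * r := by rw [hc]; group
  have hpow : ∀ m : ℕ, g₃ ^ m * r * (g₃ ^ m)⁻¹ = (c : G) ^ m * r := by
    intro m
    induction m with
    | zero => simp
    | succ m ih =>
      rw [pow_succ', show g₃ * g₃ ^ m * (r : G) * (g₃ * g₃ ^ m)⁻¹ = g₃ * (g₃ ^ m * r * (g₃ ^ m)⁻¹) * g₃⁻¹ by group,
        ih, show g₃ * ((c : G) ^ m * r) * g₃⁻¹ = (g₃ * (c : G) ^ m * g₃⁻¹) * (g₃ * r * g₃⁻¹) by group, hcr,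
        ((hg₃T _ hcT).pow_right m).eq, mul_inv_cancel_right, ← mul_assoc, ← pow_succ]
  have hc1 : (c : G) = 1 := by
    have h1 := hpow q
    rw [← hq, pow_orderOf_eq_one, one_mul, inv_one, mul_one, hq] at h1
    obtain ⟨l, hl⟩ := h.odd_q
    rw [hl, pow_succ, pow_mul, sq, h.sq_of_isPGroup T.isPGroup' _ hcT, one_pow, one_mul] at h1
    exact (mul_eq_right.1 h1.symm)
  have hgr : Commute (r : G) g₃ := by
    rw [hc1, one_mul] at hcr
    exact (mul_inv_eq_iff_eq_mul.1 hcr).symm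
  have hr1 : (r : G) ≠ 1 := fun e' => hab (by rw [← hrab', e']; group)
  have hrq : orderOf (r : G) = q := by
    obtain ⟨l, hl, hld⟩ := Nat.exists_prime_and_dvd (fun e' => hr1 (orderOf_eq_one_iff.1 e'))
    have h1 := h.eq_of_commute_q hq (hgr.pow_left (orderOf (r : G) / l)) (by rw [orderOf_div _ hld]; exact hl)
    rw [orderOf_div _ hld] at h1
    rcases h1 with rfl | rfl
    · exact absurd (hro.of_dvd_nat hld) (by decide)
    · exact h.order_q_of_odd hld hro
  -- so `q = 3`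
  have hrT : ∀ x : G, x ∈ (T : Subgroup G) → (r : G) * x * (r : G)⁻¹ ∈ (T : Subgroup G) := fun x hx =>
    (mem_normalizer_iff.1 hr ⟨x, hTN hx⟩).1 hx
  have hab1 : a * b ≠ 1 := fun e' =>
    hab (mul_left_cancel ((h.sq_of_isPGroup T.isPGroup' a ha).trans e'.symm))
  have hrfix : ¬ Commute (r : G) a := fun hcm => hab (by rw [← hrab', hcm.eq, mul_inv_cancel_right])
  have hrb : (r : G) * b * (r : G)⁻¹ = a * b := by
    rcases hKG.four ha hbT (hrT b hbT) ha1 hb1 hab with e' | e' | e' | e'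
    · exact absurd (conj_eq_one_iff.1 e') hb1
    · exfalso
      refine hrfix ?_
      obtain ⟨l, hl⟩ := hro
      have h2 : Commute ((r : G) ^ 2) a := by
        refine mul_inv_eq_iff_eq_mul.1 ?_
        rw [show (r : G) ^ 2 * a * ((r : G) ^ 2)⁻¹ = (r : G) * ((r : G) * a * (r : G)⁻¹) * (r : G)⁻¹ by
          simp [sq, mul_assoc], hrab', e']
      have e2 : ((r : G) ^ 2) ^ (l + 1) = r := by
        rw [← pow_mul, show 2 * (l + 1) = orderOf (r : G) + 1 by omega, pow_succ, pow_orderOf_eq_one, one_mul]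
      rw [← e2]
      exact h2.pow_left _
    · exact absurd ((MulAut.conj (r : G)).injective (e'.trans hrab'.symm)) hab.symm
    · exact e'
  have hq3 : q = 3 := by
    by_contra hne
    refine hrfix ?_
    have h3 : Commute ((r : G) ^ 3) a := by
      refine mul_inv_eq_iff_eq_mul.1 ?_
      rw [show (r : G) ^ 3 * a * ((r : G) ^ 3)⁻¹ =
          (r : G) * ((r : G) * ((r : G) * a * (r : G)⁻¹) * (r : G)⁻¹) * (r : G)⁻¹ by
            simp [pow_succ, mul_assoc], hrab', hrb,
        show (r : G) * (a * b) * (r : G)⁻¹ = ((r : G) * a * (r : G)⁻¹) * ((r : G) * b * (r : G)⁻¹) by group,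
        hrab', hrb]
      rw [← mul_assoc, (hKG.comm hbT ha).eq, mul_assoc, h.sq_of_isPGroup T.isPGroup' b hbT, mul_one]
    obtain ⟨l, hl⟩ := exists_pow_eq_self_of_coprime (x := (r : G)) (n := 3)
      (by rw [hrq]; exact (Nat.coprime_primes Nat.prime_three h.prime).2 (Ne.symm hne))
    rw [← hl]
    exact h3.pow_left l
  subst hq3
  -- a contradiction in the spectrum
  have h3f : 3 ∣ (f : ℕ) := by
    obtain ⟨t, ht⟩ := psl2_aut_pow (p := p) hf (actHom N e g₃)
    rw [← map_pow] at ht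
    have := dvd_of_pow_mem N Nat.prime_three (by rw [← hq, pow_orderOf_eq_one]) hi (mem_of_inner N e hC ht)
    exact (Nat.prime_three.dvd_mul.1 this).resolve_left (by norm_num)
  obtain ⟨m, hm⟩ := h3f
  have hx : Fintype.card F = (p ^ m) ^ 3 := by rw [hf, hm, ← pow_mul, mul_comm 3]
  have hg2 : Nat.gcd 2 (Fintype.card F - 1) = 2 := Nat.gcd_eq_left (by omega)
  have hdiv : ∀ y : ℕ, 2 ∣ y → 9 ∣ y → 3 ^ 2 ∣ y / 2 := fun y h2 h9 => by
    norm_num; omega
  have key : 3 ^ 2 ∣ (Fintype.card F - 1) / Nat.gcd 2 (Fintype.card F - 1) ∨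
      3 ^ 2 ∣ (Fintype.card F + 1) / Nat.gcd 2 (Fintype.card F - 1) := by
    rcases psl2_order_cases p e x₂ with hd | hd | hd <;> rw [hx₂] at hd
    · exfalso
      rcases (Nat.dvd_prime hpp).1 hd with e' | e'
      · norm_num at e'
      · rw [← e'] at hpp; norm_num at hpp
    · left
      rw [hg2] at hd ⊢
      refine hdiv _ (by omega) ?_
      have := sq_dvd_pow_sub_one Nat.prime_three (x := p ^ m) (pow_pos hpp.pos m)
        (hx ▸ ((dvd_mul_left 3 2).trans hd).trans (Nat.div_dvd_of_dvd (by omega)))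
      rw [← hx] at this
      exact this
    · right
      rw [hg2] at hd ⊢
      refine hdiv _ (by omega) ?_
      have := sq_dvd_pow_add_one Nat.prime_three (x := p ^ m) (by norm_num)
        (hx ▸ ((dvd_mul_left 3 2).trans hd).trans (Nat.div_dvd_of_dvd (by omega)))
      rw [← hx] at this
      exact this
  obtain ⟨x, hxo⟩ := exists_order_of_spectrum e key
  rw [← orderOf_coe] at hxo
  have := h.order_q_of_odd (g := (x : G)) (hxo ▸ dvd_pow_self 3 two_ne_zero) (hxo ▸ h.odd_q.pow)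
  rw [hxo] at this
  norm_num at this

/-- The mixed case. -/
theorem mix_case (h : Mix G q) (hns : ¬ Group.IsSolvable G) : Outcome G := by
  classical
  haveI : Fact (Nat.Prime 2) := ⟨Nat.prime_two⟩
  obtain ⟨N, hNn, hNs, hnc, hC⟩ := h.exists_simple hns
  haveI := hNn
  haveI := hNs
  obtain ⟨y, hy⟩ := h.elt
  have hq2 := h.two_lt
  rcases socle_type (S := N) h.prime h.ne_two hnc (h.cond.subgroup N)
      (fun x hx => h.no_four (x : G) (by rw [orderOf_coe, hx]))
      (fun r hr _ x hx => h.cond.two_mul_unique (x := (x : G)) hr h.prime (by rw [orderOf_coe, hx]) hy) with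
    ⟨F, iF, iFt, h8, h3, hor, ⟨e⟩⟩ | ⟨F, iF, iFt, n, hn, hF, ⟨e⟩⟩
  · have htop := odd_top h N hnc hC h8 hor e
    have iso : G ≃* Matrix.ProjectiveSpecialLinearGroup (Fin 2) F :=
      (((MulEquiv.subgroupCongr htop).trans Subgroup.topEquiv).symm).trans e
    have hg : Nat.gcd 2 (Fintype.card F - 1) = 2 := Nat.gcd_eq_left (by omega)
    obtain ⟨p, hp⟩ := CharP.exists F
    haveI := hp
    haveI := Fact.mk (CharP.char_is_prime F p)
    obtain ⟨h1, h2⟩ := psl2_lengths h.cond iso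
    rw [hg] at h1 h2
    refine Or.inr (Or.inl ⟨F, iF, iFt, ?_, h8, h1, h2, ⟨iso⟩⟩)
    -- `A₅` has no such element
    by_contra hle
    have h5 : Fintype.card F = 5 := by omega
    have hp5 : p = 5 := by
      obtain ⟨f, hpp, hf⟩ := FiniteField.card F p
      have : p ∣ 5 := by rw [← h5, hf]; exact dvd_pow_self p f.pos.ne'
      exact (Nat.prime_dvd_prime_iff_eq hpp (by norm_num)).1 this
    subst hp5
    obtain ⟨y', rfl⟩ : ∃ y' : N, (y' : G) = y := ⟨⟨y, htop ▸ mem_top y⟩, rfl⟩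
    rw [orderOf_coe] at hy
    have h5o := psl2_order_cases 5 e y'
    rw [hy, hg, h5] at h5o
    rcases h5o with hd | hd | hd <;> have := Nat.le_of_dvd (by norm_num) hd
    · omega
    · omega
    · omega
  · exfalso
    have htop := char_two_top h N hC hn hF e
    haveI := H28.CITGraph.charTwo_of_card hF
    obtain ⟨y', rfl⟩ : ∃ y' : N, (y' : G) = y := ⟨⟨y, htop ▸ mem_top y⟩, rfl⟩
    rw [orderOf_coe] at hy
    have hev : 2 ∣ Fintype.card F := hF ▸ dvd_pow_self 2 (by omega)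
    have := Fintype.one_lt_card (α := F)
    have hg : Nat.gcd 2 (Fintype.card F - 1) = 1 := by
      rw [← Nat.coprime_iff_gcd_eq_one, Nat.coprime_two_left, Nat.odd_iff]
      omega
    have h2o := psl2_order_cases 2 e y'
    rw [hy, hg, Nat.div_one, Nat.div_one] at h2o
    rcases h2o with hd | hd | hd
    · have := Nat.le_of_dvd two_pos hd; omega
    · have := (dvd_mul_right 2 q).trans hd; omega
    · have := (dvd_mul_right 2 q).trans hd; omega

end H11.ThreeOrders
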