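import Cfsg.Agent.H11.ThreeOrders.Mixed.Rank
import Cfsg.Agent.H67.SECount

/-!
Mixed case: the action on the cosets of the strongly embedded Sylow normaliser.
-/

set_option autoImplicit false
set_option linter.style.haveILetI false
set_option linter.unusedSectionVars false

namespace H11.ThreeOrders

open Subgroup

universe u

variable {G : Type u} [Group G] [Finite G] {q : ℕ}

/-- The configuration. -/
structure Cfg (S : Sylow 2 G) (q : ℕ) : Prop where
  mix : Mix G q
  big : 4 ≤ Nat.card (S : Subgroup G)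
  cent : ∀ u ∈ (S : Subgroup G), u ≠ 1 →
    centralizer ({u} : Set G) ≤ normalizer ((S : Subgroup G) : Set G)
  se : Cfsg.IsStronglyEmbedded (normalizer ((S : Subgroup G) : Set G))

/-- The points. -/
abbrev Pts (S : Sylow 2 G) : Type u := G ⧸ normalizer ((S : Subgroup G) : Set G)

variable {S : Sylow 2 G}

/-- The involutions fixing a point. -/
def InvAt (S : Sylow 2 G) (a : Pts S) : Type u := {t : G // orderOf t = 2 ∧ t • a = a}

/-- The number of involutions of the Sylow 2-subgroup. -/
noncomputable def nInv (S : Sylow 2 G) : ℕ := Nat.card (S : Subgroup G) - 1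

/-- The stabiliser of two points. -/
abbrev Duo (G : Type u) [Group G] {Ω : Type*} [MulAction G Ω] (a b : Ω) : Subgroup G :=
  MulAction.stabilizer G a ⊓ MulAction.stabilizer G b

namespace Cfg

variable (h : Cfg S q)
include h

theorem invol_mem_iff {t : G} (ht : orderOf t = 2) :
    t ∈ normalizer ((S : Subgroup G) : Set G) ↔ t ∈ (S : Subgroup G) :=
  ⟨fun h' => H59.OneComp.mem_sylow_of_normalizes S h' (k := 1) (by rw [ht, pow_one]),
    fun h' => le_normalizer h'⟩

theorem fixes_conj {t : G} (g : G) :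
    t • (QuotientGroup.mk g : Pts S) = QuotientGroup.mk g ↔
      g⁻¹ * t * g ∈ normalizer ((S : Subgroup G) : Set G) :=
  H65.smul_coset_eq_iff

theorem invol_conj_mem {t g : G} (ht : orderOf t = 2)
    (hf : t • (QuotientGroup.mk g : Pts S) = QuotientGroup.mk g) :
    g⁻¹ * t * g ∈ (S : Subgroup G) ∧ g⁻¹ * t * g ≠ 1 := by
  have h2 : orderOf (g⁻¹ * t * g) = 2 := by
    simpa using H67.invol_conj ht g⁻¹
  exact ⟨(h.invol_mem_iff h2).1 ((h.fixes_conj g).1 hf), H59.OneComp.ne_one_of_order_two h2⟩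

/-- An involution has at most one fixed point. -/
theorem eq_of_fixed {t : G} (ht : orderOf t = 2) {a b : Pts S} (ha : t • a = a) (hb : t • b = b) :
    a = b := by
  obtain ⟨g, rfl⟩ := QuotientGroup.mk_surjective a
  obtain ⟨k, rfl⟩ := QuotientGroup.mk_surjective b
  rw [h.fixes_conj] at ha hb
  refine QuotientGroup.eq.2 (H65.se_conj_mem h.se (t := g⁻¹ * t * g) (g := g⁻¹ * k)
    (by simpa using H67.invol_conj ht g⁻¹) ha ?_)
  convert hb using 1
  group

theorem exists_invol_base : ∃ t : G, orderOf t = 2 ∧ t ∈ (S : Subgroup G) := by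
  obtain ⟨t, ht, ht2⟩ := H67.se_exists_invol_mem h.se
  exact ⟨t, ht2, (h.invol_mem_iff ht2).1 ht⟩

/-- Every involution has a fixed point. -/
theorem exists_fixed {t : G} (ht : orderOf t = 2) : ∃ a : Pts S, t • a = a := by
  obtain ⟨s, hs, hsS⟩ := h.exists_invol_base
  obtain ⟨g, hg⟩ := isConj_iff.1 (H67.se_isConj h.se hs ht)
  refine ⟨QuotientGroup.mk g, (h.fixes_conj g).2 ?_⟩
  rw [← hg, show g⁻¹ * (g * s * g⁻¹) * g = s by group]
  exact le_normalizer hsS

theorem exists_invol_at (a : Pts S) : ∃ t : G, orderOf t = 2 ∧ t • a = a := by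
  obtain ⟨g, rfl⟩ := QuotientGroup.mk_surjective a
  obtain ⟨s, hs, hsS⟩ := h.exists_invol_base
  refine ⟨g * s * g⁻¹, H67.invol_conj hs g, (h.fixes_conj g).2 ?_⟩
  rw [show g⁻¹ * (g * s * g⁻¹) * g = s by group]
  exact le_normalizer hsS

/-- Involutions with the same fixed point commute. -/
theorem commute_of_fixed {t s : G} (ht : orderOf t = 2) (hs : orderOf s = 2) {a : Pts S}
    (hta : t • a = a) (hsa : s • a = a) : Commute t s := by
  obtain ⟨g, rfl⟩ := QuotientGroup.mk_surjective a
  have h1 : Commute (g⁻¹ * t * g) (g⁻¹ * s * g) := congrArg Subtype.val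
    ((h.mix.comm_of_isPGroup S.isPGroup').is_comm.comm
      (⟨_, (h.invol_conj_mem ht hta).1⟩ : (S : Subgroup G)) ⟨_, (h.invol_conj_mem hs hsa).1⟩)
  have := h1.map (MulAut.conj g).toMonoidHom
  simpa [mul_assoc] using this

/-- What commutes with an involution fixes its point. -/
theorem fixed_of_commute {t g : G} (ht : orderOf t = 2) {a : Pts S} (hta : t • a = a)
    (hc : Commute t g) : g • a = a := by
  refine (h.eq_of_fixed ht hta ?_).symm
  rw [← mul_smul, hc.eq, mul_smul, hta]

/-- An odd element fixing a point and inverted by an involution fixing it is trivial. -/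
theorem not_inverted {w y : G} (hw : orderOf w = 2) {a : Pts S} (hwa : w • a = a) (hya : y • a = a)
    (ho : Odd (orderOf y)) (hi : w * y * w⁻¹ = y⁻¹) : y = 1 := by
  have hw' : w⁻¹ = w := inv_eq_of_mul_eq_one_right (H59.OneComp.invol_sq hw)
  have h2 : orderOf (y * w * y⁻¹) = 2 := H67.invol_conj hw y
  have h2a : (y * w * y⁻¹) • a = a := by
    rw [mul_smul, mul_smul, inv_smul_eq_iff.2 hya.symm, hwa, hya]
  have hc := h.commute_of_fixed h2 hw h2a hwa
  have he : y * w * y⁻¹ * w = y * y := by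
    rw [show y * w * y⁻¹ * w = y * (w * y⁻¹ * w⁻¹) * (w * w) by group, H59.OneComp.invol_sq hw,
      mul_one, ← conj_inv, hi, inv_inv]
  have h4 : orderOf y ∣ 2 ^ 2 := orderOf_dvd_of_pow_eq_one (by
    rw [show (2 : ℕ) ^ 2 = 2 * 2 from rfl, pow_mul, sq, sq, ← he,
      show y * w * y⁻¹ * w * (y * w * y⁻¹ * w) = (y * w * y⁻¹ * w) * (w * (y * w * y⁻¹)) by rw [hc.eq],
      show y * w * y⁻¹ * w * (w * (y * w * y⁻¹)) = y * w * y⁻¹ * (w * w) * (y * w * y⁻¹) by group,
      H59.OneComp.invol_sq hw, mul_one, H59.OneComp.invol_sq h2])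
  exact orderOf_eq_one_iff.1
    (Nat.eq_one_of_dvd_coprimes ((Nat.coprime_two_right.2 ho).pow_right 2) dvd_rfl h4)

/-- An element inverted by a moving involution commutes with no involution at that point. -/
theorem no_invol_of_inverted {v y t : G} (hv : orderOf v = 2) (ht : orderOf t = 2) {a : Pts S}
    (hta : t • a = a) (hva : v • a ≠ a) (hya : y • a = a) (hy1 : y ≠ 1)
    (hi : v * y * v⁻¹ = y⁻¹) : ¬ Commute t y := by
  intro hc
  obtain ⟨g, rfl⟩ := QuotientGroup.mk_surjective a
  rw [h.fixes_conj] at hta hya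
  have hva' : g⁻¹ * v * g ∉ normalizer ((S : Subgroup G) : Set G) := fun hm => hva ((h.fixes_conj g).2 hm)
  refine H67.se_inverted_no_invol h.se (u := g⁻¹ * v * g) (t := g⁻¹ * t * g) (j := g⁻¹ * y * g)
    (by simpa using H67.invol_conj hv g⁻¹) hva' hya ?_ ?_ (by simpa using H67.invol_conj ht g⁻¹) hta ?_
  · intro e
    exact hy1 (by rw [show y = g * (g⁻¹ * y * g) * g⁻¹ by group, e]; group)
  · calc g⁻¹ * v * g * (g⁻¹ * y * g) * (g⁻¹ * v * g)⁻¹ = g⁻¹ * (v * y * v⁻¹) * g := by group
      _ = _ := by rw [hi]; group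
  · have := hc.map (MulAut.conj g⁻¹).toMonoidHom
    simpa using this

theorem card_invAt (a : Pts S) : Nat.card (InvAt S a) = nInv S := by
  classical
  obtain ⟨g, rfl⟩ := QuotientGroup.mk_surjective a
  haveI := Fintype.ofFinite (S : Subgroup G)
  have e : InvAt S (QuotientGroup.mk g) ≃ {s : (S : Subgroup G) // s ≠ 1} :=
    { toFun := fun t => ⟨⟨g⁻¹ * t.1 * g, (h.invol_conj_mem t.2.1 t.2.2).1⟩, fun e =>
        (h.invol_conj_mem t.2.1 t.2.2).2 (congrArg Subtype.val e)⟩
      invFun := fun s => ⟨g * s.1.1 * g⁻¹,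
        H67.invol_conj (H59.OneComp.orderOf_eq_two (h.mix.sq_of_isPGroup S.isPGroup' _ s.1.2)
          fun e => s.2 (Subtype.ext e)) g,
        (h.fixes_conj g).2 (by
          rw [show g⁻¹ * (g * s.1.1 * g⁻¹) * g = s.1.1 by group]; exact le_normalizer s.1.2)⟩
      left_inv := fun t => Subtype.ext (show g * (g⁻¹ * t.1 * g) * g⁻¹ = t.1 by group)
      right_inv := fun s => Subtype.ext (Subtype.ext (show g⁻¹ * (g * s.1.1 * g⁻¹) * g = s.1.1 by group)) }
  rw [Nat.card_congr e, nInv, Nat.card_eq_fintype_card, Fintype.card_subtype_compl,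
    Fintype.card_subtype_eq, ← Nat.card_eq_fintype_card]

theorem three_le_nInv : 3 ≤ nInv S := by
  have := h.big
  unfold nInv
  omega

theorem odd_nInv : Odd (nInv S) := by
  haveI : Fact (Nat.Prime 2) := ⟨Nat.prime_two⟩
  obtain ⟨k, hk⟩ := IsPGroup.iff_card.1 S.isPGroup'
  have := h.big
  have hk0 : k ≠ 0 := by rintro rfl; rw [pow_zero] at hk; omega
  unfold nInv
  rw [hk]
  exact Nat.Even.sub_odd (Nat.one_le_two_pow) ((even_two (α := ℕ)).pow_of_ne_zero hk0) odd_one

theorem card_swaps {a b : Pts S} (hab : a ≠ b) :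
    Nat.card {i : G // orderOf i = 2 ∧ i • a = b} = nInv S := by
  obtain ⟨g, rfl⟩ := QuotientGroup.mk_surjective a
  obtain ⟨k, rfl⟩ := QuotientGroup.mk_surjective b
  set M := normalizer ((S : Subgroup G) : Set G)
  have hk : g⁻¹ * k ∉ M := fun hm => hab (QuotientGroup.eq.2 hm)
  have h1 : Nat.card (H67.involIn M) = nInv S := by
    rw [← h.card_invAt (QuotientGroup.mk 1)]
    exact Nat.card_congr ((Equiv.refl G).subtypeEquiv fun t => by
      show orderOf t = 2 ∧ t ∈ M ↔ orderOf t = 2 ∧ t • _ = _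
      rw [h.fixes_conj]; simp [M])
  rw [← h1, ← H67.card_involTo h.se hk]
  refine Nat.card_congr ((MulAut.conj g⁻¹).toEquiv.subtypeEquiv fun i => ?_)
  rw [MulAction.Quotient.smul_coe, smul_eq_mul, QuotientGroup.eq]
  show _ ↔ orderOf (g⁻¹ * i * g⁻¹⁻¹) = 2 ∧ (g⁻¹ * k)⁻¹ * (g⁻¹ * i * g⁻¹⁻¹) ∈ M
  rw [show orderOf (g⁻¹ * i * g⁻¹⁻¹) = orderOf i from MulEquiv.orderOf_eq (MulAut.conj g⁻¹) i,
    show (g⁻¹ * k)⁻¹ * (g⁻¹ * i * g⁻¹⁻¹) = ((i * g)⁻¹ * k)⁻¹ by group, inv_mem_iff]

theorem exists_swap {a b : Pts S} (hab : a ≠ b) : ∃ u : G, orderOf u = 2 ∧ u • a = b ∧ u • b = a := by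
  have hne : Nat.card {i : G // orderOf i = 2 ∧ i • a = b} ≠ 0 := by
    rw [h.card_swaps hab]; have := h.three_le_nInv; omega
  obtain ⟨⟨u, hu, hua⟩⟩ : Nonempty {i : G // orderOf i = 2 ∧ i • a = b} := (Nat.card_ne_zero.mp hne).1
  exact ⟨u, hu, hua, by rw [← hua, ← mul_smul, H59.OneComp.invol_sq hu, one_smul]⟩

theorem duo_odd {a b : Pts S} (hab : a ≠ b) : Odd (Nat.card (Duo G a b)) := by
  rw [← Nat.not_even_iff_odd]
  intro he
  obtain ⟨t, ht, ht2⟩ := H65.exists_two_mem he
  exact hab (h.eq_of_fixed ht2 (mem_inf.1 ht).1 (mem_inf.1 ht).2)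

/-- The order of a two point stabiliser. -/
theorem card_duo {a b : Pts S} (hab : a ≠ b) {u : G} (hu : orderOf u = 2) (hua : u • a = b) :
    Nat.card (Duo G a b) = nInv S * Nat.card (Duo G a b ⊓ centralizer ({u} : Set G) : Subgroup G) := by
  set D := Duo G a b
  have hu1 : u * u = 1 := H59.OneComp.invol_sq hu
  have hu' : u⁻¹ = u := inv_eq_of_mul_eq_one_right hu1
  have huu : ∀ x : G, u * (u * x * u) * u = x := fun x => by
    rw [show u * (u * x * u) * u = (u * u) * x * (u * u) by group, hu1, one_mul, mul_one]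
  have hub : u • b = a := by rw [← hua, ← mul_smul, hu1, one_smul]
  have hDu : ∀ d ∈ D, u * d * u ∈ D := fun d hd => by
    refine mem_inf.2 ⟨?_, ?_⟩
    · show (u * d * u) • a = a
      rw [mul_smul, mul_smul, hua, show d • b = b from (mem_inf.1 hd).2, hub]
    · show (u * d * u) • b = b
      rw [mul_smul, mul_smul, hub, show d • a = a from (mem_inf.1 hd).1, hua]
  -- the inverted elements
  let I := {d : G // d ∈ D ∧ u * d * u = d⁻¹}
  have hI : Nat.card I = nInv S := by
    rw [← h.card_swaps hab]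
    refine Nat.card_congr
      { toFun := fun d => ⟨u * d.1, ?_, ?_⟩
        invFun := fun i => ⟨u * i.1, ?_, ?_⟩
        left_inv := fun d => Subtype.ext (show u * (u * d.1) = d.1 by rw [← mul_assoc, hu1, one_mul])
        right_inv := fun i => Subtype.ext (show u * (u * i.1) = i.1 by rw [← mul_assoc, hu1, one_mul]) }
    · refine H59.OneComp.orderOf_eq_two ?_ fun e => ?_
      · rw [show u * d.1 * (u * d.1) = u * d.1 * u * d.1 by group, d.2.2, inv_mul_cancel]
      · have : u ∈ D := by rw [eq_inv_of_mul_eq_one_left e]; exact inv_mem d.2.1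
        exact hab (((mem_inf.1 this).1).symm.trans hua)
    · rw [mul_smul, show d.1 • a = a from (mem_inf.1 d.2.1).1, hua]
    · have hi : i.1⁻¹ = i.1 := inv_eq_of_mul_eq_one_right (H59.OneComp.invol_sq i.2.1)
      refine mem_inf.2 ⟨?_, ?_⟩
      · show (u * i.1) • a = a
        rw [mul_smul, i.2.2, hub]
      · show (u * i.1) • b = b
        have hib : i.1⁻¹ • b = a := inv_smul_eq_iff.2 i.2.2.symm
        rw [hi] at hib
        rw [mul_smul, hib, hua]
    · have hi : i.1⁻¹ = i.1 := inv_eq_of_mul_eq_one_right (H59.OneComp.invol_sq i.2.1)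
      rw [mul_inv_rev, hi, hu', ← mul_assoc, hu1, one_mul]
  rw [← hI, ← Nat.card_prod, eq_comm]
  refine Nat.card_congr (Equiv.ofBijective (fun p : I × (D ⊓ centralizer ({u} : Set G) : Subgroup G) =>
    (⟨(p.2 : G) * p.1.1, mul_mem (mem_inf.1 p.2.2).1 p.1.2.1⟩ : D)) ⟨?_, ?_⟩)
  · rintro ⟨⟨i, hi, hi'⟩, ⟨w, hw⟩⟩ ⟨⟨j, hj, hj'⟩, ⟨v, hv⟩⟩ e
    have e' : w * i = v * j := congrArg Subtype.val e
    have hwu : u * w * u = w := by
      have hc : w * u = u * w := mem_centralizer_singleton_iff.1 (mem_inf.1 hw).2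
      rw [← hc, mul_assoc, hu1, mul_one]
    have hvu : u * v * u = v := by
      have hc : v * u = u * v := mem_centralizer_singleton_iff.1 (mem_inf.1 hv).2
      rw [← hc, mul_assoc, hu1, mul_one]
    have e2 : w * i⁻¹ = v * j⁻¹ := by
      have h1 : ∀ x y : G, u * (x * y) * u = (u * x * u) * (u * y * u) := fun x y => by
        rw [show (u * x * u) * (u * y * u) = u * x * (u * u) * y * u by group, hu1, mul_one]; group
      have := congrArg (fun z => u * z * u) e'
      simp only [h1, hwu, hvu, hi', hj'] at this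
      exact this
    have hsq : i ^ 2 = j ^ 2 := by
      calc i ^ 2 = (w * i⁻¹)⁻¹ * (w * i) := by rw [sq]; group
        _ = (v * j⁻¹)⁻¹ * (v * j) := by rw [e', e2]
        _ = j ^ 2 := by rw [sq]; group
    have hij : i = j := by
      obtain ⟨k, hk⟩ := h.duo_odd hab
      have h1 : ∀ z ∈ D, z = (z ^ 2) ^ (k + 1) := fun z hz => by
        rw [← pow_mul, show 2 * (k + 1) = (2 * k + 1) + 1 by ring, pow_succ, ← hk,
          show z ^ Nat.card D = 1 from congrArg Subtype.val (pow_card_eq_one' (x := (⟨z, hz⟩ : D))),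
          one_mul]
      rw [h1 i hi, h1 j hj, hsq]
    subst hij
    exact Prod.ext rfl (Subtype.ext (mul_right_cancel e'))
  · rintro ⟨d, hd⟩
    set z := u * d⁻¹ * u * d with hz
    have hzD : z ∈ D := mul_mem (hDu _ (inv_mem hd)) hd
    have hzi : u * z * u = z⁻¹ := by
      rw [hz, mul_inv_rev, mul_inv_rev, mul_inv_rev, inv_inv, hu',
        show u * (u * d⁻¹ * u * d) * u = (u * u) * d⁻¹ * u * d * u by group, hu1, one_mul]
      group
    obtain ⟨k, hk⟩ := h.duo_odd hab
    have hh : (z ^ (k + 1)) ^ 2 = z := by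
      rw [← pow_mul, show (k + 1) * 2 = (2 * k + 1) + 1 by ring, pow_succ, ← hk,
        show z ^ Nat.card D = 1 from congrArg Subtype.val (pow_card_eq_one' (x := (⟨z, hzD⟩ : D))),
        one_mul]
    set r := z ^ (k + 1)
    have hri : u * r * u = r⁻¹ := by
      have h1 : (MulAut.conj u) r = r⁻¹ := by
        rw [map_pow, show (MulAut.conj u) z = z⁻¹ by rw [MulAut.conj_apply, hu', hzi], inv_pow]
      rwa [MulAut.conj_apply, hu'] at h1
    have hw : d * r⁻¹ ∈ D ⊓ centralizer ({u} : Set G) := by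
      refine mem_inf.2 ⟨mul_mem hd (inv_mem (pow_mem hzD _)), mem_centralizer_singleton_iff.2 ?_⟩
      have h1 : u * (d * r⁻¹) * u = d * r⁻¹ := by
        have h2 : u * r⁻¹ * u = r := by
          rw [← inv_inj, mul_inv_rev, mul_inv_rev, inv_inv, hu', ← mul_assoc, hri]
        calc u * (d * r⁻¹) * u = (u * d * u) * (u * r⁻¹ * u) := by
              rw [show (u * d * u) * (u * r⁻¹ * u) = u * d * (u * u) * r⁻¹ * u by group, hu1, mul_one]
              group
          _ = (d * z⁻¹) * r := by
              rw [h2, hz, mul_inv_rev, mul_inv_rev, mul_inv_rev, inv_inv, hu']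
              congr 1
              group
          _ = _ := by rw [← hh]; group
      calc d * r⁻¹ * u = u * u * (d * r⁻¹) * u := by rw [hu1, one_mul]
        _ = u * (u * (d * r⁻¹) * u) := by group
        _ = _ := by rw [h1]
    exact ⟨(⟨r, pow_mem hzD _, hri⟩, ⟨_, hw⟩), Subtype.ext (inv_mul_cancel_right d r)⟩

/-- An odd element centralising an involution is trivial or has order `q`. -/
theorem order_q {u x : G} (hu : orderOf u = 2) (hc : Commute x u) (ho : Odd (orderOf x)) (hx : x ≠ 1) :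
    orderOf x = q :=
  h.mix.eq_q_of_commute hu hc ho hx

theorem isPGroup_fix {a b : Pts S} (hab : a ≠ b) {u : G} (hu : orderOf u = 2) :
    IsPGroup q (Duo G a b ⊓ centralizer ({u} : Set G) : Subgroup G) :=
  h.mix.isPGroup_of_odd ((h.duo_odd hab).of_dvd_nat (card_dvd_of_le inf_le_left)) (Or.inl hu) inf_le_right

/-- The number of involutions at a point commuting with an element of order `q`, modulo `q`. -/
theorem invAt_modEq {x : G} (hx : orderOf x = q) {a : Pts S} (hxa : x • a = a) :
    nInv S ≡ Nat.card {t : InvAt S a // Commute x t.1} [MOD q] := by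
  classical
  haveI := Fact.mk h.mix.prime
  have hfix : ∀ g ∈ zpowers x, g • a = a := fun g hg =>
    (zpowers_le.2 (show x ∈ MulAction.stabilizer G a from hxa) hg : g ∈ MulAction.stabilizer G a)
  letI : MulAction (zpowers x) (InvAt S a) :=
    { smul := fun g t => ⟨(g : G) * t.1 * (g : G)⁻¹, H67.invol_conj t.2.1 g, by
        rw [mul_smul, mul_smul, inv_smul_eq_iff.2 (hfix g g.2).symm, t.2.2, hfix g g.2]⟩
      one_smul := fun t => Subtype.ext (show ((1 : zpowers x) : G) * t.1 * ((1 : zpowers x) : G)⁻¹ = t.1 by simp)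
      mul_smul := fun g k t => Subtype.ext (show ((g * k : zpowers x) : G) * t.1 * ((g * k : zpowers x) : G)⁻¹
        = (g : G) * ((k : G) * t.1 * (k : G)⁻¹) * (g : G)⁻¹ by simp [mul_assoc]) }
  haveI : Finite (InvAt S a) := Subtype.finite
  have hp : IsPGroup q (zpowers x) := IsPGroup.of_card (n := 1) (by rw [Nat.card_zpowers, hx, pow_one])
  have h1 := hp.card_modEq_card_fixedPoints (InvAt S a)
  rw [h.card_invAt a] at h1
  rw [Nat.card_congr (Equiv.subtypeEquivRight (p := fun t => t ∈ MulAction.fixedPoints (zpowers x) (InvAt S a))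
      (q := fun t : InvAt S a => Commute x t.1) fun t => ⟨fun ht => ?_, fun hc g => Subtype.ext ?_⟩)] at h1
  · exact h1
  · have := congrArg Subtype.val (ht ⟨x, mem_zpowers x⟩)
    exact mul_inv_eq_iff_eq_mul.1 this
  · obtain ⟨i, hi⟩ := mem_zpowers_iff.1 g.2
    show (g : G) * t.1 * (g : G)⁻¹ = t.1
    rw [← hi, (hc.zpow_left i).eq, mul_inv_cancel_right]

theorem exists_commute_at (hq : ¬ q ∣ nInv S) {x : G} (hx : orderOf x = q) {a : Pts S}
    (hxa : x • a = a) : ∃ t : G, orderOf t = 2 ∧ t • a = a ∧ Commute x t := by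
  by_contra hno
  haveI : IsEmpty {t : InvAt S a // Commute x t.1} := ⟨fun t => hno ⟨t.1.1, t.1.2.1, t.1.2.2, t.2⟩⟩
  have := h.invAt_modEq hx hxa
  rw [Nat.card_of_isEmpty] at this
  exact hq (Nat.modEq_zero_iff_dvd.1 this)

theorem exists_second (hq : q ∣ nInv S) {x t : G} (hx : orderOf x = q) (ht : orderOf t = 2)
    {a : Pts S} (hta : t • a = a) (hc : Commute x t) :
    ∃ s : G, orderOf s = 2 ∧ s • a = a ∧ Commute x s ∧ s ≠ t := by
  by_contra hno
  push Not at hno
  have hxa := h.fixed_of_commute ht hta hc.symm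
  haveI : Subsingleton {t : InvAt S a // Commute x t.1} := ⟨fun s s' => Subtype.ext (Subtype.ext
    ((hno _ s.1.2.1 s.1.2.2 s.2).trans (hno _ s'.1.2.1 s'.1.2.2 s'.2).symm))⟩
  haveI : Nonempty {t : InvAt S a // Commute x t.1} := ⟨⟨⟨t, ht, hta⟩, hc⟩⟩
  have h1 := h.invAt_modEq hx hxa
  rw [Nat.card_eq_one_iff_unique.2 ⟨inferInstance, inferInstance⟩] at h1
  have h0 : (0 : ℕ) ≡ 1 [MOD q] := (Nat.modEq_zero_iff_dvd.2 hq).symm.trans h1
  exact h.mix.prime.ne_one (Nat.dvd_one.1 ((Nat.modEq_zero_iff_dvd).1 h0.symm))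

/-- An element of order `q` centralising two involutions with one fixed point. -/
theorem centralizer_le_stab {x t s : G} (hx : orderOf x = q) {e : Pts S} (ht : orderOf t = 2)
    (hte : t • e = e) (hs : orderOf s = 2) (hse : s • e = e) (hts : s ≠ t) (hxt : Commute x t)
    (hxs : Commute x s) : centralizer ({x} : Set G) ≤ MulAction.stabilizer G e := by
  classical
  haveI : Fact (Nat.Prime 2) := ⟨Nat.prime_two⟩
  haveI := h.mix.solvable_centralizer (Or.inr hx)
  set C := centralizer ({x} : Set G) with hC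
  set A := closure ({t, s} : Set G)
  have hts' := h.commute_of_fixed ht hs hte hse
  have hsq : ∀ a ∈ A, a * a = 1 ∧ a • e = e ∧ a ∈ C ∧ Commute a t ∧ Commute a s := by
    intro a ha
    induction ha using closure_induction with
    | mem a ha =>
      rcases ha with rfl | rfl
      · exact ⟨H59.OneComp.invol_sq ht, hte, mem_centralizer_singleton_iff.2 hxt.symm.eq, .refl _, hts'⟩
      · exact ⟨H59.OneComp.invol_sq hs, hse, mem_centralizer_singleton_iff.2 hxs.symm.eq, hts'.symm, .refl _⟩
    | one => exact ⟨one_mul 1, one_smul G e, one_mem C, .one_left _, .one_left _⟩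
    | mul a b ha hb iha ihb =>
      have hab : Commute a b := by
        clear iha
        induction ha using closure_induction with
        | mem c hc =>
          rcases hc with rfl | rfl
          · exact ihb.2.2.2.1.symm
          · exact ihb.2.2.2.2.symm
        | one => exact .one_left _
        | mul c d _ _ hc hd => exact hc.mul_left hd
        | inv c _ hc => exact hc.inv_left
      refine ⟨?_, by rw [mul_smul, ihb.2.1, iha.2.1], mul_mem iha.2.2.1 ihb.2.2.1,
        iha.2.2.2.1.mul_left ihb.2.2.2.1, iha.2.2.2.2.mul_left ihb.2.2.2.2⟩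
      calc a * b * (a * b) = a * b * (b * a) := by rw [hab.eq]
        _ = a * (b * b) * a := by group
        _ = 1 := by rw [ihb.1, mul_one, iha.1]
    | inv a ha iha =>
      have : a⁻¹ = a := inv_eq_of_mul_eq_one_right iha.1
      rwa [this]
  have hA2 : IsPGroup 2 A := IsPGroup.iff_orderOf.2 fun ⟨a, ha⟩ => by
    rw [orderOf_mk]
    by_cases ha1 : a = 1
    · exact ⟨0, by rw [ha1, orderOf_one, pow_zero]⟩
    · exact ⟨1, by rw [H59.OneComp.orderOf_eq_two (hsq a ha).1 ha1, pow_one]⟩
  have hA4 : 2 ^ 2 ≤ Nat.card A := by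
    haveI := Fintype.ofFinite A
    have hmem : ∀ z ∈ ({1, t, s, t * s} : Finset G), z ∈ A := by
      have h1 : t ∈ A := subset_closure (by simp)
      have h2 : s ∈ A := subset_closure (by simp)
      intro z hz
      simp only [Finset.mem_insert, Finset.mem_singleton] at hz
      rcases hz with rfl | rfl | rfl | rfl
      exacts [one_mem A, h1, h2, mul_mem h1 h2]
    have hcard : ({1, t, s, t * s} : Finset G).card = 4 := by
      have ht1 := H59.OneComp.ne_one_of_order_two ht
      have hs1 := H59.OneComp.ne_one_of_order_two hs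
      have e1 : t * s ≠ 1 := fun e => hts (by
        rw [← inv_eq_of_mul_eq_one_right (H59.OneComp.invol_sq ht)]
        exact (inv_eq_of_mul_eq_one_right e).symm)
      rw [Finset.card_insert_of_notMem (by simp [ht1.symm, hs1.symm, e1.symm]),
        Finset.card_insert_of_notMem (by simp [hts.symm, hs1]),
        Finset.card_insert_of_notMem (by simp [ht1]), Finset.card_singleton]
    have := Finset.card_le_card (show ({1, t, s, t * s} : Finset G) ⊆ (A : Set G).toFinset by
      intro z hz; simpa using hmem z hz)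
    rw [hcard, Set.toFinset_card, ← Nat.card_eq_fintype_card] at this
    exact this
  have hAC : A ≤ C := fun a ha => (hsq a ha).2.2.1
  -- the odd core
  set O := Cfsg.centralizerPPrimeCore 2 x
  have hO2 : ¬ 2 ∣ Nat.card O := by
    show ¬ 2 ∣ Nat.card ((Cfsg.pPrimeCore 2 C).map C.subtype : Subgroup G)
    rw [card_map_of_injective C.subtype_injective]
    exact H84.not_dvd_card_pPrimeCore 2
  have hO : O ≤ MulAction.stabilizer G e := by
    have hCO : C ≤ normalizer (O : Set G) :=
      le_normalizer.trans (H1.le_normalizer_map_subtype_of_characteristic le_rfl _)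
    refine H8.generation_elements (h.mix.elemAb_of_isPGroup hA2) hA4 (hAC.trans hCO) hO2
      fun a ha ha1 c hc => ?_
    exact h.fixed_of_commute (H59.OneComp.orderOf_eq_two (hsq a ha).1 ha1) (hsq a ha).2.1
      (mem_centralizer_singleton_iff.1 (mem_inf.1 hc).2 : Commute c a).symm
  -- the Sylow normaliser
  obtain ⟨T, hT⟩ := (hA2.comap_subtype (K := C)).exists_le_sylow
  have hTc : IsMulCommutative ((T : Subgroup C).map C.subtype) :=
    h.mix.comm_of_isPGroup (T.isPGroup'.map _)
  have hT' : IsMulCommutative (T : Subgroup C) := ⟨⟨fun a b => Subtype.ext (Subtype.ext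
    (show ((a.1 : C) : G) * ((b.1 : C) : G) = ((b.1 : C) : G) * ((a.1 : C) : G) from
      congrArg Subtype.val (hTc.is_comm.comm
      (⟨_, _, a.2, rfl⟩ : (T : Subgroup C).map C.subtype) ⟨_, _, b.2, rfl⟩)))⟩⟩
  have htT : (⟨t, hAC (subset_closure (by simp))⟩ : C) ∈ (T : Subgroup C) :=
    hT (show t ∈ A from subset_closure (by simp))
  have hfix : ∀ z : C, z ∈ (T : Subgroup C) → (z : G) • e = e := fun z hz =>
    h.fixed_of_commute ht hte (congrArg Subtype.val (congrArg Subtype.val (hT'.is_comm.comm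
      (⟨_, htT⟩ : (T : Subgroup C)) ⟨z, hz⟩)))
  intro c hc
  haveI : (Cfsg.pPrimeCore 2 C).Normal := H1.pPrimeCore_normal' 2 _
  have htop := (H59.OneComp.normalizer_sup_core T hT').ge (mem_top (⟨c, hc⟩ : C))
  obtain ⟨n, hn, o, ho, hno⟩ := mem_sup_of_normal_right.1 htop
  replace hn : n ∈ normalizer ((T : Subgroup C) : Set C) := hn
  have hne : (n : G) • e = e := by
    have h1 := hfix _ ((mem_normalizer_iff.1 hn _).1 htT)
    have h2 : orderOf ((n : G) * t * (n : G)⁻¹) = 2 := H67.invol_conj ht n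
    refine (h.eq_of_fixed h2 (a := e) h1 ?_).symm
    rw [mul_smul, mul_smul, inv_smul_smul, hte]
  show c • e = e
  rw [show c = (n : G) * o from (congrArg Subtype.val hno).symm, mul_smul,
    show (o : G) • e = e from hO ⟨o, ho, rfl⟩, hne]

end Cfg

end H11.ThreeOrders
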