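import Cfsg.Agent.H11.ThreeOrders.Mixed.Basic
import Cfsg.Agent.H11.ThreeOrders.Mixed.Hyperplane
import Cfsg.Agent.H59.OneComp.Rank

/-!
Mixed case, Sylow 2-subgroups of order at least eight: the Sylow normaliser is strongly embedded.
-/

set_option autoImplicit false
set_option linter.style.haveILetI false
set_option linter.unusedSectionVars false

namespace H11.ThreeOrders

open Subgroup
open scoped commutatorElement

universe u

variable {G : Type u} [Group G] [Finite G] {q : ℕ}

/-- The signalizer closure is a `q`-group. -/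
theorem Mix.exists_signalizer_group (h : Mix G q) (S : Sylow 2 G)
    (hS8 : 8 ≤ Nat.card (S : Subgroup G)) :
    ∃ W : Subgroup G, IsPGroup q W ∧ normalizer ((S : Subgroup G) : Set G) ≤ normalizer (W : Set G) ∧
      ∀ u ∈ (S : Subgroup G), u ≠ 1 → Cfsg.centralizerPPrimeCore 2 u ≤ W := by
  haveI : Fact (Nat.Prime 2) := ⟨Nat.prime_two⟩
  haveI := Fact.mk h.prime
  set A := (S : Subgroup G)
  have hA : Cfsg.IsElementaryAbelian 2 A := h.elemAb_of_isPGroup S.isPGroup'
  have ho : ∀ a ∈ A, a ≠ 1 → orderOf a = 2 := fun a ha ha1 =>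
    H59.OneComp.orderOf_eq_two (h.sq_of_isPGroup S.isPGroup' a ha) ha1
  have hθ := H7.centralizerPPrimeCore_functor hA
    fun a ha ha1 => h.solvable_centralizer (Or.inl (ho a ha ha1))
  set θ := fun a : G => Cfsg.centralizerPPrimeCore 2 a
  have hq : ∀ a ∈ A, a ≠ 1 → IsPGroup q ↥(θ a) := fun a ha ha1 =>
    h.isPGroup_of_odd (Nat.odd_iff.2 (Nat.two_dvd_ne_zero.1 (hθ.1.2.1 a ha ha1)))
      (Or.inl (ho a ha ha1)) (hθ.1.1 a ha ha1)
  obtain ⟨-, X, hXinv, hX2, hX⟩ :=
    H7.complete_of_isPGroup hA (by norm_num; omega) hθ hq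
  have hAX : A ≤ normalizer (X : Set G) := le_normalizer_iff.2 hXinv
  have hXp : IsPGroup q X := by
    refine IsPGroup.of_card (n := (Nat.card X).primeFactorsList.length)
      (Nat.eq_prime_pow_of_unique_prime_dvd Nat.card_pos.ne' fun {r} hr hrd => ?_)
    by_contra hrp
    haveI := Fact.mk hr
    obtain ⟨R, hR, hAR⟩ := H8.exists_inv_sylowIn (q := r) (H7.elemAb_isPGroup hA) hAX hX2
    have hR2 : ¬ 2 ∣ Nat.card R := fun hd => hX2 (hd.trans (card_dvd_of_le hR.le))
    have hbot : R ≤ ⊥ := H8.generation_elements hA (by norm_num; omega) hAR hR2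
      fun a ha ha1 => by
        intro x hx
        have hxθ : x ∈ θ a := (hX a ha ha1).le ⟨hR.le hx.1, hx.2⟩
        obtain ⟨i, hi⟩ := IsPGroup.iff_orderOf.1 (hq a ha ha1) ⟨x, hxθ⟩
        obtain ⟨j, hj⟩ := IsPGroup.iff_orderOf.1 hR.isPGroup ⟨x, hx.1⟩
        rw [orderOf_mk] at hi hj
        rcases Nat.eq_zero_or_pos j with rfl | hj0
        · exact mem_bot.2 (orderOf_eq_one_iff.1 (by simpa using hj))
        · exact absurd ((Nat.prime_dvd_prime_iff_eq hr h.prime).1 (hr.dvd_of_dvd_pow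
            ((hi.symm.trans hj) ▸ dvd_pow_self r hj0.ne'))) hrp
    exact hR.not_dvd (by
      rw [show R = ⊥ from le_bot_iff.1 hbot]
      simpa [relIndex_bot_left] using hrd)
  refine ⟨X, hXp, ?_, fun u hu hu1 => (hX u hu hu1).ge.trans inf_le_left⟩
  have hsup : X = ⨆ a : {a : G // a ∈ A ∧ a ≠ 1}, θ a := by
    refine le_antisymm (H8.generation_elements hA (by norm_num; omega) hAX hX2 fun a ha ha1 =>
      (hX a ha ha1).le.trans (le_iSup (fun b : {a : G // a ∈ A ∧ a ≠ 1} => θ b) ⟨a, ha, ha1⟩)) ?_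
    exact iSup_le fun b => (hX b b.2.1 b.2.2).ge.trans inf_le_left
  intro n hn
  have hone : ∀ g ∈ normalizer (A : Set G), ∀ x ∈ X, g * x * g⁻¹ ∈ X := by
    intro g hg x hx
    suffices X.map (MulAut.conj g).toMonoidHom ≤ X from this ⟨x, hx, rfl⟩
    conv_lhs => rw [hsup]
    rw [Subgroup.map_iSup, hsup]
    refine iSup_le fun b => ?_
    rw [← H7.centralizerPPrimeCore_conj_eq]
    exact le_iSup (fun c : {a : G // a ∈ A ∧ a ≠ 1} => θ c)
      ⟨g * b * g⁻¹, (mem_normalizer_iff.1 hg b).1 b.2.1, fun e => b.2.2 (conj_eq_one_iff.1 e)⟩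
  refine mem_normalizer_iff.2 fun x => ⟨hone n hn x, fun hx => ?_⟩
  have := hone n⁻¹ (inv_mem hn) _ hx
  simpa [mul_assoc] using this

/-- Elements normalising `S` and a `q`-group `W` centralise `S / C_S(W)`. -/
theorem Mix.normalizer_centralizes (h : Mix G q) (S : Sylow 2 G) {W : Subgroup G} (hW : IsPGroup q W)
    (hSW : (S : Subgroup G) ≤ normalizer (W : Set G)) :
    ∀ n ∈ normalizer ((S : Subgroup G) : Set G) ⊓ normalizer (W : Set G), ∀ s ∈ (S : Subgroup G),
      n * s * n⁻¹ * s ∈ (S : Subgroup G) ⊓ centralizer (W : Set G) := by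
  classical
  haveI : Fact (Nat.Prime 2) := ⟨Nat.prime_two⟩
  haveI := Fact.mk h.prime
  by_cases hc : (S : Subgroup G) ≤ centralizer (W : Set G)
  · intro n hn s hs
    have := mul_mem ((mem_normalizer_iff.1 hn.1 s).1 hs) hs
    exact mem_inf.2 ⟨this, hc this⟩
  rename ¬ _ => hnc
  have hSc := h.comm_of_isPGroup S.isPGroup'
  have hS2 := h.sq_of_isPGroup S.isPGroup'
  set M := normalizer ((S : Subgroup G) : Set G) ⊓ normalizer (W : Set G)
  set T₀ := (S : Subgroup G) ⊓ centralizer (W : Set G) with hT₀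
  have hcomm : ∀ a ∈ (S : Subgroup G), ∀ b ∈ (S : Subgroup G), a * b = b * a := fun a ha b hb =>
    congrArg Subtype.val (hSc.is_comm.comm (⟨a, ha⟩ : (S : Subgroup G)) ⟨b, hb⟩)
  -- prime order elements centralise `S / T₀`
  have hprime : ∀ x ∈ M, Odd (orderOf x) → (orderOf x).Prime → ∀ s ∈ (S : Subgroup G),
      x * s * x⁻¹ * s ∈ T₀ := by
    intro x hx hxo hl s hs
    refine mem_inf.2 ⟨mul_mem ((mem_normalizer_iff.1 hx.1 s).1 hs) hs, commutator_centralizes
      (S : Subgroup G) W hSc hS2 h.ne_two hW hSW hx.2 hx.1 hl rfl hxo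
      (fun hxW v hv => ?_) hs⟩
    set l := orderOf x
    have hV := pow_mul_pow hx.2 hv
    obtain ⟨k, hk⟩ := IsPGroup.iff_card.1 hW
    have hd : orderOf (v * x) ∣ l * q ^ k := orderOf_dvd_of_pow_eq_one (by
      have h1 := hV l
      rw [pow_orderOf_eq_one, inv_one, mul_one] at h1
      rw [pow_mul, ← hk]
      exact congrArg Subtype.val (pow_card_eq_one' (x := (⟨(v * x) ^ l, h1⟩ : W))))
    have hodd : Odd (orderOf (v * x)) := (hxo.mul (h.odd_q.pow)).of_dvd_nat hd
    by_cases hq : q ∣ orderOf (v * x)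
    · have ho := h.order_q_of_odd hq hodd
      by_cases hlq : l = q
      · rw [hlq, ← ho, pow_orderOf_eq_one]
      exfalso
      have h1 := hV q
      rw [← ho, pow_orderOf_eq_one, one_mul, ho, inv_mem_iff] at h1
      obtain ⟨j, -, hj⟩ := Nat.exists_mul_mod_eq_one_of_coprime
        ((Nat.coprime_primes h.prime hl).2 (Ne.symm hlq)) hl.one_lt
      have h2 := W.pow_mem h1 j
      rw [← pow_mul, ← pow_mod_orderOf, show orderOf x = l from rfl, hj, pow_one] at h2
      exact hxW h2
    · exact orderOf_dvd_iff_pow_eq_one.1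
        ((((h.prime.coprime_iff_not_dvd).2 hq).symm.pow_right k).dvd_of_dvd_mul_right hd)
  obtain ⟨v, hv, hv0⟩ : ∃ v ∈ (S : Subgroup G), v ∉ T₀ := by
    by_contra hcon
    push Not at hcon
    exact hnc fun s hs => (mem_inf.1 (hcon s hs)).2
  have hT₀n : ∀ x ∈ M, ∀ c ∈ T₀, x * c * x⁻¹ ∈ T₀ := by
    intro x hx c hc
    obtain ⟨hcS, hcW⟩ := mem_inf.1 hc
    refine mem_inf.2 ⟨(mem_normalizer_iff.1 hx.1 c).1 hcS, mem_centralizer_iff.2 fun w hw => ?_⟩
    have h1 : x⁻¹ * w * x ∈ W := by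
      have := (mem_normalizer_iff.1 (inv_mem hx.2) w).1 hw
      simpa using this
    have h2 := mem_centralizer_iff.1 hcW _ h1
    calc w * (x * c * x⁻¹) = x * (x⁻¹ * w * x * c) * x⁻¹ := by group
      _ = x * (c * (x⁻¹ * w * x)) * x⁻¹ := by rw [h2]
      _ = _ := by group
  -- hence only the prime `q` occurs
  have honly : ∀ x ∈ M, Odd (orderOf x) → (orderOf x).Prime → orderOf x = q := by
    intro x hx hxo hl
    have hinv : ∀ a ∈ (S : Subgroup G), a⁻¹ = a := fun a ha => inv_eq_of_mul_eq_one_right (hS2 a ha)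
    have hc : ∀ k : ℕ, (v * x) ^ k * (x ^ k)⁻¹ ∈ (S : Subgroup G) := pow_mul_pow hx.1 hv
    have hstep : ∀ k : ℕ, x ^ k * v * (x ^ k)⁻¹ * v ∈ T₀ := by
      intro k
      induction k with
      | zero => simpa [hS2 v hv] using T₀.one_mem
      | succ k ih =>
        have h1 := mul_mem (hT₀n x hx _ ih) (hprime x hx hxo hl v hv)
        convert h1 using 1
        calc x ^ (k + 1) * v * (x ^ (k + 1))⁻¹ * v
            = x * (x ^ k * v * (x ^ k)⁻¹ * v) * (v⁻¹ * x⁻¹ * v) := by rw [pow_succ']; group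
          _ = _ := by rw [hinv v hv]; group
    have hpar : ∀ k : ℕ, (v * x) ^ k * (x ^ k)⁻¹ * v ^ k ∈ T₀ := by
      intro k
      induction k with
      | zero => simp
      | succ k ih =>
        have h1 := mul_mem ih (hstep k)
        convert h1 using 1
        have hB := (mem_normalizer_iff.1 (pow_mem hx.1 k) v).1 hv
        have hA := hc k
        have hv' := (S : Subgroup G).pow_mem hv k
        calc (v * x) ^ (k + 1) * (x ^ (k + 1))⁻¹ * v ^ (k + 1)
            = ((v * x) ^ k * (x ^ k)⁻¹) * ((x ^ k * v * (x ^ k)⁻¹) * v ^ (k + 1)) := by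
              rw [pow_succ, pow_succ x]; group
          _ = ((v * x) ^ k * (x ^ k)⁻¹) * (v ^ k * ((x ^ k * v * (x ^ k)⁻¹) * v)) := by
              rw [pow_succ, ← mul_assoc (x ^ k * v * (x ^ k)⁻¹), hcomm _ hB _ hv']; group
          _ = _ := by group
    set P := (v * x) ^ orderOf x with hP
    have hPS : P ∈ (S : Subgroup G) := by
      have := hc (orderOf x)
      rwa [pow_orderOf_eq_one, inv_one, mul_one] at this
    have hP1 : P ≠ 1 := by
      intro e
      have := hpar (orderOf x)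
      rw [pow_orderOf_eq_one, inv_one, mul_one, ← hP, e, one_mul] at this
      obtain ⟨i, hi⟩ := hxo
      rw [hi, pow_succ, pow_mul, sq, hS2 v hv, one_pow, one_mul] at this
      exact hv0 this
    have hcx : Commute x P := by
      have h1 : Commute (v * x) P := (Commute.refl _).pow_right _
      have h2 : v * P = P * v := hcomm v hv P hPS
      show x * P = P * x
      apply mul_left_cancel (a := v)
      rw [← mul_assoc, h1.eq, ← mul_assoc, ← h2, mul_assoc]
    exact h.eq_q_of_commute (H59.OneComp.orderOf_eq_two (hS2 P hPS) hP1) hcx hxo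
      (fun e => hl.ne_one (by rw [e, orderOf_one]))
  have hodd : ∀ x ∈ M, Odd (orderOf x) → ∀ s ∈ (S : Subgroup G), x * s * x⁻¹ * s ∈ T₀ := by
    intro x hx hxo s hs
    by_cases hx1 : x = 1
    · subst hx1; simpa [hS2 s hs] using T₀.one_mem
    obtain ⟨r, hr, hrd⟩ := Nat.exists_prime_and_dvd (fun e => hx1 (orderOf_eq_one_iff.1 e))
    have hr2 : Odd r := hxo.of_dvd_nat hrd
    have hrq : r = q := by
      have := honly (x ^ (orderOf x / r)) (pow_mem hx _) (by rw [orderOf_div x hrd]; exact hr2)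
        (by rw [orderOf_div x hrd]; exact hr)
      rwa [orderOf_div x hrd] at this
    exact hprime x hx hxo (by rw [h.order_q_of_odd (hrq ▸ hrd) hxo]; exact h.prime) s hs
  have hall : ∀ n ∈ M, ∀ s ∈ (S : Subgroup G), n * s * n⁻¹ * s ∈ T₀ := by
    intro n hn s hs
    obtain ⟨a, b, rfl, ha, hb, ⟨k, hk⟩, hb2⟩ := H59.OneComp.exists_two_odd n
    have haS := H59.OneComp.mem_sylow_of_normalizes S (zpowers_le.2 hn ha).1 hk
    have hbM := zpowers_le.2 hn hb
    have hbs := (mem_normalizer_iff.1 hbM.1 s).1 hs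
    rw [show a * b * s * (a * b)⁻¹ = a * (b * s * b⁻¹) * a⁻¹ by group, hcomm a haS _ hbs,
      mul_inv_cancel_right]
    exact hodd b hbM hb2 s hs
  exact hall

/-- The signalizer closure is centralised by the Sylow 2-subgroup. -/
theorem Mix.le_centralizer [IsSimpleGroup G] (h : Mix G q) (hna : ¬ IsMulCommutative G) (S : Sylow 2 G)
    {W : Subgroup G} (hW : IsPGroup q W)
    (hNW : normalizer ((S : Subgroup G) : Set G) ≤ normalizer (W : Set G)) :
    (S : Subgroup G) ≤ centralizer (W : Set G) := by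
  classical
  haveI : Fact (Nat.Prime 2) := ⟨Nat.prime_two⟩
  haveI := Fact.mk h.prime
  by_contra hnc
  have hSc := h.comm_of_isPGroup S.isPGroup'
  have hS2 := h.sq_of_isPGroup S.isPGroup'
  set T₀ := (S : Subgroup G) ⊓ centralizer (W : Set G) with hT₀
  have hcomm : ∀ a ∈ (S : Subgroup G), ∀ b ∈ (S : Subgroup G), a * b = b * a := fun a ha b hb =>
    congrArg Subtype.val (hSc.is_comm.comm (⟨a, ha⟩ : (S : Subgroup G)) ⟨b, hb⟩)
  have hall : ∀ n ∈ normalizer ((S : Subgroup G) : Set G), ∀ s ∈ (S : Subgroup G),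
      n * s * n⁻¹ * s ∈ T₀ := fun n hn =>
    h.normalizer_centralizes S hW (Subgroup.le_normalizer.trans hNW) n ⟨hn, hNW hn⟩
  obtain ⟨v, hv, hv0⟩ : ∃ v ∈ (S : Subgroup G), v ∉ T₀ := by
    by_contra hcon
    push Not at hcon
    exact hnc fun s hs => (mem_inf.1 (hcon s hs)).2
  -- transfer
  refine hv0 ?_
  have hfoc : Subgroup.focalSubgroup (S : Subgroup G) ≤ T₀ := by
    rw [Subgroup.focalSubgroup_def, closure_le]
    rintro _ ⟨hgS, x, hx, w, rfl⟩
    rw [commutatorElement_def] at hgS ⊢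
    have h2 : w * x⁻¹ * w⁻¹ ∈ (S : Subgroup G) := by
      have := (S : Subgroup G).mul_mem ((S : Subgroup G).inv_mem hx) hgS
      rwa [show x⁻¹ * (x * w * x⁻¹ * w⁻¹) = w * x⁻¹ * w⁻¹ by group] at this
    obtain ⟨k, hk, hk'⟩ := H5.control_of_commutative (hc := hSc) S x⁻¹ (inv_mem hx) w h2
    have hxi : x⁻¹ = x := inv_eq_of_mul_eq_one_right (hS2 x hx)
    rw [show x * w * x⁻¹ * w⁻¹ = x * (w * x⁻¹ * w⁻¹) by group, ← hk', hxi,
      hcomm x hx _ ((mem_normalizer_iff.1 hk x).1 hx)]
    exact hall k hk x hx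
  have hG : commutator G = ⊤ :=
    (commutator G).normal_of_characteristic.eq_bot_or_eq_top.resolve_left fun hb =>
      hna ⟨⟨fun a b => by
        rw [← commutatorElement_eq_one_iff_mul_comm, ← mem_bot, ← hb]
        exact commutator_mem_commutator (mem_top a) (mem_top b)⟩⟩
  have := H5.commutator_inf_eq_focalSubgroup_of_hall (S : Subgroup G) S.card_coprime_index
  rw [hG, top_inf_eq] at this
  exact hfoc (this ▸ hv)

/-- The normaliser of a Sylow 2-subgroup is strongly embedded. -/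
theorem Mix.se_normalizer [IsSimpleGroup G] (h : Mix G q) (hna : ¬ IsMulCommutative G) (S : Sylow 2 G)
    (hS8 : 8 ≤ Nat.card (S : Subgroup G)) :
    (∀ u ∈ (S : Subgroup G), u ≠ 1 →
        centralizer ({u} : Set G) ≤ normalizer ((S : Subgroup G) : Set G)) ∧
      Cfsg.IsStronglyEmbedded (normalizer ((S : Subgroup G) : Set G)) := by
  haveI : Fact (Nat.Prime 2) := ⟨Nat.prime_two⟩
  haveI := Fact.mk h.prime
  have hSc := h.comm_of_isPGroup S.isPGroup'
  have hS2 := h.sq_of_isPGroup S.isPGroup'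
  obtain ⟨W, hW, hNW, hθW⟩ := h.exists_signalizer_group S hS8
  have hSW := h.le_centralizer hna S hW hNW
  have hC : ∀ u ∈ (S : Subgroup G), u ≠ 1 →
      centralizer ({u} : Set G) ≤ normalizer ((S : Subgroup G) : Set G) := by
    intro u hu hu1 c hc
    haveI := h.solvable_centralizer (z := u) (Or.inl (H59.OneComp.orderOf_eq_two (hS2 u hu) hu1))
    have hle : (S : Subgroup G) ≤ centralizer ({u} : Set G) := fun s hs =>
      mem_centralizer_singleton_iff.2 (congrArg Subtype.val
        (hSc.is_comm.comm (⟨s, hs⟩ : (S : Subgroup G)) ⟨u, hu⟩))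
    set T := S.subtype hle
    have hT : IsMulCommutative (T : Subgroup (centralizer ({u} : Set G))) := ⟨⟨fun a b =>
      Subtype.ext (Subtype.ext (show ((a : centralizer ({u} : Set G)) : G) * (b : centralizer ({u} : Set G))
          = (b : centralizer ({u} : Set G)) * ((a : centralizer ({u} : Set G)) : G) from congrArg Subtype.val
        (hSc.is_comm.comm (⟨(a : centralizer ({u} : Set G)), a.2⟩ : (S : Subgroup G))
          ⟨(b : centralizer ({u} : Set G)), b.2⟩)))⟩⟩
    haveI : (Cfsg.pPrimeCore 2 (centralizer ({u} : Set G))).Normal := H1.pPrimeCore_normal' 2 _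
    have htop := (H59.OneComp.normalizer_sup_core T hT).ge (mem_top (⟨c, hc⟩ : centralizer ({u} : Set G)))
    obtain ⟨n, hn, o, ho, hno⟩ := mem_sup_of_normal_right.1 htop
    have hnN : (n : G) ∈ normalizer ((S : Subgroup G) : Set G) := by
      replace hn : n ∈ normalizer ((T : Subgroup (centralizer ({u} : Set G))) : Set (centralizer ({u} : Set G))) := hn
      rw [mem_normalizer_iff] at hn ⊢
      intro x
      constructor
      · exact fun hx => (hn ⟨x, hle hx⟩).1 hx
      · intro hx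
        have hxC : x ∈ centralizer ({u} : Set G) := by
          have := mul_mem (mul_mem (inv_mem n.2) (hle hx)) n.2
          simpa [mul_assoc] using this
        exact (hn ⟨x, hxC⟩).2 hx
    have hoW : (o : G) ∈ W := hθW u hu hu1 ⟨o, ho, rfl⟩
    have hoC : (o : G) ∈ centralizer ((S : Subgroup G) : Set G) :=
      mem_centralizer_iff.2 fun s hs => (mem_centralizer_iff.1 (hSW hs) o hoW).symm
    rw [show c = (n : G) * o from (congrArg Subtype.val hno).symm]
    exact mul_mem hnN (centralizer_le_normalizer _ hoC)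
  refine ⟨hC, (H65.se_iff_fusion (H59.OneComp.sylow_normalizer_ne_top hna S (by omega))
    (even_iff_two_dvd.2 ?_)).2
      ⟨fun t ht ht2 => hC t ?_ (H59.OneComp.ne_one_of_order_two ht2), ?_⟩⟩
  · obtain ⟨k, hk⟩ := IsPGroup.iff_card.1 S.isPGroup'
    refine (dvd_trans ?_ (card_dvd_of_le le_normalizer : Nat.card (S : Subgroup G) ∣ _))
    rw [hk]
    refine dvd_pow_self 2 fun h0 => ?_
    rw [h0, pow_zero] at hk
    omega
  · exact H59.OneComp.mem_sylow_of_normalizes S ht (k := 1) (by rw [ht2, pow_one])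
  · intro t ht s hs ht2 hs2 hts
    obtain ⟨g, hg⟩ := isConj_iff.1 hts
    have htS := H59.OneComp.mem_sylow_of_normalizes S ht (k := 1) (by rw [ht2, pow_one])
    have hsS := H59.OneComp.mem_sylow_of_normalizes S hs (k := 1) (by rw [hs2, pow_one])
    obtain ⟨k, hk, hk'⟩ := H5.control_of_commutative (hc := hSc) S t htS g (hg ▸ hsS)
    exact ⟨k, hk, hk'.trans hg⟩

end H11.ThreeOrders
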