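import Cfsg.Agent.H11.ThreeOrders.Mixed.Rank
import Cfsg.Agent.H1.Hall
import Cfsg.Agent.H35.Subnormal
import Cfsg.Agent.H16.OddOrder
import Cfsg.Agent.H28.CITGraph.Basic

/-!
Nonsolvable groups in the mixed case have a simple socle with trivial centraliser.
-/

set_option autoImplicit false
set_option linter.style.haveILetI false
set_option linter.unusedSectionVars false

namespace H11.ThreeOrders

open Subgroup H59.OneComp

universe u

variable {G : Type u} [Group G] [Finite G] {q : ℕ}

theorem isSolvable_of_normal_quotient (M : Subgroup G) [M.Normal] (hM : Group.IsSolvable M)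
    (hQ : Group.IsSolvable (G ⧸ M)) : Group.IsSolvable G := by
  haveI := hM; haveI := hQ
  exact Group.isSolvable_of_ker_le_range M.subtype (QuotientGroup.mk' M) (by simp)

/-- A Sylow 2-subgroup of order at most two forces solvability. -/
theorem solvable_of_sylow_small (T : Sylow 2 G) (hT : Nat.card (T : Subgroup G) ≤ 2) :
    Group.IsSolvable G := by
  haveI : Fact (Nat.Prime 2) := ⟨Nat.prime_two⟩
  haveI hcyc : IsCyclic (T : Subgroup G) := by
    rcases Nat.lt_or_ge (Nat.card (T : Subgroup G)) 2 with h | h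
    · have := Nat.card_pos (α := (T : Subgroup G))
      haveI : Subsingleton (T : Subgroup G) := (Nat.card_eq_one_iff_unique.1 (by omega)).1
      infer_instance
    · exact isCyclic_of_prime_card (p := 2) (by omega)
  have hN : normalizer ((T : Subgroup G) : Set G) ≤ centralizer ((T : Subgroup G) : Set G) := by
    intro n hn
    rw [mem_centralizer_iff]
    intro t ht
    by_cases ht1 : t = 1
    · rw [ht1, one_mul, mul_one]
    have hz : zpowers t = (T : Subgroup G) := eq_of_le_of_card_ge (zpowers_le.2 ht) (by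
      rw [Nat.card_zpowers]
      have := orderOf_eq_one_iff.not.2 ht1
      have := orderOf_pos t
      omega)
    have hm := (mem_normalizer_iff.1 hn t).1 ht
    rw [← hz] at hm
    obtain ⟨i, hi⟩ := mem_zpowers_iff.1 hm
    have ht2 : orderOf t = 2 := by
      have h1 : orderOf t ≤ 2 := (Nat.le_of_dvd Nat.card_pos (Subgroup.orderOf_dvd_natCard _ ht)).trans hT
      have := orderOf_eq_one_iff.not.2 ht1
      have := orderOf_pos t
      omega
    rcases Int.emod_two_eq_zero_or_one i with e | e
    · rw [← zpow_mod_orderOf, ht2, show ((2 : ℕ) : ℤ) = 2 from rfl, e, zpow_zero] at hi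
      exact absurd (conj_eq_one_iff.1 hi.symm) ht1
    · rw [← zpow_mod_orderOf, ht2, show ((2 : ℕ) : ℤ) = 2 from rfl, e, zpow_one] at hi
      exact (mul_inv_eq_iff_eq_mul.1 hi.symm).symm
  set K := (MonoidHom.transferSylow T hN).ker
  have hc : K.IsComplement' (T : Subgroup G) := MonoidHom.ker_transferSylow_isComplement' T hN
  haveI : Group.IsSolvable (T : Subgroup G) := by
    letI := IsCyclic.commGroup (α := (T : Subgroup G))
    infer_instance
  haveI : Group.IsSolvable K := by
    refine H16.FT.oddOrder ?_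
    have := T.not_dvd_index
    rw [hc.index_eq_card] at this
    exact Nat.odd_iff.2 (Nat.two_dvd_ne_zero.1 this)
  exact Group.isSolvable_of_ker_le_range K.subtype (MonoidHom.transferSylow T hN) (by simp [K])

namespace Mix

variable (h : Mix G q)
include h

/-- No nontrivial normal subgroup of prime power order. -/
theorem pgroup_normal_bot (hns : ¬ Group.IsSolvable G) {r : ℕ} (hr : r.Prime) (N : Subgroup G)
    [hNn : N.Normal] (hN : IsPGroup r N) : N = ⊥ := by
  haveI : Fact (Nat.Prime 2) := ⟨Nat.prime_two⟩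
  haveI := Fact.mk hr
  haveI := Fact.mk h.prime
  by_contra hN1
  haveI : Nontrivial N := (nontrivial_iff_ne_bot N).2 hN1
  obtain ⟨z, hzN, hz⟩ : ∃ z ∈ N, orderOf z = r := by
    obtain ⟨k, hk⟩ := IsPGroup.iff_card.1 hN
    have hk0 : k ≠ 0 := fun e => by
      rw [e, pow_zero] at hk
      exact absurd hk (Finite.one_lt_card (α := N)).ne'
    obtain ⟨z, hz⟩ := exists_prime_orderOf_dvd_card' (G := N) r (hk ▸ dvd_pow_self r hk0)
    exact ⟨z, z.2, by rw [← hz, orderOf_coe]⟩
  obtain ⟨T⟩ : Nonempty (Sylow 2 G) := inferInstance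
  set C := centralizer (N : Set G) with hCdef
  haveI : C.Normal := inferInstance
  have hCz : C ≤ centralizer ({z} : Set G) := centralizer_le (by simpa using hzN)
  have hsq : r = 2 ∨ r = q := by
    by_contra hne
    push Not at hne
    have hT4 : 2 ^ 2 ≤ Nat.card (T : Subgroup G) := by
      obtain ⟨k, hk⟩ := IsPGroup.iff_card.1 T.isPGroup'
      rw [hk]
      refine Nat.pow_le_pow_right two_pos (not_lt.1 fun hk2 => hns (solvable_of_sylow_small T ?_))
      rw [hk]
      exact (Nat.pow_le_pow_right two_pos (by omega : k ≤ 1)).trans (by norm_num)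
    refine hN1 (le_bot_iff.1 (H8.generation_elements (h.elemAb_of_isPGroup T.isPGroup') hT4
      (normalizer_eq_top_iff.2 hNn ▸ le_top) (fun hd => ?_) fun t ht ht1 x hx => ?_))
    · obtain ⟨k, hk⟩ := IsPGroup.iff_card.1 hN
      rw [hk] at hd
      exact hne.1 ((Nat.prime_dvd_prime_iff_eq Nat.prime_two hr).1 (Nat.prime_two.dvd_of_dvd_pow hd)).symm
    · by_contra hx1
      rw [mem_bot] at hx1
      obtain ⟨j, hj⟩ := IsPGroup.iff_orderOf.1 hN ⟨x, hx.1⟩
      rw [orderOf_mk] at hj
      have hq := h.eq_q_of_commute (orderOf_eq_two (h.sq_of_isPGroup T.isPGroup' t ht) ht1)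
        (mem_centralizer_singleton_iff.1 hx.2) (hj ▸ (hr.odd_of_ne_two hne.1).pow) hx1
      rw [hj] at hq
      exact hne.2 ((Nat.prime_dvd_prime_iff_eq h.prime hr).1 (h.prime.dvd_of_dvd_pow hq.symm.dvd)).symm
  have hCs : Group.IsSolvable C := by
    haveI := h.solvable_centralizer (z := z) (by rwa [hz])
    exact Group.isSolvable_of_isSolvable_injective (f := inclusion hCz) (inclusion_injective hCz)
  refine hns (isSolvable_of_normal_quotient C hCs ?_)
  rcases hsq with rfl | rfl
  · -- the Sylow 2-subgroups centralise `N`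
    refine H16.FT.oddOrder (Nat.odd_iff.2 (Nat.two_dvd_ne_zero.1 fun hd => ?_))
    rw [← Subgroup.index_eq_card] at hd
    refine T.not_dvd_index (hd.trans (index_dvd_of_le fun t ht => mem_centralizer_iff.2 fun y hy => ?_))
    exact congrArg Subtype.val ((h.comm_of_isPGroup T.isPGroup').is_comm.comm
      (⟨y, hN.le_sylow_of_normal T hy⟩ : (T : Subgroup G)) ⟨t, ht⟩)
  -- focal subgroup
  have hfocal : ∀ S : Sylow 2 G, commutator G ⊓ (S : Subgroup G) ≤ C := by
    intro S
    have hSc := h.comm_of_isPGroup S.isPGroup'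
    have hS2 := h.sq_of_isPGroup S.isPGroup'
    have hNT : (⊤ : Subgroup G) = normalizer (N : Set G) := (normalizer_eq_top_iff.2 hNn).symm
    rw [H5.commutator_inf_eq_focalSubgroup_of_hall (S : Subgroup G) S.card_coprime_index,
      Subgroup.focalSubgroup_def, closure_le]
    rintro _ ⟨hgS, x, hx, w, rfl⟩
    rw [commutatorElement_def] at hgS ⊢
    have h2 : w * x⁻¹ * w⁻¹ ∈ (S : Subgroup G) := by
      have := (S : Subgroup G).mul_mem ((S : Subgroup G).inv_mem hx) hgS
      rwa [show x⁻¹ * (x * w * x⁻¹ * w⁻¹) = w * x⁻¹ * w⁻¹ by group] at this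
    obtain ⟨k, hk, hk'⟩ := H5.control_of_commutative (hc := hSc) S x⁻¹ (inv_mem hx) w h2
    have hxi : x⁻¹ = x := inv_eq_of_mul_eq_one_right (hS2 x hx)
    have hc := h.normalizer_centralizes S hN (hNT ▸ le_top) k ⟨hk, hNT ▸ mem_top k⟩ x hx
    rw [show x * w * x⁻¹ * w⁻¹ = x * (w * x⁻¹ * w⁻¹) by group, ← hk', hxi,
      show x * (k * x * k⁻¹) = k * x * k⁻¹ * x from congrArg Subtype.val (hSc.is_comm.comm
        (⟨x, hx⟩ : (S : Subgroup G)) ⟨_, (mem_normalizer_iff.1 hk x).1 hx⟩)]
    exact (mem_inf.1 hc).2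
  haveI : Group.IsSolvable (commutator (G ⧸ C)) := by
    refine H16.FT.oddOrder (Nat.odd_iff.2 (Nat.two_dvd_ne_zero.1 fun hd => ?_))
    obtain ⟨⟨y, hy⟩, hyo⟩ := exists_prime_orderOf_dvd_card' 2 hd
    rw [orderOf_mk] at hyo
    rw [_root_.commutator_def, ← map_top_of_surjective (QuotientGroup.mk' C) (QuotientGroup.mk'_surjective C),
      ← map_commutator] at hy
    obtain ⟨d, hd', rfl⟩ := hy
    obtain ⟨a, b, hab, ha, hb, ⟨k, hk⟩, hbo⟩ := exists_two_odd d
    have haD : a ∈ commutator G := zpowers_le.2 hd' ha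
    obtain ⟨S, hS⟩ := (IsPGroup.of_card (n := k) (p := 2) (G := zpowers a)
      (by rw [Nat.card_zpowers, hk])).exists_le_sylow
    have haC : (QuotientGroup.mk' C) a = 1 :=
      (QuotientGroup.eq_one_iff a).2 (hfocal S ⟨haD, hS (mem_zpowers a)⟩)
    rw [hab, map_mul, haC, one_mul] at hyo
    have h2 : 2 ∣ orderOf b := hyo ▸ orderOf_map_dvd (QuotientGroup.mk' C) b
    exact Nat.not_even_iff_odd.2 hbo (even_iff_two_dvd.2 h2)
  exact Group.isSolvable_of_ker_le_range (commutator (G ⧸ C)).subtype Abelianization.of (by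
    rw [Abelianization.ker_of, Subgroup.range_subtype])

theorem pCore_sub_bot (hns : ¬ Group.IsSolvable G) {r : ℕ} (hr : r.Prime) (M : Subgroup G) [M.Normal] :
    Cfsg.pCore r M = ⊥ := by
  haveI := H1.pCore_characteristic r M
  haveI := H1.map_subtype_normal_of_characteristic M (Cfsg.pCore r M)
  exact (map_eq_bot_iff_of_injective _ M.subtype_injective).1
    (h.pgroup_normal_bot hns hr _ ((H1.isPGroup_pCore r M).map M.subtype))

theorem normal_not_solvable (hns : ¬ Group.IsSolvable G) (M : Subgroup G) [M.Normal] (hM : M ≠ ⊥) :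
    ¬ Group.IsSolvable M := by
  intro hs
  haveI := hs
  haveI : Nontrivial M := (nontrivial_iff_ne_bot M).2 hM
  obtain ⟨r, V, hr, hV, hV1, hVr⟩ := H1.exists_normal_pgroup_ne_bot M
  exact hV1 (le_bot_iff.1 (h.pCore_sub_bot hns hr M ▸ H1.le_pCore hVr))

omit h in
theorem exists_other_prime {M : Subgroup G} (hM : ¬ Group.IsSolvable M) (hq : q.Prime) :
    ∃ y ∈ M, (orderOf y).Prime ∧ orderOf y ≠ 2 ∧ orderOf y ≠ q := by
  by_contra hc
  push Not at hc
  refine hM (H33.isSolvable_of_two_primes Nat.prime_two hq fun r hr hd => ?_)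
  haveI := Fact.mk hr
  obtain ⟨y, hy⟩ := exists_prime_orderOf_dvd_card' (G := M) r hd
  rw [← orderOf_coe] at hy
  by_cases h2 : r = 2
  · exact Or.inl h2
  · exact Or.inr (hy ▸ hc y y.2 (hy ▸ hr) (hy ▸ h2))

omit h in
theorem exists_invol_of_not_solvable {M : Subgroup G} (hM : ¬ Group.IsSolvable M) :
    ∃ z ∈ M, orderOf z = 2 := by
  haveI : Fact (Nat.Prime 2) := ⟨Nat.prime_two⟩
  obtain ⟨z, hz⟩ := exists_prime_orderOf_dvd_card' (G := M) 2 (by
    by_contra hd
    exact hM (H16.FT.oddOrder (Nat.odd_iff.2 (Nat.two_dvd_ne_zero.1 hd))))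
  exact ⟨z, z.2, by rw [← hz, orderOf_coe]⟩

/-- Two nonsolvable subgroups do not commute. -/
theorem false_of_commuting {A B : Subgroup G} (hA : ¬ Group.IsSolvable A) (hB : ¬ Group.IsSolvable B)
    (hc : ∀ a ∈ A, ∀ b ∈ B, Commute a b) : False := by
  obtain ⟨z, hz, hz2⟩ := exists_invol_of_not_solvable hA
  obtain ⟨y, hy, hyp, hy2, hyq⟩ := exists_other_prime hB h.prime
  exact hyq (h.eq_q_of_commute hz2 (hc z hz y hy).symm (hyp.odd_of_ne_two hy2)
    (fun e => hyp.ne_one (by rw [e, orderOf_one])))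

theorem centralizer_normal_bot (hns : ¬ Group.IsSolvable G) (N : Subgroup G) [N.Normal] (hN : N ≠ ⊥) :
    centralizer (N : Set G) = ⊥ := by
  by_contra hC
  exact h.false_of_commuting (h.normal_not_solvable hns N hN)
    (h.normal_not_solvable hns (centralizer (N : Set G)) hC)
    fun a ha b hb => mem_centralizer_iff.1 hb a ha

theorem exists_simple (hns : ¬ Group.IsSolvable G) :
    ∃ N : Subgroup G, N.Normal ∧ IsSimpleGroup N ∧ ¬ IsMulCommutative N ∧
      centralizer (N : Set G) = ⊥ := by
  haveI : Nontrivial G := not_subsingleton_iff_nontrivial.1 fun _ => hns inferInstance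
  obtain ⟨N, hNn, hN1, -, hNmin⟩ := H35.exists_minimal_normal_le (⊤ : Subgroup G) top_ne_bot
  haveI := hNn
  haveI : Nontrivial N := (nontrivial_iff_ne_bot N).2 hN1
  have hNs := h.normal_not_solvable hns N hN1
  refine ⟨N, hNn, ⟨fun M hM => ?_⟩, fun hc => hNs (Group.isSolvable_of_comm fun a b => hc.is_comm.comm a b),
    h.centralizer_normal_bot hns N hN1⟩
  by_contra hMne
  push Not at hMne
  obtain ⟨K, hKn, hK1, hKM, hKmin⟩ := H35.exists_minimal_normal_le M hMne.1
  haveI := hKn
  have hKs : ¬ Group.IsSolvable K := by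
    intro hs
    haveI := hs
    haveI : Nontrivial K := (nontrivial_iff_ne_bot K).2 hK1
    obtain ⟨r, V, hr, hV, hV1, hVr⟩ := H1.exists_normal_pgroup_ne_bot K
    haveI := H1.pCore_characteristic r K
    haveI := H1.map_subtype_normal_of_characteristic K (Cfsg.pCore r K)
    have h1 := H1.le_pCore (G := N) ((H1.isPGroup_pCore r K).map K.subtype)
    rw [h.pCore_sub_bot hns hr N, le_bot_iff, map_eq_bot_iff_of_injective _ K.subtype_injective] at h1
    exact hV1 (le_bot_iff.1 (h1 ▸ H1.le_pCore hVr))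
  obtain ⟨g, hg⟩ : ∃ g : G, K.map (MulAut.conjNormal g : MulAut N).toMonoidHom ≠ K := by
    by_contra hall
    push Not at hall
    have hn : (K.map N.subtype).Normal := ⟨fun x hx g0 => by
      obtain ⟨k, hk, rfl⟩ := hx
      exact ⟨(MulAut.conjNormal g0 : MulAut N) k,
        hall g0 ▸ mem_map_of_mem (MulAut.conjNormal g0 : MulAut N).toMonoidHom hk,
        MulAut.conjNormal_apply g0 k⟩⟩
    rcases hNmin (K.map N.subtype) hn (map_subtype_le _) with e | e
    · exact hK1 ((map_eq_bot_iff_of_injective _ N.subtype_injective).1 e)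
    · refine hMne.2 (eq_top_iff.2 fun x _ => hKM ?_)
      obtain ⟨k, hk, e'⟩ := e.symm.le x.2
      exact N.subtype_injective e' ▸ hk
  set L := K.map (MulAut.conjNormal g : MulAut N).toMonoidHom with hL
  haveI : L.Normal := hKn.map _ (MulAut.conjNormal g : MulAut N).surjective
  have hint : K ⊓ L = ⊥ := by
    rcases hKmin (K ⊓ L) inferInstance inf_le_left with e | e
    · exact e
    · exfalso
      exact hg (eq_of_le_of_card_ge (inf_eq_left.1 e) (by
        rw [hL, card_map_of_injective (MulEquiv.injective _)])).symm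
  have hs' : ∀ X : Subgroup N, ¬ Group.IsSolvable X → ¬ Group.IsSolvable (X.map N.subtype) :=
    fun X hX hs => hX (by
      haveI := hs
      exact Group.isSolvable_of_isSolvable_injective
        (f := (X.equivMapOfInjective N.subtype N.subtype_injective).toMonoidHom)
        (MulEquiv.injective _))
  have hLs : ¬ Group.IsSolvable L := fun hs => hKs (by
    haveI := hs
    exact Group.isSolvable_of_isSolvable_injective
      (f := (K.equivMapOfInjective (MulAut.conjNormal g : MulAut N).toMonoidHom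
        (MulEquiv.injective _)).toMonoidHom) (MulEquiv.injective _))
  refine h.false_of_commuting (hs' K hKs) (hs' L hLs) ?_
  rintro _ ⟨a, ha, rfl⟩ _ ⟨b, hb, rfl⟩
  exact (Subgroup.commute_of_normal_of_disjoint K L hKn inferInstance (disjoint_iff.2 hint) a b ha hb).map
    N.subtype

end Mix

end H11.ThreeOrders
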