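import Cfsg.Agent.H11.ThreeOrders.Mixed.Degree

/-!
Mixed case: an element of order `q` of a two point stabiliser commuting with a swapping involution
fixes exactly three points, and then the group has degree `|S| + 1`.
-/

set_option autoImplicit false
set_option linter.style.haveILetI false
set_option linter.unusedSectionVars false

namespace H11.ThreeOrders

open Subgroup

universe u

variable {G : Type u} [Group G] [Finite G] {q : ℕ} {S : Sylow 2 G}

namespace Cfg

variable (h : Cfg S q)
include h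

/-- The elementary abelian group of a point. -/
def ptGrp (a : Pts S) : Subgroup G where
  carrier := {t | t * t = 1 ∧ t • a = a}
  one_mem' := ⟨one_mul 1, one_smul G a⟩
  mul_mem' := fun {s t} hs ht => by
    refine ⟨?_, by rw [mul_smul, ht.2, hs.2]⟩
    have hc : s * t = t * s := by
      by_cases h1 : s = 1
      · rw [h1, one_mul, mul_one]
      by_cases h2 : t = 1
      · rw [h2, one_mul, mul_one]
      exact (h.commute_of_fixed (H59.OneComp.orderOf_eq_two hs.1 h1)
        (H59.OneComp.orderOf_eq_two ht.1 h2) hs.2 ht.2).eq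
    calc s * t * (s * t) = s * t * (t * s) := by rw [hc]
      _ = s * (t * t) * s := by group
      _ = 1 := by rw [ht.1, mul_one, hs.1]
  inv_mem' := fun {s} hs => by
    rw [Set.mem_setOf_eq, inv_eq_of_mul_eq_one_right hs.1]
    exact hs

theorem mem_ptGrp {a : Pts S} {t : G} : t ∈ h.ptGrp a ↔ t * t = 1 ∧ t • a = a := Iff.rfl

theorem invol_of_ptGrp {a : Pts S} {t : G} (ht : t ∈ h.ptGrp a) (h1 : t ≠ 1) : orderOf t = 2 :=
  H59.OneComp.orderOf_eq_two ht.1 h1

theorem mem_ptGrp_of_invol {a : Pts S} {t : G} (ht : orderOf t = 2) (hta : t • a = a) : t ∈ h.ptGrp a :=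
  ⟨H59.OneComp.invol_sq ht, hta⟩

theorem conj_mem_ptGrp {a : Pts S} {t g : G} (ht : t ∈ h.ptGrp a) (hga : g • a = a) :
    g * t * g⁻¹ ∈ h.ptGrp a := by
  refine ⟨?_, by rw [mul_smul, mul_smul, inv_smul_eq_iff.2 hga.symm, ht.2, hga]⟩
  calc g * t * g⁻¹ * (g * t * g⁻¹) = g * (t * t) * g⁻¹ := by group
    _ = 1 := by rw [ht.1, mul_one, mul_inv_cancel]

theorem comm_ptGrp {a : Pts S} {s t : G} (hs : s ∈ h.ptGrp a) (ht : t ∈ h.ptGrp a) : s * t = t * s := by
  by_cases h1 : s = 1
  · rw [h1, one_mul, mul_one]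
  by_cases h2 : t = 1
  · rw [h2, one_mul, mul_one]
  exact (h.commute_of_fixed (h.invol_of_ptGrp hs h1) (h.invol_of_ptGrp ht h2) hs.2 ht.2).eq

theorem card_ptGrp (a : Pts S) : Nat.card (h.ptGrp a) = nInv S + 1 := by
  classical
  haveI := Fintype.ofFinite (h.ptGrp a)
  have e : InvAt S a ≃ {t : h.ptGrp a // t ≠ 1} :=
    { toFun := fun t => ⟨⟨t.1, h.mem_ptGrp_of_invol t.2.1 t.2.2⟩, fun e =>
        H59.OneComp.ne_one_of_order_two t.2.1 (congrArg Subtype.val e)⟩
      invFun := fun t => ⟨t.1.1, h.invol_of_ptGrp t.1.2 (fun e => t.2 (Subtype.ext e)), t.1.2.2⟩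
      left_inv := fun t => rfl
      right_inv := fun t => rfl }
  rw [← h.card_invAt a, Nat.card_congr e, Nat.card_eq_fintype_card, Nat.card_eq_fintype_card,
    Fintype.card_subtype_compl, Fintype.card_subtype_eq, Nat.sub_add_cancel]
  exact Fintype.card_pos

theorem ptGrp_inj {a b : Pts S} (hab : a ≠ b) {s t : G} (hs : s ∈ h.ptGrp a) (ht : t ∈ h.ptGrp a)
    (e : s • b = t • b) : s = t := by
  have hm := mul_mem (inv_mem hs) ht
  by_contra hne
  exact hab (h.eq_of_fixed (h.invol_of_ptGrp hm (fun e' => hne (inv_mul_eq_one.1 e'))) hm.2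
    (show (s⁻¹ * t) • b = b by rw [mul_smul, ← e, inv_smul_smul]))

/-- The involution commuting with `x` at each of its fixed points is unique. -/
theorem unique_commute {a b : Pts S} (hab : a ≠ b) {u x : G} (hu : orderOf u = 2) (hua : u • a = b)
    (hxD : x ∈ Duo G a b) (hxu : Commute x u) (hx : orderOf x = q) {f : Pts S} {s s' : G}
    (hs : orderOf s = 2) (hsf : s • f = f) (hs' : orderOf s' = 2) (hs'f : s' • f = f)
    (hxs : Commute x s) (hxs' : Commute x s') : s = s' := by
  by_contra hne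
  have hle := h.centralizer_le_stab hx hs hsf hs' hs'f (Ne.symm hne) hxs hxs'
  obtain ⟨t, ht, hta, hxt⟩ := h.exists_commute_at h.not_dvd_nInv hx (mem_inf.1 hxD).1
  have h1 : t • f = f := hle (mem_centralizer_singleton_iff.2 hxt.symm.eq)
  have h2 : u • f = f := hle (mem_centralizer_singleton_iff.2 hxu.symm.eq)
  have := h.eq_of_fixed ht h1 hta
  subst this
  exact hab (h2.symm.trans hua)

/-- The fixed points of `x` are `q`-divisible in number. -/
theorem dvd_card_points {a b : Pts S} (hab : a ≠ b) {u x : G} (hu : orderOf u = 2) (hua : u • a = b)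
    (hxD : x ∈ Duo G a b) (hxu : Commute x u) (hx : orderOf x = q) :
    q ∣ Nat.card (Pts S) ∧ q ∣ Nat.card {f : Pts S // x • f = f} := by
  classical
  haveI := Fact.mk h.mix.prime
  haveI : Fact (Nat.Prime 2) := ⟨Nat.prime_two⟩
  set C := centralizer ({x} : Set G)
  have hq := h.not_dvd_nInv
  have huC : u ∈ C := mem_centralizer_singleton_iff.2 hxu.symm.eq
  have hu1 := H59.OneComp.invol_sq hu
  -- the centraliser is transitive on the fixed points
  have horb : MulAction.orbit C a = {f : Pts S | x • f = f} := by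
    ext f
    constructor
    · rintro ⟨g, rfl⟩
      show x • (g : G) • a = (g : G) • a
      rw [← mul_smul, ← mem_centralizer_singleton_iff.1 g.2, mul_smul, show x • a = a from (mem_inf.1 hxD).1]
    · intro hf
      obtain ⟨t, ht, hta, hxt⟩ := h.exists_commute_at hq hx (mem_inf.1 hxD).1
      obtain ⟨s, hs, hsf, hxs⟩ := h.exists_commute_at hq hx hf
      set t' : C := ⟨t, mem_centralizer_singleton_iff.2 hxt.symm.eq⟩
      set s' : C := ⟨s, mem_centralizer_singleton_iff.2 hxs.symm.eq⟩
      by_cases hc : IsConj t' s'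
      · obtain ⟨g, hg⟩ := isConj_iff.1 hc
        refine ⟨g, h.eq_of_fixed hs ?_ hsf⟩
        have hg' : (g : G) * t * (g : G)⁻¹ = s := congrArg Subtype.val hg
        show s • (g : G) • a = (g : G) • a
        rw [← hg', mul_smul, mul_smul, inv_smul_smul, hta]
      · obtain ⟨z, -, hz, hzt, hzs⟩ := H70.exists_commute_of_not_isConj
          (x := t') (y := s') (by rw [← orderOf_coe]; exact ht) (by rw [← orderOf_coe]; exact hs) hc
        have hz2 : orderOf (z : G) = 2 := by rw [orderOf_coe]; exact hz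
        obtain ⟨p, hp⟩ := h.exists_fixed hz2
        have h1 := h.fixed_of_commute hz2 hp (show Commute (z : G) t from congrArg Subtype.val hzt)
        have h2 := h.fixed_of_commute hz2 hp (show Commute (z : G) s from congrArg Subtype.val hzs)
        refine ⟨1, ?_⟩
        show ((1 : C) : G) • a = f
        rw [Subgroup.coe_one, one_smul, h.eq_of_fixed ht hta h1, h.eq_of_fixed hs hsf h2]
  haveI := Fintype.ofFinite (Pts S)
  haveI := Fintype.ofFinite {f : Pts S // x • f = f}
  set F := {f : Pts S // x • f = f} with hF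
  have hcardF : Nat.card F = (MulAction.stabilizer C a).index := by
    rw [MulAction.index_stabilizer, horb, ← Nat.card_coe_set_eq]
    rfl
  obtain ⟨e, hue⟩ := h.exists_fixed hu
  have hxe : x • e = e := h.fixed_of_commute hu hue hxu.symm
  -- the number of fixed points is odd
  have hodd : Odd (Nat.card F) := by
    letI : MulAction (zpowers u) F :=
      { smul := fun g f => ⟨(g : G) • f.1, by
          have hg : Commute x (g : G) := by
            obtain ⟨j, hj⟩ := mem_zpowers_iff.1 g.2
            rw [← hj]; exact hxu.zpow_right j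
          rw [← mul_smul, hg.eq, mul_smul, f.2]⟩
        one_smul := fun f => Subtype.ext (one_smul G f.1)
        mul_smul := fun g k f => Subtype.ext (mul_smul (g : G) (k : G) f.1) }
    have hp : IsPGroup 2 (zpowers u) :=
      IsPGroup.of_card (n := 1) (by rw [Nat.card_zpowers, hu, pow_one])
    have h1 := hp.card_modEq_card_fixedPoints F
    haveI : Subsingleton (MulAction.fixedPoints (zpowers u) F) := ⟨fun f f' => Subtype.ext (Subtype.ext
      (h.eq_of_fixed hu (congrArg Subtype.val (f.2 ⟨u, mem_zpowers u⟩))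
        (congrArg Subtype.val (f'.2 ⟨u, mem_zpowers u⟩))))⟩
    haveI : Nonempty (MulAction.fixedPoints (zpowers u) F) := ⟨⟨⟨e, hxe⟩, fun g => Subtype.ext (by
      obtain ⟨j, hj⟩ := mem_zpowers_iff.1 g.2
      show (g : G) • e = e
      rw [← hj]
      exact MulAction.mem_stabilizer_iff.1 (zpow_mem (MulAction.mem_stabilizer_iff.2 hue) j))⟩⟩
    rw [(Nat.card_eq_one_iff_unique (α := MulAction.fixedPoints (zpowers u) F)).2
      ⟨inferInstance, inferInstance⟩] at h1
    rw [Nat.odd_iff]
    exact h1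
  have h2F : 2 ≤ Nat.card F := by
    rw [Nat.card_eq_fintype_card]
    exact Fintype.one_lt_card_iff.2 ⟨⟨a, (mem_inf.1 hxD).1⟩, ⟨b, (mem_inf.1 hxD).2⟩,
      fun e' => hab (congrArg Subtype.val e')⟩
  obtain ⟨r, hr, hrF⟩ := Nat.exists_prime_and_dvd (show Nat.card F ≠ 1 by omega)
  have hqF : q ∣ Nat.card F := by
    rcases h.mix.primes_centralizer (Or.inr hx) r hr ((hrF.trans (dvd_of_eq hcardF)).trans (index_dvd_card _))
      with rfl | rfl
    · exact absurd (even_iff_two_dvd.2 hrF) (Nat.not_even_iff_odd.2 hodd)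
    · exact hrF
  refine ⟨?_, hqF⟩
  have hp : IsPGroup q (zpowers x) := IsPGroup.of_card (n := 1) (by rw [Nat.card_zpowers, hx, pow_one])
  have h1 := hp.card_modEq_card_fixedPoints (Pts S)
  rw [show Nat.card (MulAction.fixedPoints (zpowers x) (Pts S)) = Nat.card F from
    Nat.card_congr (Equiv.subtypeEquivRight fun f => ⟨fun hf => hf ⟨x, mem_zpowers x⟩,
      fun hf g => (zpowers_le.2 (show x ∈ MulAction.stabilizer G f from hf) g.2 :
        (g : G) ∈ MulAction.stabilizer G f)⟩)] at h1
  exact Nat.modEq_zero_iff_dvd.1 (h1.trans (Nat.modEq_zero_iff_dvd.2 hqF))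

/-- The degree is `|S| + 1`. -/
theorem card_points_eq {a b : Pts S} (hab : a ≠ b) {u x : G} (hu : orderOf u = 2) (hua : u • a = b)
    (hxD : x ∈ Duo G a b) (hxu : Commute x u) (hx : orderOf x = q) :
    Nat.card (Pts S) = nInv S + 2 := by
  haveI := Fact.mk h.mix.prime
  obtain ⟨t, ht, hta⟩ := h.exists_invol_at a
  obtain ⟨k, hk⟩ := h.card_cent ht
  have h1 := h.card_points hab hu hua ht hta
  obtain ⟨j, hj⟩ := IsPGroup.iff_card.1 (h.isPGroup_fix hab hu)
  rw [hj, hk] at h1
  have hqn := (h.dvd_card_points hab hu hua hxD hxu hx).1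
  have hpos : 0 < Nat.card (Pts S) := Nat.card_pos
  have hco : Nat.Coprime q (Nat.card (Pts S) - 1) := h.mix.prime.coprime_iff_not_dvd.2 fun hd => by
    have h2 := Nat.dvd_sub hqn hd
    rw [show Nat.card (Pts S) - (Nat.card (Pts S) - 1) = 1 by omega, Nat.dvd_one] at h2
    exact h.mix.prime.ne_one h2
  have hd1 : Nat.card (Pts S) - 1 ∣ nInv S + 1 :=
    (Nat.Coprime.pow_left k hco).symm.dvd_of_dvd_mul_right (h1 ▸ dvd_mul_right _ _)
  haveI : Fact (Nat.Prime 2) := ⟨Nat.prime_two⟩
  obtain ⟨n, hn⟩ := IsPGroup.iff_card.1 S.isPGroup'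
  have hm : nInv S + 1 = 2 ^ n := by
    have := h.big
    unfold nInv; omega
  have hd2 : nInv S + 1 ∣ Nat.card (Pts S) - 1 :=
    (hm ▸ ((Nat.coprime_primes Nat.prime_two h.mix.prime).2 h.mix.ne_two.symm).pow n j
      : Nat.Coprime (nInv S + 1) (q ^ j)).dvd_of_dvd_mul_right (h1 ▸ dvd_mul_right _ _)
  have := Nat.dvd_antisymm hd1 hd2
  omega

theorem ptGrp_regular (hdeg : Nat.card (Pts S) = nInv S + 2) {a b : Pts S} (hab : a ≠ b) {c : Pts S}
    (hc : c ≠ a) : ∃ τ ∈ h.ptGrp a, τ • b = c := by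
  classical
  haveI := Fintype.ofFinite (Pts S)
  haveI := Fintype.ofFinite (h.ptGrp a)
  let f : h.ptGrp a → {c : Pts S // c ≠ a} := fun τ => ⟨(τ : G) • b, fun e => hab
    (MulAction.injective (τ : G) (τ.2.2.trans e.symm))⟩
  have hinj : Function.Injective f := fun s t e =>
    Subtype.ext (h.ptGrp_inj hab s.2 t.2 (congrArg Subtype.val e))
  have hbij : Function.Bijective f := (Fintype.bijective_iff_injective_and_card f).2 ⟨hinj, by
    rw [← Nat.card_eq_fintype_card, h.card_ptGrp, Fintype.card_subtype_compl, Fintype.card_subtype_eq,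
      ← Nat.card_eq_fintype_card, hdeg]
    omega⟩
  obtain ⟨τ, hτ⟩ := hbij.2 ⟨c, hc⟩
  exact ⟨τ, τ.2, congrArg Subtype.val hτ⟩

/-- The three fixed points. -/
theorem three_points {a b : Pts S} (hab : a ≠ b) {u x : G} (hu : orderOf u = 2) (hua : u • a = b)
    (hxD : x ∈ Duo G a b) (hxu : Commute x u) (hx : orderOf x = q) {e : Pts S} (hue : u • e = e) :
    q = 3 ∧ ∃ t : G, orderOf t = 2 ∧ t • a = a ∧ Commute x t ∧ t • b = e := by
  classical
  have hdeg := h.card_points_eq hab hu hua hxD hxu hx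
  obtain ⟨t, ht, hta, hxt⟩ := h.exists_commute_at h.not_dvd_nInv hx (mem_inf.1 hxD).1
  have hxb : x • b = b := (mem_inf.1 hxD).2
  have hclass : ∀ f : Pts S, x • f = f → f = a ∨ f = b ∨ f = t • b := by
    intro f hf
    refine or_iff_not_imp_left.2 fun hfa => ?_
    obtain ⟨τ, hτ, rfl⟩ := h.ptGrp_regular hdeg hab hfa
    have hxi : x⁻¹ • b = b := inv_smul_eq_iff.2 hxb.symm
    have hcx : x * τ * x⁻¹ = τ := h.ptGrp_inj hab (h.conj_mem_ptGrp hτ (mem_inf.1 hxD).1) hτ (by
      rw [mul_smul, hxi, mul_smul, hf])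
    by_cases hτ1 : τ = 1
    · left; rw [hτ1, one_smul]
    · right
      rw [h.unique_commute hab hu hua hxD hxu hx (h.invol_of_ptGrp hτ hτ1) hτ.2 ht hta
        (mul_inv_eq_iff_eq_mul.1 hcx) hxt]
  have hea : e ≠ a := fun e' => hab (by subst e'; exact hue.symm.trans hua)
  have heb : e ≠ b := fun e' => hab (by
    subst e'
    exact (MulAction.injective u (hua.trans hue.symm)))
  have hxe : x • e = e := h.fixed_of_commute hu hue hxu.symm
  have he : t • b = e := (((hclass e hxe).resolve_left hea).resolve_left heb).symm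
  refine ⟨?_, t, ht, hta, hxt, he⟩
  have hqF := (h.dvd_card_points hab hu hua hxD hxu hx).2
  haveI := Fintype.ofFinite (Pts S)
  rw [Nat.card_eq_fintype_card, Fintype.card_subtype,
    show (Finset.univ.filter fun f : Pts S => x • f = f) = {a, b, e} by
      ext f
      simp only [Finset.mem_filter, Finset.mem_univ, true_and, Finset.mem_insert, Finset.mem_singleton]
      refine ⟨fun hf => he ▸ hclass f hf, ?_⟩
      rintro (rfl | rfl | rfl)
      exacts [(mem_inf.1 hxD).1, hxb, hxe],
    Finset.card_insert_of_notMem (by simp [hab, hea.symm]), Finset.card_insert_of_notMem (by simp [heb.symm]),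
    Finset.card_singleton] at hqF
  exact (Nat.prime_dvd_prime_iff_eq h.mix.prime Nat.prime_three).1 hqF

end Cfg

end H11.ThreeOrders
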